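import Cfsg.Agent.Chars2.ExtendChar

/-!
Extension of invariant linear characters by transfer, and determinant normalisation.
-/

namespace Cfsg.Agent.Chars2

open Representation

variable {G : Type*} [Group G] {N : Subgroup G} [hN : N.Normal]

/-- Transfer of an extension of an invariant linear character. -/
theorem transfer_eq_pow_of_invariant {A : Type*} [CommGroup A] {H : Subgroup G} [H.FiniteIndex]
    (lam : N →* A) (hinv : ∀ (g : G) (n : N), lam (MulAut.conjNormal g n) = lam n)
    (hNH : N ≤ H) (ν : H →* A) (hν : ∀ n : N, ν ⟨n, hNH n.2⟩ = lam n) (n : N) :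
    MonoidHom.transfer ν (n : G) = lam n ^ H.index := by
  classical
  let := H.fintypeQuotientOfFiniteIndex
  rw [MonoidHom.transfer_eq_prod_quotient_orbitRel_zpowers_quot,
    Finset.prod_congr rfl (g := fun q => lam n ^ Function.minimalPeriod ((n : G) • ·) q.out)
      (fun q _ => ?_), Finset.prod_pow_eq_pow_sum, ← Subgroup.index_eq_sum_minimalPeriod H]
  set k := Function.minimalPeriod ((n : G) • ·) q.out
  have h1 := hν (MulAut.conjNormal (q.out.out)⁻¹ (n ^ k))
  rw [hinv, map_pow lam] at h1
  rw [← h1]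
  congr 1
  ext
  simp only [MulAut.conjNormal_apply, SubgroupClass.coe_pow, inv_inv, k]

theorem hom_conj_of_fun (lam : N →* ℂˣ)
    (hinv : ∀ (g : G) (n : N),
      (lam ⟨g * n * g⁻¹, hN.conj_mem (n : G) n.2 g⟩ : ℂ) = (lam n : ℂ))
    (g : G) (n : N) : lam (MulAut.conjNormal g n) = lam n :=
  Units.ext (inv_conjNormal (fun n => (lam n : ℂ)) hinv g n)

/-- An invariant linear character with coprime order extends to one of the same order. -/
theorem exists_ext_same_order [Finite G] (lam : N →* ℂˣ)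
    (hinv : ∀ (g : G) (n : N), lam (MulAut.conjNormal g n) = lam n)
    (hcop : Nat.Coprime N.index (orderOf lam)) :
    ∃ μ : G →* ℂˣ, (∀ n : N, μ (n : G) = lam n) ∧ orderOf μ = orderOf lam := by
  obtain ⟨u, hu⟩ : ∃ u : ℕ, N.index * u ≡ 1 [MOD orderOf lam] := by
    by_cases h1 : orderOf lam = 1
    · exact ⟨0, by rw [h1]; exact Nat.modEq_one⟩
    · obtain ⟨u, hu⟩ := Nat.exists_mul_mod_eq_one_of_coprime hcop (by
        have : 0 < orderOf lam := by
          refine orderOf_pos_iff.mpr (isOfFinOrder_iff_pow_eq_one.mpr ⟨Nat.card N, Nat.card_pos, ?_⟩)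
          ext n
          rw [MonoidHom.pow_apply, ← map_pow, pow_card_eq_one']
          simp
        omega)
      exact ⟨u, by rw [Nat.ModEq, hu.2, Nat.mod_eq_of_lt (by omega)]⟩
  let τ := MonoidHom.transfer lam
  have hres : ∀ n : N, (τ ^ u) (n : G) = lam n := by
    intro n
    rw [MonoidHom.pow_apply, show τ (n : G) = lam n ^ N.index from
      transfer_eq_pow_of_invariant lam hinv le_rfl lam (fun _ => rfl) n, ← pow_mul]
    have hd : orderOf (lam n) ∣ orderOf lam :=
      orderOf_dvd_of_pow_eq_one (by rw [← MonoidHom.pow_apply, pow_orderOf_eq_one]; rfl)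
    conv_rhs => rw [← pow_one (lam n)]
    exact pow_eq_pow_iff_modEq.mpr (hu.of_dvd hd)
  refine ⟨τ ^ u, hres, Nat.dvd_antisymm ?_ ?_⟩
  · have hlam : ∀ x : N, lam x ^ orderOf lam = 1 := fun x => by
      rw [← MonoidHom.pow_apply, pow_orderOf_eq_one]; rfl
    refine orderOf_dvd_of_pow_eq_one (MonoidHom.ext fun g => ?_)
    have : τ g ^ orderOf lam = 1 := by
      classical
      let := N.fintypeQuotientOfFiniteIndex
      show MonoidHom.transfer lam g ^ orderOf lam = 1
      rw [MonoidHom.transfer_eq_prod_quotient_orbitRel_zpowers_quot, ← Finset.prod_pow]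
      exact Finset.prod_eq_one fun q _ => hlam _
    rw [MonoidHom.pow_apply, MonoidHom.pow_apply, pow_right_comm, this, one_pow]
    rfl
  · refine orderOf_dvd_of_pow_eq_one (MonoidHom.ext fun n => ?_)
    rw [MonoidHom.pow_apply, ← hres, ← MonoidHom.pow_apply, pow_orderOf_eq_one]
    rfl

/-- Uniqueness of the extension of coprime order. -/
theorem ext_unique_of_coprime [Finite G] (μ μ' : G →* ℂˣ)
    (h : ∀ n : N, μ (n : G) = μ' (n : G))
    (h1 : Nat.Coprime N.index (orderOf μ)) (h2 : Nat.Coprime N.index (orderOf μ')) : μ = μ' := by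
  have hx : (μ / μ') ^ N.index = 1 := MonoidHom.ext fun g => by
    rw [MonoidHom.pow_apply, ← map_pow]
    have := h ⟨g ^ N.index, N.pow_index_mem g⟩
    simp only at this
    simp [this]
  refine MonoidHom.ext fun g => ?_
  have e1 : μ g ^ orderOf μ = 1 := by rw [← MonoidHom.pow_apply, pow_orderOf_eq_one]; rfl
  have e2 : μ' g ^ orderOf μ' = 1 := by rw [← MonoidHom.pow_apply, pow_orderOf_eq_one]; rfl
  have hy : (μ g / μ' g) ^ (orderOf μ * orderOf μ') = 1 := by
    rw [div_pow, pow_mul, e1, one_pow, mul_comm, pow_mul, e2, one_pow, div_one]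
  have hx' : (μ g / μ' g) ^ N.index = 1 := by
    have := congrArg (fun f : G →* ℂˣ => f g) hx
    simpa using this
  have e := pow_gcd_eq_one.mpr ⟨hx', hy⟩
  rw [Nat.Coprime.gcd_eq_one (Nat.Coprime.mul_right h1 h2), pow_one, div_eq_one] at e
  exact e

variable {d : ℕ} (ρ : Representation ℂ N (Fin d → ℂ))

/-- Two extensions of an irreducible representation differ by a linear character. -/
theorem twist_of_extensions [ρ.IsIrreducible] (η η' : Representation ℂ G (Fin d → ℂ))
    (h : ∀ n : N, η n = ρ n) (h' : ∀ n : N, η' n = ρ n) :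
    ∃ l : G →* ℂˣ, (∀ n : N, l n = 1) ∧ ∀ g, η' g = (l g : ℂ) • η g := by
  haveI := nontrivial_of_irreducible ρ
  obtain ⟨v, hv⟩ := exists_ne (0 : Fin d → ℂ)
  have hconj : ∀ (g : G) (n : N), (η' g * η g⁻¹) * ρ n = ρ n * (η' g * η g⁻¹) := by
    intro g n
    have e1 : η g⁻¹ * ρ n = ρ (MulAut.conjNormal g⁻¹ n) * η g⁻¹ := by
      rw [← h, ← h, ← map_mul, ← map_mul]; congr 1; simp
    have e2 : η' g * ρ (MulAut.conjNormal g⁻¹ n) = ρ n * η' g := by
      rw [← h', ← h', ← map_mul, ← map_mul]; congr 1; simp [mul_assoc]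
    rw [mul_assoc, e1, ← mul_assoc, e2, mul_assoc]
  choose c hc using fun g => scalar_of_commute ρ _ (hconj g)
  have hsm : ∀ g, η' g = c g • η g := fun g => by
    have h0 := congrArg (· * η g) (hc g)
    simp only [mul_assoc, ← map_mul, inv_mul_cancel, map_one, mul_one] at h0
    rw [h0, Algebra.algebraMap_eq_smul_one, smul_one_mul]
  have hinj : ∀ g, Function.Injective (η g) := fun g =>
    Function.LeftInverse.injective (g := η g⁻¹) fun w => by
      rw [← Module.End.mul_apply, ← map_mul, inv_mul_cancel, map_one]; rfl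
  have key : ∀ g (x : ℂ), η' g = x • η g → c g = x := by
    intro g x hx
    have h1 := LinearMap.congr_fun ((hsm g).symm.trans hx) v
    simp only [LinearMap.smul_apply] at h1
    exact smul_left_injective ℂ (fun h0 : η g v = 0 => hv (hinj g (h0.trans (map_zero _).symm))) h1
  let f : G →* ℂ :=
    { toFun := c
      map_one' := key 1 1 (by simp)
      map_mul' := fun a b => key _ _ (by
        rw [map_mul, map_mul, hsm a, hsm b, smul_mul_smul_comm]) }
  refine ⟨f.toHomUnits, fun n => Units.ext (key _ _ (by rw [h', h]; simp)), hsm⟩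

/-- Unique extension with prescribed determinant. -/
theorem existsUnique_ext_det [Finite G] [ρ.IsIrreducible] (hcop : Nat.Coprime N.index d)
    (η₀ : Representation ℂ G (Fin d → ℂ)) (hη₀ : ∀ n : N, η₀ n = ρ n)
    (μ : G →* ℂˣ) (hμ : ∀ n : N, μ n = detHom ρ n) :
    ∃! χ : G → ℂ, IsIrrCharacter G χ ∧ (∀ n : N, χ n = ρ.character n) ∧
      detChar χ = linFun μ := by
  have hmk : ∀ η : Representation ℂ G (Fin d → ℂ), (∀ n : N, η n = ρ n) → η.IsIrreducible :=
    fun η hη => isIrreducible_of_comp N.subtype η (by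
      rw [show η.comp N.subtype = ρ from MonoidHom.ext hη]; infer_instance)
  have hdet : ∀ (η η' : Representation ℂ G (Fin d → ℂ)) (l : G →* ℂˣ),
      (∀ g, η' g = (l g : ℂ) • η g) → detHom η' = l ^ d * detHom η := by
    intro η η' l hl
    refine MonoidHom.ext fun g => Units.ext ?_
    simp [hl]
  have hind : ∀ l : G →* ℂˣ, (∀ n : N, l n = 1) → l ^ N.index = 1 := fun l hl =>
    MonoidHom.ext fun g => by
      rw [MonoidHom.pow_apply, ← map_pow]
      exact hl ⟨g ^ N.index, N.pow_index_mem g⟩
  obtain ⟨w, hw⟩ : ∃ w : ℕ, d * w ≡ 1 [MOD N.index] := by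
    by_cases h1 : N.index = 1
    · exact ⟨0, by rw [h1]; exact Nat.modEq_one⟩
    · obtain ⟨w, hw⟩ := Nat.exists_mul_mod_eq_one_of_coprime hcop.symm (by
        have : N.index ≠ 0 := Subgroup.FiniteIndex.index_ne_zero
        omega)
      exact ⟨w, by
        have : N.index ≠ 0 := Subgroup.FiniteIndex.index_ne_zero
        rw [Nat.ModEq, hw.2, Nat.mod_eq_of_lt (by omega)]⟩
  let q : G →* ℂˣ := μ / detHom η₀
  have hq : ∀ g, q g = μ g / detHom η₀ g := fun g => rfl
  have hqN : ∀ n : N, q n = 1 := fun n => by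
    rw [hq, hμ, div_eq_one]
    exact Units.ext (by simp [hη₀])
  let l : G →* ℂˣ := q ^ w
  have hl1 : ∀ n : N, l n = 1 := fun n => by simp [l, hqN]
  have hld : ∀ g, l g ^ d = q g := fun g => by
    have hd : orderOf (q g) ∣ N.index := orderOf_dvd_of_pow_eq_one (by
      rw [← MonoidHom.pow_apply, hind q hqN]; rfl)
    show (q g ^ w) ^ d = q g
    rw [← pow_mul, mul_comm]
    conv_rhs => rw [← pow_one (q g)]
    exact pow_eq_pow_iff_modEq.mpr (hw.of_dvd hd)
  let η : Representation ℂ G (Fin d → ℂ) :=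
    { toFun := fun g => (l g : ℂ) • η₀ g
      map_one' := by simp
      map_mul' := fun a b => by simp [smul_smul, mul_comm] }
  have hηN : ∀ n : N, η n = ρ n := fun n => by
    show (l n : ℂ) • η₀ n = _
    rw [hl1, hη₀, Units.val_one, one_smul]
  haveI := hmk η hηN
  have hηdet : detHom η = μ := by
    refine MonoidHom.ext fun g => ?_
    rw [hdet η₀ η l fun g => rfl, MonoidHom.mul_apply, MonoidHom.pow_apply, hld, hq, div_mul_cancel]
  refine ⟨η.character, ⟨⟨d, η, inferInstance, rfl⟩, fun n => ?_, ?_⟩, ?_⟩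
  · rw [Representation.character, Representation.character, hηN]
  · rw [detChar_eq η _ rfl, hηdet]
  · rintro χ' ⟨⟨k, σ, hσ, rfl⟩, hχ', hχd⟩
    haveI := hσ
    obtain ⟨e⟩ := equiv_of_character_eq ρ (σ.comp N.subtype) (funext fun n => (hχ' n).symm)
    let η' : Representation ℂ G (Fin d → ℂ) :=
      (e.symm.toLinearEquiv.conjAlgEquiv ℂ).toMonoidHom.comp σ
    have hη'N : ∀ n : N, η' n = ρ n := fun n => e.symm.conj_apply_self n
    haveI := hmk η' hη'N
    have hch : η'.character = σ.character := funext fun g =>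
      LinearMap.trace_conj' (σ g) e.symm.toLinearEquiv
    obtain ⟨l', hl'N, hl'⟩ := twist_of_extensions ρ η η' hηN hη'N
    rw [← hch, detChar_eq η' _ rfl] at hχd
    have h1 := linFun_injective hχd
    rw [hdet η η' l' hl', hηdet] at h1
    have h2 : l' = 1 := MonoidHom.ext fun g => by
      have e1 : l' g ^ N.index = 1 := by rw [← MonoidHom.pow_apply, hind l' hl'N]; rfl
      have e2 : l' g ^ d = 1 := by
        have := congrArg (fun f : G →* ℂˣ => f g) h1
        simpa using this
      have := pow_gcd_eq_one.mpr ⟨e1, e2⟩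
      rwa [hcop.gcd_eq_one, pow_one] at this
    rw [← hch]
    funext g
    rw [Representation.character, Representation.character, hl', h2]
    simp

end Cfsg.Agent.Chars2
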