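import Cfsg.Agent.Chars2.CycLocal
import Cfsg.Agent.Blocks.Basic
import Cfsg.Agent.Blocks.Orth
import Cfsg.Agent.Chars.Eigen
import Cfsg.Agent.OddChar.GaloisAut

/-!
The permutation of the irreducible characters by a field automorphism, and its effect on blocks
when the automorphism fixes the roots of unity of order prime to `p`.
-/

set_option autoImplicit false
set_option linter.unusedSectionVars false

namespace Cfsg.Agent.Chars2.Cyc

open Cfsg Cfsg.Agent Cfsg.Agent.Blocks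

universe u

variable {G : Type u} [Group G] [Fintype G]

/-- The action of a field automorphism on the irreducible characters. -/
noncomputable def gal (σ : ℂ ≃+* ℂ) : Equiv.Perm (IrrCharacter G) where
  toFun χ := ⟨fun g => σ ((χ : G → ℂ) g), OddChar.isIrrCharacter_map σ χ.2⟩
  invFun χ := ⟨fun g => σ.symm ((χ : G → ℂ) g), OddChar.isIrrCharacter_map σ.symm χ.2⟩
  left_inv χ := Subtype.ext (funext fun _ => σ.symm_apply_apply _)
  right_inv χ := Subtype.ext (funext fun _ => σ.apply_symm_apply _)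

theorem gal_apply (σ : ℂ ≃+* ℂ) (χ : IrrCharacter G) (g : G) :
    (gal σ χ : G → ℂ) g = σ ((χ : G → ℂ) g) := rfl

theorem gal_iterate (σ : ℂ ≃+* ℂ) (χ : IrrCharacter G) (j : ℕ) (g : G) :
    ((gal σ)^[j] χ : G → ℂ) g = (⇑σ)^[j] ((χ : G → ℂ) g) := by
  induction j generalizing χ with
  | zero => rfl
  | succ j ih => rw [Function.iterate_succ_apply, ih, gal_apply, ← Function.iterate_succ_apply]

theorem gal_apply_one (σ : ℂ ≃+* ℂ) (χ : IrrCharacter G) :
    (gal σ χ : G → ℂ) 1 = (χ : G → ℂ) 1 := by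
  obtain ⟨n, -, hn⟩ := Chars.exists_irr_apply_one_eq χ.2
  rw [gal_apply, hn, map_natCast]

theorem gal_iterate_one (σ : ℂ ≃+* ℂ) (χ : IrrCharacter G) (j : ℕ) :
    ((gal σ)^[j] χ : G → ℂ) 1 = (χ : G → ℂ) 1 := by
  induction j generalizing χ with
  | zero => rfl
  | succ j ih => rw [Function.iterate_succ_apply, ih, gal_apply_one]

variable {p m : ℕ} [hp : Fact p.Prime] {M : Ideal AlgInt} [M.IsMaximal]

theorem char_mem_cS (hm : ¬ p ∣ m) (hexp : Nat.card G ∣ p * m) {χ : G → ℂ}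
    (hχ : IsCharacter G χ) (g : G) : χ g ∈ cS p m := by
  obtain ⟨n, ρ, rfl⟩ := hχ
  obtain ⟨z, hz, hc, -, -⟩ := Chars.exists_eigenvalues ρ g
  have h1 : ρ.character g = ∑ i, z i := by simpa using hc 1
  rw [h1]
  exact sum_mem fun i _ => root_mem_cS (hp.out.coprime_iff_not_dvd.2 hm)
    ((orderOf_dvd_natCard g).trans hexp) (hz i)

theorem centralChar_mem_cL (hm : ¬ p ∣ m) (hexp : Nat.card G ∣ p * m) (χ : IrrCharacter G)
    (g : G) : centralChar (χ : G → ℂ) g ∈ cL p m :=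
  div_mem (mul_mem (natCast_mem _ _) (cS_le_cL (char_mem_cS hm hexp (Chars.irr_isCharacter χ) g)))
    (cS_le_cL (char_mem_cS hm hexp (Chars.irr_isCharacter χ) 1))

variable {σ : ℂ ≃+* ℂ}

theorem sameBlock_gal (hm : ¬ p ∣ m) (hpM : (p : AlgInt) ∈ M) (hexp : Nat.card G ∣ p * m)
    (hσ : ∀ z : ℂ, z ^ m = 1 → σ z = z) (χ : IrrCharacter G) :
    SameBlock M (χ : G → ℂ) (gal σ χ : G → ℂ) := by
  intro g
  have h1 : centralChar (gal σ χ : G → ℂ) g = σ (centralChar (χ : G → ℂ) g) := by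
    simp only [centralChar, map_div₀, map_mul, map_natCast, gal_apply]
  rw [h1, ← neg_sub]
  exact memI_neg (aut_congr hσ hm hpM (centralChar_mem_cL hm hexp χ g)
    (centralChar_memR hpM χ g)).2

theorem gal_mem_block (hm : ¬ p ∣ m) (hpM : (p : AlgInt) ∈ M) (hexp : Nat.card G ∣ p * m)
    (hσ : ∀ z : ℂ, z ^ m = 1 → σ z = z) {B : Set (IrrCharacter G)} (hB : IsPBlock M B)
    {χ : IrrCharacter G} : gal σ χ ∈ B ↔ χ ∈ B :=
  ⟨fun h => mem_of_sameBlock hB h (sameBlock_symm (sameBlock_gal hm hpM hexp hσ χ)),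
    fun h => mem_of_sameBlock hB h (sameBlock_gal hm hpM hexp hσ χ)⟩

/-- The values are congruent along an orbit. -/
theorem gal_value_congr (hm : ¬ p ∣ m) (hpM : (p : AlgInt) ∈ M) (hexp : Nat.card G ∣ p * m)
    (hσ : ∀ z : ℂ, z ^ m = 1 → σ z = z) (χ : IrrCharacter G) (j : ℕ) (g : G) :
    MemLocalIdeal M (((gal σ)^[j] χ : G → ℂ) g - (χ : G → ℂ) g) := by
  induction j generalizing χ with
  | zero => simpa using memI_zero
  | succ j ih =>
    rw [Function.iterate_succ_apply]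
    have h1 := (aut_congr hσ hm hpM (cS_le_cL (char_mem_cS hm hexp (Chars.irr_isCharacter χ) g))
      (irr_memR χ g)).2
    have h2 := memI_add (ih (gal σ χ)) (x := _) h1
    rw [gal_apply, sub_add_sub_cancel] at h2
    exact h2

theorem gal_iterate_fix (hm : ¬ p ∣ m) (hexp : Nat.card G ∣ p * m)
    (hσ : ∀ z : ℂ, z ^ m = 1 → σ z = z) {k h : ℕ} (hk : σ (zetaP p) = zetaP p ^ k)
    (hh : ((k : ℕ) : ZMod p) ^ h = 1) (χ : IrrCharacter G) : (gal σ)^[h] χ = χ := by
  have key : ∀ (h : ℕ) {z : ℂ}, ((k : ℕ) : ZMod p) ^ h = 1 → z ∈ cL p m → (⇑σ)^[h] z = z := by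
    intro h z hh hz
    have fixp : ∀ i : ℕ, ∀ w : ℂ, w ^ m = 1 → (⇑σ)^[i] w = w := by
      intro i
      induction i with
      | zero => intro w _; rfl
      | succ i ih => intro w hw; rw [Function.iterate_succ_apply', ih w hw, hσ w hw]
    obtain ⟨y, hy, w, hw, rfl⟩ := Subfield.mem_closure_iff.1 hz
    have hS : ∀ a ∈ cS p m, (⇑σ)^[h] a = a := by
      have hiter : ∀ i : ℕ, ∃ τ : ℂ ≃+* ℂ, ∀ w, τ w = (⇑σ)^[i] w := by
        intro i
        induction i with
        | zero => exact ⟨RingEquiv.refl ℂ, fun w => rfl⟩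
        | succ i ih =>
          obtain ⟨τ, hτ⟩ := ih
          exact ⟨τ.trans σ, fun w => by rw [Function.iterate_succ_apply', ← hτ]; rfl⟩
      obtain ⟨τ, hτ⟩ := hiter h
      intro a ha
      rw [← hτ]
      refine aut_eq_on_cL (τ := RingEquiv.refl ℂ) (fun z hz => by rw [hτ, fixp h z hz]; rfl) ?_
        (cS_le_cL ha)
      rw [hτ, RingEquiv.refl_apply]
      have e : ∀ i : ℕ, (⇑σ)^[i] (zetaP p) = zetaP p ^ (k ^ i) := by
        intro i
        induction i with
        | zero => simp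
        | succ i ih => rw [Function.iterate_succ_apply', ih, map_pow, hk, ← pow_mul, ← pow_succ']
      have h1 : k ^ h ≡ 1 [MOD p] := by
        rw [← ZMod.natCast_eq_natCast_iff]; push_cast; exact hh
      rw [e, ← Nat.mod_add_div (k ^ h) p, pow_add, pow_mul, isPrimitiveRoot_zetaP.pow_eq_one,
        one_pow, mul_one, h1, Nat.one_mod_eq_one.2 hp.out.ne_one, pow_one]
    obtain ⟨τ, hτ⟩ : ∃ τ : ℂ →+* ℂ, ∀ w, τ w = (⇑σ)^[h] w :=
      ⟨(σ : ℂ →+* ℂ) ^ h, fun w => by rw [RingHom.coe_pow]; rfl⟩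
    rw [← hτ, map_div₀, hτ, hτ, hS y hy, hS w hw]
  refine Subtype.ext (funext fun g => ?_)
  rw [gal_iterate, key h hh (cS_le_cL (char_mem_cS hm hexp (Chars.irr_isCharacter χ) g))]

end Cfsg.Agent.Chars2.Cyc
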