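import Cfsg.Agent.Chars2.DefectOneStructure
import Cfsg.Agent.Blocks.Height

/-!
Consequences of the structure of the blocks of defect one: the inertial index, the number of
blocks of the centralizer inducing a block, and the principal block.
-/

set_option autoImplicit false
set_option linter.unusedSectionVars false
set_option linter.style.haveILetI false

namespace Cfsg.Agent.Chars2.Cyc

open Cfsg Cfsg.Agent Cfsg.Agent.Blocks Cfsg.Agent.BlockChar Function
open scoped ComplexConjugate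

universe u

variable {G : Type u} [Group G] [Fintype G]

theorem relIndex_eq_ncard_image {α : Type*} {A T : Subgroup G} (F : G → α)
    (hF : ∀ a ∈ T, ∀ b ∈ T, F a = F b ↔ a⁻¹ * b ∈ A) :
    A.relIndex T = (F '' (T : Set G)).ncard := by
  let Φ : T ⧸ A.subgroupOf T → (F '' (T : Set G)) :=
    Quotient.lift (fun g : T => ⟨F g, Set.mem_image_of_mem F g.2⟩) fun a b h => Subtype.ext (by
      exact (hF _ a.2 _ b.2).2 (Subgroup.mem_subgroupOf.1 (QuotientGroup.leftRel_apply.1 h)))
  have hbij : Function.Bijective Φ := by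
    refine ⟨fun q q' => ?_, ?_⟩
    · refine Quotient.inductionOn₂ q q' fun a b h => ?_
      refine Quotient.sound (QuotientGroup.leftRel_apply.2 (Subgroup.mem_subgroupOf.2 ?_))
      exact (hF _ a.2 _ b.2).1 (congrArg Subtype.val h)
    · rintro ⟨_, g, hg, rfl⟩
      exact ⟨QuotientGroup.mk ⟨g, hg⟩, rfl⟩
  rw [Subgroup.relIndex, Subgroup.index, Nat.card_congr (Equiv.ofBijective Φ hbij),
    Nat.card_coe_set_eq]

variable {H : Subgroup G}

/-- The image of a set of characters of `H` under conjugation by an element normalising `H`. -/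
def blockImg (H : Subgroup G) (b₀ : Set (IrrCharacter H)) (g : G) : Set (IrrCharacter H) :=
  {χ | ∀ hn : g ∈ Subgroup.normalizer (H : Set G), irrEquiv (normEquiv hn) χ ∈ b₀}

theorem blockImg_eq (b₀ : Set (IrrCharacter H)) {g : G}
    (hn : g ∈ Subgroup.normalizer (H : Set G)) :
    blockImg H b₀ g = mapSet (normEquiv hn) b₀ :=
  Set.ext fun _ => ⟨fun h => h hn, fun h _ => h⟩

theorem blockImg_eq_iff (b₀ : Set (IrrCharacter H)) {a b : G}
    (ha : a ∈ Subgroup.normalizer (H : Set G)) (hb : b ∈ Subgroup.normalizer (H : Set G)) :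
    blockImg H b₀ a = blockImg H b₀ b ↔ blockImg H b₀ (a⁻¹ * b) = b₀ := by
  have hab := Subgroup.mul_mem _ (inv_mem ha) hb
  have key : ∀ χ, χ ∈ blockImg H b₀ b ↔ irrEquiv (normEquiv ha) χ ∈ blockImg H b₀ (a⁻¹ * b) := by
    intro χ
    rw [blockImg_eq b₀ hb, blockImg_eq b₀ hab]
    show irrEquiv (normEquiv hb) χ ∈ b₀ ↔ irrEquiv (normEquiv hab) _ ∈ b₀
    have he : irrEquiv (normEquiv hab) (irrEquiv (normEquiv ha) χ) =
        irrEquiv (normEquiv hb) χ := by
      refine Subtype.ext (funext fun h => ?_)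
      rw [irrEquiv_apply, irrEquiv_apply, irrEquiv_apply]
      refine congrArg (χ : H → ℂ) (Subtype.ext ?_)
      simp only [coe_normEquiv]
      group
    rw [he]
  constructor
  · intro h
    ext η
    obtain ⟨χ, rfl⟩ := (irrEquiv (normEquiv ha)).surjective η
    rw [← key, ← h, blockImg_eq b₀ ha]
    rfl
  · intro h
    ext χ
    rw [key, h, blockImg_eq b₀ ha]
    rfl

variable {p m K : ℕ} [hp : Fact p.Prime] {M : Ideal AlgInt} [M.IsMaximal] {x : G}
  {σ : ℂ ≃+* ℂ}

namespace Once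

/-- The automorphisms fixing the roots of unity of order prime to `p` give the same orbits. -/
theorem pconj_iff (S : Once M p m K x σ H) (χ ψ : IrrCharacter G) :
    (∃ τ : ℂ ≃+* ℂ, τ (Complex.exp (2 * Real.pi * Complex.I / (m : ℕ))) =
        Complex.exp (2 * Real.pi * Complex.I / (m : ℕ)) ∧
        (ψ : G → ℂ) = fun g => τ ((χ : G → ℂ) g)) ↔ ∃ r, (gal σ)^[r] χ = ψ := by
  constructor
  · rintro ⟨τ, hτ, hψ⟩
    haveI : NeZero m := ⟨S.hm0⟩
    have hω := Complex.isPrimitiveRoot_exp m S.hm0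
    have hfix : ∀ z : ℂ, z ^ m = 1 → τ z = z := fun z hz => by
      obtain ⟨i, -, rfl⟩ := hω.eq_pow_of_pow_eq_one hz
      rw [map_pow, hτ]
    have hprim := (isPrimitiveRoot_zetaP (p := p)).map_of_injective (f := τ) τ.injective
    obtain ⟨a, -, ha⟩ := isPrimitiveRoot_zetaP.eq_pow_of_pow_eq_one hprim.pow_eq_one
    have ha0 : (a : ZMod p) ≠ 0 := fun h => by
      obtain ⟨q, rfl⟩ := (ZMod.natCast_eq_zero_iff a p).1 h
      rw [pow_mul, isPrimitiveRoot_zetaP.pow_eq_one, one_pow] at ha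
      exact hp.out.ne_one (hprim.eq_orderOf.trans (by rw [← ha, orderOf_one]))
    obtain ⟨j, -, hj⟩ := S.exists_pow_K ha0
    have hz : τ (zetaP p) = powAut σ j (zetaP p) := by
      rw [powAut_zetaP S.hk, ← ha, pow_eq_pow_mod a isPrimitiveRoot_zetaP.pow_eq_one,
        pow_eq_pow_mod (K ^ j) isPrimitiveRoot_zetaP.pow_eq_one,
        (ZMod.natCast_eq_natCast_iff _ _ _).1
          (by rw [Nat.cast_pow, hj] : ((K ^ j : ℕ) : ZMod p) = a)]
    refine ⟨j, Subtype.ext (funext fun g => ?_)⟩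
    rw [gal_iterate, hψ, ← powAut_apply]
    exact (aut_eq_on_cL (fun z hz => by rw [hfix z hz, powAut_fix S.hσ j z hz]) hz
      (cS_le_cL (char_mem_cS S.hm S.hexp (Chars.irr_isCharacter χ) g))).symm
  · rintro ⟨r, rfl⟩
    refine ⟨powAut σ r, powAut_fix S.hσ r _ ?_, funext fun g => ?_⟩
    · exact (Complex.isPrimitiveRoot_exp m S.hm0).pow_eq_one
    · rw [gal_iterate, powAut_apply]

variable [Fintype H]

theorem blockImg_induced (S : Once M p m K x σ H) {B : Set (IrrCharacter G)}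
    {b₀ : Set (IrrCharacter H)} (hind : IsInducedBlock M H b₀ B) {g : G}
    (hg : g ∈ Subgroup.normalizer ((Subgroup.zpowers x : Subgroup G) : Set G)) :
    IsInducedBlock M H (blockImg H b₀ g) B := by
  classical
  have hn := S.mem_normalizer_H hg
  rw [blockImg_eq b₀ hn]
  obtain ⟨r, -, hxr⟩ := S.exists_conj_pow hg
  have hb' := isPBlock_mapSet (M := M) (normEquiv hn) hind.1
  obtain ⟨θ₀, hθ₀⟩ := block_nonempty hind.1
  obtain ⟨θ', hθ'⟩ := block_nonempty hb'
  obtain ⟨B', hB'⟩ := induced_defined_sec S.hH S.hu S.hpM hb'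
  by_cases he : B' = B
  · exact he ▸ hB'
  exfalso
  have h0 : ∀ χ ∈ B, dB x b₀ χ = 0 := fun χ hχ => by
    obtain ⟨χ', rfl⟩ := ((gal (G := G) σ).bijective.iterate r).2 χ
    rw [← (dB_conj S hn hxr hind.1 hθ₀ hθ' χ').1, dB_eq_zero S hB' fun h => he ?_]
    exact blocks_eq_of_inter hB'.2.1 hind.2.1 h ((S.iterate_mem_block hind.2.1 r).1 hχ)
  have h := sum_dB S hind hind.1
  rw [if_pos rfl, Finset.sum_eq_zero fun χ hχ => by rw [h0 χ (mem_bf.1 hχ), zero_mul]] at h
  exact hp.out.ne_zero (by exact_mod_cast h.symm)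

variable {T : Subgroup G} {θ : IrrCharacter H}

theorem mem_inertia_iff (S : Once M p m K x σ H) {b₀ : Set (IrrCharacter H)}
    (hb : IsPBlock M b₀) (hθ : θ ∈ b₀) (hθx : (θ : H → ℂ) ⟨x, S.mem⟩ = (θ : H → ℂ) 1)
    (hT : ∀ g : G, g ∈ T ↔ g ∈ Subgroup.normalizer ((Subgroup.zpowers x : Subgroup G) : Set G) ∧
      ∀ c c' : H, (c' : G) = g * c * g⁻¹ → (θ : H → ℂ) c' = (θ : H → ℂ) c) {g : G} :
    g ∈ T ↔ g ∈ Subgroup.normalizer ((Subgroup.zpowers x : Subgroup G) : Set G) ∧
      blockImg H b₀ g = b₀ := by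
  rw [hT]
  refine and_congr_right fun hg => ?_
  have hn := S.mem_normalizer_H hg
  rw [blockImg_eq b₀ hn]
  have hkey : (∀ c c' : H, (c' : G) = g * c * g⁻¹ → (θ : H → ℂ) c' = (θ : H → ℂ) c) ↔
      irrEquiv (normEquiv hn) θ = θ := by
    refine ⟨fun h => Subtype.ext (funext fun c => ?_), fun h c c' hc => ?_⟩
    · rw [irrEquiv_apply]; exact h c _ (coe_normEquiv hn c)
    · refine Eq.trans ?_ (congrFun (congrArg Subtype.val h) c)
      rw [irrEquiv_apply]
      exact congrArg (θ : H → ℂ) (Subtype.ext (hc.trans (coe_normEquiv hn c).symm))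
  rw [hkey]
  constructor
  · intro h
    refine blocks_eq_of_inter (isPBlock_mapSet _ hb) hb (χ := θ) ?_ hθ
    show irrEquiv (normEquiv hn) θ ∈ b₀
    rwa [h]
  · intro h
    refine (S.block_loc hb hθ hθx).2.2 _ (show θ ∈ mapSet (normEquiv hn) b₀ by rwa [h]) ?_
    rw [irrEquiv_apply, irrEquiv_apply, map_one]
    refine S.trivial_on_D hθx _ (Subgroup.mem_subgroupOf.2 ?_)
    rw [coe_normEquiv]
    exact (Subgroup.mem_normalizer_iff.1 hg x).1 (Subgroup.mem_zpowers x)

/-- The inertial index is the index of the period. -/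
theorem relIndex_inertia (S : Once M p m K x σ H) {B : Set (IrrCharacter G)}
    {b₀ : Set (IrrCharacter H)} (hind : IsInducedBlock M H b₀ B) (hθ : θ ∈ b₀)
    (hθx : (θ : H → ℂ) ⟨x, S.mem⟩ = (θ : H → ℂ) 1)
    (hT : ∀ g : G, g ∈ T ↔ g ∈ Subgroup.normalizer ((Subgroup.zpowers x : Subgroup G) : Set G) ∧
      ∀ c c' : H, (c' : G) = g * c * g⁻¹ → (θ : H → ℂ) c' = (θ : H → ℂ) c) {t : ℕ}
    (ht : t ∣ p - 1)
    (hper : ∀ r : ℕ, (∀ χ, dB x b₀ ((gal σ)^[r] χ) = dB x b₀ χ) ↔ t ∣ r) :
    H.relIndex T = (p - 1) / t := by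
  classical
  have hp1 : 0 < p - 1 := by have := hp.out.two_le; omega
  have ht0 := Nat.pos_of_dvd_of_pos ht hp1
  rw [relIndex_eq_ncard_image (fun g => g * x * g⁻¹) fun a _ b _ => ?_]
  · have him : (fun g => g * x * g⁻¹) '' (T : Set G) =
        ((Finset.range ((p - 1) / t)).image fun j => x ^ K ^ (t * j) : Finset G) := by
      ext y
      simp only [Set.mem_image, SetLike.mem_coe, Finset.coe_image, Finset.coe_range, Set.mem_Iio]
      constructor
      · rintro ⟨g, hg, rfl⟩
        obtain ⟨hgN, hgb⟩ := (S.mem_inertia_iff hind.1 hθ hθx hT).1 (T.inv_mem hg)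
        obtain ⟨r, hr, hxr⟩ := S.exists_conj_pow hgN
        have hn := S.mem_normalizer_H hgN
        rw [blockImg_eq b₀ hn] at hgb
        rcases S.dichotomy hind r with ⟨h, -⟩ | ⟨-, h⟩
        · obtain ⟨j, rfl⟩ := (hper r).1 h
          refine ⟨j, ?_, ?_⟩
          · rw [Nat.lt_div_iff_mul_lt' ht, mul_comm]
            linarith
          · rw [← hxr, inv_inv]
        · exact absurd hgb (h _ hn hxr)
      · rintro ⟨j, -, rfl⟩
        rcases S.dichotomy hind (t * j) with ⟨-, n, hn, hxr, he⟩ | ⟨h, -⟩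
        · refine ⟨n⁻¹, T.inv_mem ((S.mem_inertia_iff hind.1 hθ hθx hT).2
            ⟨S.mem_normalizer_of_conj hxr, by rw [blockImg_eq b₀ hn, he]⟩), ?_⟩
          rw [inv_inv, hxr]
        · rw [Finset.sum_congr rfl fun χ _ => by rw [(hper (t * j)).2 (dvd_mul_right t j) χ],
            sum_dB S hind hind.1, if_pos rfl] at h
          exact absurd h (Nat.cast_ne_zero.2 hp.out.ne_zero)
    rw [him, Set.ncard_coe_finset, Finset.card_image_of_injOn, Finset.card_range]
    intro i hi j hj he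
    have hi' := Finset.mem_range.1 hi
    have hj' := Finset.mem_range.1 hj
    have h1 : ((K : ℕ) : ZMod p) ^ (t * i) = ((K : ℕ) : ZMod p) ^ (t * j) := by
      exact_mod_cast S.pow_eq_pow_iff'.1 he
    have hlt : ∀ i, i < (p - 1) / t → t * i < p - 1 := fun i hi =>
      lt_of_lt_of_le (Nat.mul_lt_mul_of_pos_left hi ht0) (Nat.mul_div_le _ _)
    have h2 := pow_injOn_Iio_orderOf (x := ((K : ℕ) : ZMod p))
      (show t * i ∈ Set.Iio _ by rw [S.ord]; exact hlt i hi')
      (show t * j ∈ Set.Iio _ by rw [S.ord]; exact hlt j hj') h1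
    exact Nat.eq_of_mul_eq_mul_left ht0 h2
  · rw [S.hH, Subgroup.mem_centralizer_singleton_iff]
    constructor
    · intro h
      have h' : a⁻¹ * (a * x * a⁻¹) * b = a⁻¹ * (b * x * b⁻¹) * b := congrArg (a⁻¹ * · * b) h
      simpa [mul_assoc] using h'.symm
    · intro h
      have h' : a * (a⁻¹ * b * x) * b⁻¹ = a * (x * (a⁻¹ * b)) * b⁻¹ := congrArg (a * · * b⁻¹) h
      simpa [mul_assoc] using h'.symm

/-- The number of blocks of the centralizer inducing `B`. -/
theorem card_inducing (S : Once M p m K x σ H) {B : Set (IrrCharacter G)}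
    (hd : 0 < blockDefect p B) {b₀ : Set (IrrCharacter H)} (hind : IsInducedBlock M H b₀ B)
    (hθ : θ ∈ b₀) (hθx : (θ : H → ℂ) ⟨x, S.mem⟩ = (θ : H → ℂ) 1)
    (hT : ∀ g : G, g ∈ T ↔ g ∈ Subgroup.normalizer ((Subgroup.zpowers x : Subgroup G) : Set G) ∧
      ∀ c c' : H, (c' : G) = g * c * g⁻¹ → (θ : H → ℂ) c' = (θ : H → ℂ) c)
    [DecidablePred fun b => IsInducedBlock M H b B] :
    ((blockFinset M H).filter fun b => IsInducedBlock M H b B).card =
      T.relIndex (Subgroup.normalizer ((Subgroup.zpowers x : Subgroup G) : Set G)) := by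
  classical
  rw [relIndex_eq_ncard_image (blockImg H b₀) fun a ha b hb => ?_]
  · rw [← Set.ncard_coe_finset]
    congr 1
    ext b
    simp only [Finset.coe_filter, mem_blockFinset, Set.mem_setOf_eq, Set.mem_image, SetLike.mem_coe]
    constructor
    · rintro ⟨-, hb⟩
      obtain ⟨n, hn, hnP, he⟩ :=
        (first_main_at S.hpM hind.2.1 (S.isDefectGroup_zpowers hind.2.1 hd).2 S.sup_eq_H).2
          b b₀ hb hind
      exact ⟨n, hnP, by rw [blockImg_eq b₀ hn, he]⟩
    · rintro ⟨g, hg, rfl⟩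
      exact ⟨(S.blockImg_induced hind hg).1, S.blockImg_induced hind hg⟩
  · rw [blockImg_eq_iff b₀ (S.mem_normalizer_H ha) (S.mem_normalizer_H hb),
      S.mem_inertia_iff hind.1 hθ hθx hT]
    exact ⟨fun h => ⟨Subgroup.mul_mem _ (inv_mem ha) hb, h⟩, fun h => h.2⟩

end Once

theorem exists_sylow_gen (p : ℕ) [hp : Fact p.Prime] (P : Sylow p G) (hP : Nat.card P = p) :
    ∃ x : G, orderOf x = p ∧ (P : Subgroup G) = Subgroup.zpowers x ∧ p ∣ Nat.card G ∧
      ¬ p ^ 2 ∣ Nat.card G ∧ Subgroup.centralizer ((P : Subgroup G) : Set G) =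
        Subgroup.centralizer ({x} : Set G) := by
  have hc : Nat.card (P : Subgroup G) = p := hP
  obtain ⟨⟨x, hxP⟩, hx⟩ := exists_prime_orderOf_dvd_card' p (G := (P : Subgroup G)) (by rw [hc])
  rw [← Subgroup.orderOf_coe] at hx
  have he : (P : Subgroup G) = Subgroup.zpowers x :=
    (Subgroup.eq_of_le_of_card_ge (Subgroup.zpowers_le.2 hxP) (by rw [hc, Nat.card_zpowers, hx])).symm
  have hv : (Nat.card G).factorization p = 1 :=
    Nat.pow_right_injective hp.out.two_le (by
      show p ^ _ = p ^ 1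
      rw [← P.card_eq_multiplicity, pow_one]; exact hP)
  refine ⟨x, hx, he, (dvd_of_eq hc.symm).trans (Subgroup.card_subgroup_dvd_card _), fun h => ?_, ?_⟩
  · have := (hp.out.pow_dvd_iff_le_factorization Nat.card_pos.ne').1 h
    omega
  · rw [he, Subgroup.zpowers_eq_closure, Subgroup.centralizer_closure]

/-- The principal block has full defect. -/
theorem blockDefect_principal (p : ℕ) [Fact p.Prime] (M : Ideal AlgInt) [M.IsMaximal] :
    blockDefect p (principalBlock M G) = (Nat.card G).factorization p := by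
  rw [blockDefect]
  have h : sInf ((fun χ : IrrCharacter G => (charDegree (χ : G → ℂ)).factorization p) ''
      principalBlock M G) = 0 :=
    Nat.eq_zero_of_le_zero (Nat.sInf_le ⟨oneChar G, one_mem_principal, by
      simp [coe_oneChar, charDegree]⟩)
  rw [h, Nat.sub_zero]

end Cfsg.Agent.Chars2.Cyc
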