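import Cfsg.Agent.Chars2.Ramified
import Cfsg.Agent.Chars.Linear
import Cfsg.Agent.Blocks.Orth
import Mathlib.GroupTheory.FiniteAbelian.Duality

/-!
Going down along an abelian chief factor.
-/

set_option autoImplicit false
set_option linter.style.haveILetI false
set_option linter.unusedSectionVars false

namespace Cfsg.Agent.Chars2

open Cfsg Cfsg.Agent
open scoped ComplexConjugate commutatorElement

universe u

variable {G : Type u} [Group G] [Fintype G]

theorem conjFun_mul {N : Subgroup G} [N.Normal] (θ : N → ℂ) (g h : G) :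
    conjFun θ (g * h) = conjFun (conjFun θ h) g := funext fun n => by
  simp only [conjFun, mul_inv_rev, map_mul, MulAut.mul_apply]

/-- Linear characters trivial on a normal subgroup with commutative quotient. -/
theorem card_hom_trivial {K : Type u} [Group K] [Finite K] {L : Subgroup K} [L.Normal]
    (hab : ∀ a b : K, ⁅a, b⁆ ∈ L) :
    Nat.card {lam : K →* ℂˣ // ∀ x ∈ L, lam x = 1} = L.index := by
  letI : CommGroup (K ⧸ L) :=
    { (inferInstance : Group (K ⧸ L)) with
      mul_comm := fun a b => by
        obtain ⟨a, rfl⟩ := QuotientGroup.mk_surjective a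
        obtain ⟨b, rfl⟩ := QuotientGroup.mk_surjective b
        rw [← QuotientGroup.mk_mul, ← QuotientGroup.mk_mul, eq_comm, QuotientGroup.eq]
        have := hab a⁻¹ b⁻¹
        simpa [commutatorElement_def, mul_assoc] using this }
  rw [Subgroup.index_eq_card, ← CommGroup.card_monoidHom_of_hasEnoughRootsOfUnity (K ⧸ L) ℂ]
  exact Nat.card_congr
    { toFun := fun lam => QuotientGroup.lift L lam.1 fun x hx => lam.2 x hx
      invFun := fun f => ⟨f.comp (QuotientGroup.mk' L), fun x hx => by
        rw [MonoidHom.comp_apply, QuotientGroup.mk'_apply, (QuotientGroup.eq_one_iff x).2 hx, map_one]⟩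
      left_inv := fun lam => Subtype.ext (MonoidHom.ext fun x => rfl)
      right_inv := fun f => MonoidHom.ext fun q => by
        obtain ⟨x, rfl⟩ := QuotientGroup.mk_surjective q
        rfl }

/-- The possible restrictions to `L` of an invariant character of `K`. -/
theorem going_down (K L : Subgroup G) [hK : K.Normal] [hL : L.Normal] (hLK : L ≤ K)
    (hchief : ∀ M : Subgroup G, M.Normal → L ≤ M → M ≤ K → M = L ∨ M = K) (hab : ⁅K, K⁆ ≤ L)
    (ϑ : K → ℂ) (hϑ : IsIrrCharacter K ϑ)
    (hinv : ∀ (g : G) (n : K), ϑ ⟨g * n * g⁻¹, hK.conj_mem (n : G) n.2 g⟩ = ϑ n) :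
    IsIrrCharacter L (fun x : L => ϑ ⟨(x : G), hLK x.2⟩) ∨
    (∃ (φ : L → ℂ) (e : ℕ), IsIrrCharacter L φ ∧
      (fun x : L => ϑ ⟨(x : G), hLK x.2⟩) = (e : ℂ) • φ ∧ e ^ 2 = L.relIndex K) ∨
    (∃ F : Finset (L → ℂ), (∀ φ ∈ F, IsIrrCharacter L φ) ∧ F.card = L.relIndex K ∧
      (fun x : L => ϑ ⟨(x : G), hLK x.2⟩) = ∑ φ ∈ F, φ) := by
  classical
  haveI : Fintype K := Fintype.ofFinite _
  haveI : Fintype L := Fintype.ofFinite _
  set L' := L.subgroupOf K with hL'
  haveI : Fintype L' := Fintype.ofFinite _
  haveI : L'.Normal := Subgroup.normal_subgroupOf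
  let q : L' ≃* L := Subgroup.subgroupOfEquivOfLe hLK
  have hidx : L.relIndex K = L'.index := rfl
  set res : L → ℂ := fun x => ϑ ⟨(x : G), hLK x.2⟩ with hres
  have hϑc := Chars.isCharacter_of_isIrr hϑ
  have hresc : IsCharacter L res := Chars.isCharacter_comp hϑc (Subgroup.inclusion hLK)
  obtain ⟨φ, hφ⟩ : ∃ φ : IrrCharacter L, classInner res (φ : L → ℂ) ≠ 0 := by
    by_contra hall
    push Not at hall
    have h := apply_eq_sum (Chars.isClassFunction_of_isCharacter hresc) 1
    simp only [hall, zero_mul, Finset.sum_const_zero] at h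
    exact Chars.irr_apply_one_ne_zero hϑ h
  set φ' : L' → ℂ := fun x => (φ : L → ℂ) (q x) with hφ'
  have hφ'irr : IsIrrCharacter L' φ' := Chars.isIrrCharacter_comp_equiv φ.2 q
  have hres' : classInner (fun x : L' => ϑ x) φ' = classInner res (φ : L → ℂ) := by
    rw [← classInner_comp_mulEquiv q res]; rfl
  have hcon : classInner (fun x : L' => ϑ x) φ' ≠ 0 := by rw [hres']; exact hφ
  obtain ⟨e, he⟩ := Chars.exists_classInner_eq_nat
    (Chars.isCharacter_restrict hϑc L') (Chars.isCharacter_of_isIrr hφ'irr)
  have he0 : e ≠ 0 := fun h => hcon (by rw [he, h, Nat.cast_zero])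
  obtain ⟨d, hd0, hd⟩ := Chars.exists_irr_apply_one_eq hφ'irr
  obtain ⟨a, ha0, ha⟩ := Chars.exists_irr_apply_one_eq hϑ
  -- inertia groups
  set T := inertiaSub (φ : L → ℂ)
  have hTK : ∀ k : K, (k : G) ∈ T ↔ k ∈ inertiaSub φ' := by
    intro k
    rw [mem_inertiaSub, mem_inertiaSub, funext_iff, funext_iff]
    constructor
    · intro h x; exact h (q x)
    · intro h x
      have := h (q.symm x)
      simp only [hφ', conjFun] at this
      rw [q.apply_symm_apply] at this
      exact this
  have hgen : ∀ g : G, ∃ k ∈ K, k⁻¹ * g ∈ T := by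
    intro g
    have hconj : conjFun res g = res := by
      funext x
      rw [conjFun_apply, hres]
      exact hinv g⁻¹ ⟨(x : G), hLK x.2⟩
    have hg : classInner res (conjFun (φ : L → ℂ) g) ≠ 0 := by
      have h1 : classInner (conjFun res g) (conjFun (φ : L → ℂ) g) = classInner res (φ : L → ℂ) :=
        classInner_comp_mulEquiv (MulAut.conjNormal g⁻¹ : L ≃* L) res (φ : L → ℂ)
      rw [hconj] at h1
      rwa [h1]
    have hg' : classInner (fun x : L' => ϑ x) (fun x => conjFun (φ : L → ℂ) g (q x)) ≠ 0 := by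
      have := classInner_comp_mulEquiv q res (conjFun (φ : L → ℂ) g)
      rw [show (fun x : L' => ϑ x) = res ∘ q from rfl]
      exact this ▸ hg
    obtain ⟨k, hk⟩ := clifford_constituent hϑ hφ'irr hcon
      (Chars.isIrrCharacter_comp_equiv (conjFun_isIrr φ.2 g) q) hg'
    refine ⟨k, k.2, ?_⟩
    have hk' : conjFun (φ : L → ℂ) g = conjFun (φ : L → ℂ) (k : G) := funext fun x => by
      have := congrFun hk (q.symm x)
      simp only [Function.comp_apply, q.apply_symm_apply] at this
      rw [this]
      simp only [hφ', conjFun]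
      exact congrArg _ (Subtype.ext rfl)
    rw [mem_inertiaSub, conjFun_mul, hk', ← conjFun_mul, inv_mul_cancel, conjFun_one]
  have hLT : L ≤ T := le_inertiaSub (Chars.isClassFunction_irr φ)
  have hcomm : ∀ a ∈ K, ∀ b ∈ K, ⁅a, b⁆ ∈ L := fun a ha b hb =>
    hab (Subgroup.commutator_mem_commutator ha hb)
  have hIn : (T ⊓ K).Normal := by
    refine ⟨fun x hx g => ?_⟩
    obtain ⟨k, hk, ht⟩ := hgen g
    set t := k⁻¹ * g
    have hy : t * x * t⁻¹ ∈ T ⊓ K :=
      ⟨T.mul_mem (T.mul_mem ht hx.1) (T.inv_mem ht), hK.conj_mem x hx.2 t⟩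
    have h2 : g * x * g⁻¹ = ⁅k, t * x * t⁻¹⁆ * (t * x * t⁻¹) := by
      simp only [commutatorElement_def, t]; group
    rw [h2]
    have hl := hcomm k hk _ hy.2
    exact (T ⊓ K).mul_mem ⟨hLT hl, hLK hl⟩ hy
  have hab' : ∀ a b : K, ⁅a, b⁆ ∈ L' := fun a b => Subgroup.mem_subgroupOf.2 (by
    have := hcomm a a.2 b b.2
    simpa [commutatorElement_def] using this)
  have hindφ := Chars.isCharacter_indFun L' (Chars.isCharacter_of_isIrr hφ'irr)
  obtain ⟨m, hm⟩ := exists_multiplicities hindφ
  have hmdeg : ∑ χ : IrrCharacter K, (m χ : ℂ) * (χ : K → ℂ) 1 = (L'.index : ℂ) * d := by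
    rw [← hd, ← Chars.indFun_apply_one L' φ',
      apply_eq_sum (Chars.isClassFunction_of_isCharacter hindφ) 1]
    exact Finset.sum_congr rfl fun χ _ => by rw [hm]
  have hmval : ∀ (χ : IrrCharacter K), classInner (fun x : L' => (χ : K → ℂ) x) φ' = (m χ : ℂ) :=
    fun χ => by
    rw [← Chars.classInner_conj_symm, ← Chars.classInner_indFun L' φ' (Chars.isClassFunction_irr χ),
      hm, Complex.conj_natCast]
  rcases hchief _ hIn (le_inf hLT hLK) inf_le_right with hI | hI
  · -- trivial inertia
    right; right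
    have hTeq : inertiaSub φ' = L' := by
      ext k
      rw [← hTK, hL', Subgroup.mem_subgroupOf]
      exact ⟨fun h => hI ▸ ⟨h, k.2⟩, fun h => hLT h⟩
    have hdeg := clifford_degree hϑ hφ'irr hcon
    rw [hTeq, he, hd, ha] at hdeg
    have hae : a = L'.index * e * d := by exact_mod_cast hdeg
    have hme : m (⟨ϑ, hϑ⟩ : IrrCharacter K) = e := by
      have := hmval (⟨ϑ, hϑ⟩ : IrrCharacter K)
      rw [he] at this
      exact_mod_cast this.symm
    have hle : e * a ≤ L'.index * d := by
      have h1 : ∑ χ : IrrCharacter K, m χ * charDegree (χ : K → ℂ) = L'.index * d := by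
        have h2 : (∑ χ : IrrCharacter K, ((m χ * charDegree (χ : K → ℂ) : ℕ) : ℂ)) =
            ((L'.index * d : ℕ) : ℂ) := by
          push_cast
          rw [← hmdeg]
          exact Finset.sum_congr rfl fun χ _ => by rw [(Blocks.charDegree_eq χ.2).1]
        exact_mod_cast h2
      have h3 : charDegree ϑ = a := by
        have h4 := (Blocks.charDegree_eq hϑ).1
        rw [ha] at h4; exact_mod_cast h4.symm
      rw [← h1, ← hme, ← h3]
      exact Finset.single_le_sum (f := fun χ : IrrCharacter K => m χ * charDegree (χ : K → ℂ))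
        (fun χ _ => Nat.zero_le _) (Finset.mem_univ (⟨ϑ, hϑ⟩ : IrrCharacter K))
    have he1 : e = 1 := by
      rw [hae] at hle
      have hpos : 0 < L'.index * d :=
        Nat.mul_pos (Nat.pos_of_ne_zero L'.index_ne_zero_of_finite) hd0
      have : e * e * (L'.index * d) ≤ 1 * (L'.index * d) := by rw [one_mul]; convert hle using 1; ring
      have h5 := Nat.le_of_mul_le_mul_right this hpos
      have h6 : e * 1 ≤ e * e := Nat.mul_le_mul_left e (Nat.pos_of_ne_zero he0)
      omega
    refine ⟨(orbitFinset hφ'irr).image fun (ψ : IrrCharacter L') => fun x : L => (ψ : L' → ℂ) (q.symm x), ?_, ?_, ?_⟩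
    · intro ψ hψ
      obtain ⟨ψ', -, rfl⟩ := Finset.mem_image.1 hψ
      exact Chars.isIrrCharacter_comp_equiv ψ'.2 q.symm
    · rw [Finset.card_image_of_injective, card_orbitFinset, hTeq, hidx]
      intro ψ₁ ψ₂ h
      refine Subtype.ext (funext fun x => ?_)
      simpa using congrFun h (q x)
    · rw [Finset.sum_image]
      · funext x
        have h := clifford_restrict hϑ hφ'irr hcon (q.symm x)
        rw [he, he1, Nat.cast_one, one_mul] at h
        rw [Finset.sum_apply, ← h]
        simp only [hres]
        congr 1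
      · intro ψ₁ _ ψ₂ _ h
        refine Subtype.ext (funext fun x => ?_)
        simpa using congrFun h (q x)
  · -- invariant constituent
    have hTeq : inertiaSub φ' = ⊤ := top_unique fun k _ => by
      rw [← hTK]
      have h9 : (k : G) ∈ T ⊓ K := by rw [hI]; exact k.2
      exact h9.1
    have hresmul : (fun x : L' => ϑ x) = (e : ℂ) • φ' := funext fun x => by
      rw [clifford_invariant hϑ hφ'irr hTeq hcon x, he]; rfl
    have hresL : res = (e : ℂ) • (φ : L → ℂ) := funext fun x => by
      have h := congrFun hresmul (q.symm x)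
      simp only [hφ', Pi.smul_apply, q.apply_symm_apply] at h
      rw [Pi.smul_apply, ← h]
      simp only [hres]
      congr 1
    set U := Subgroup.closure ({x : G | ∃ hx : x ∈ K, ϑ ⟨x, hx⟩ ≠ 0} ∪ (L : Set G)) with hU
    have hUn : U.Normal := by
      refine ⟨fun x hx g => ?_⟩
      refine Subgroup.closure_induction (p := fun y _ => g * y * g⁻¹ ∈ U) (fun y hy => ?_) ?_
        (fun y z _ _ hy hz => ?_) (fun y _ hy => ?_) hx
      · rcases hy with ⟨hy, hne⟩ | hy
        · exact Subgroup.subset_closure (Or.inl ⟨hK.conj_mem y hy g, by rw [hinv g ⟨y, hy⟩]; exact hne⟩)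
        · exact Subgroup.subset_closure (Or.inr (hL.conj_mem y hy g))
      · simp [one_mem]
      · have := U.mul_mem hy hz; simpa [mul_assoc] using this
      · have := U.inv_mem hy; simpa [mul_assoc] using this
    have hUK : U ≤ K := (Subgroup.closure_le K).2 (Set.union_subset (fun x hx => hx.1) hLK)
    have hLU : L ≤ U := fun x hx => Subgroup.subset_closure (Or.inr hx)
    rcases hchief U hUn hLU hUK with hUe | hUe
    · right; left
      refine ⟨φ, e, φ.2, hresL, ?_⟩
      have hvan : ∀ k : K, k ∉ L' → ϑ k = 0 := fun k hk => by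
        by_contra hne
        have : (k : G) ∈ U := Subgroup.subset_closure (Or.inl ⟨k.2, hne⟩)
        rw [hUe] at this
        exact hk (Subgroup.mem_subgroupOf.2 this)
      have h := (norm_restrict_eq_index_iff (N := L') hϑ).2 hvan
      rw [hresmul, Chars.classInner_smul_left, Chars.classInner_smul_right,
        Chars.classInner_self_irr hφ'irr, Complex.conj_natCast, mul_one] at h
      rw [hidx, sq]; exact_mod_cast h
    · left
      let Λ := {lam : K →* ℂˣ // ∀ x ∈ L', lam x = 1}
      have hΛc : Nat.card Λ = L'.index := card_hom_trivial hab'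
      let tw : Λ → IrrCharacter K := fun lam =>
        ⟨fun x => (lam.1 x : ℂ) * ϑ x, Chars.isIrrCharacter_mul_hom hϑ lam.1⟩
      have hinj : Function.Injective tw := by
        intro l₁ l₂ hl
        have heq : ∀ x, ϑ x ≠ 0 → l₁.1 x = l₂.1 x := fun x hx => by
          have := congrFun (congrArg Subtype.val hl) x
          exact Units.ext (mul_right_cancel₀ hx this)
        let S : Subgroup G := (MonoidHom.eqLocus l₁.1 l₂.1).map K.subtype
        have hKS : K ≤ S := by
          rw [← hUe, hU, Subgroup.closure_le]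
          rintro x (⟨hx, hne⟩ | hx)
          · exact ⟨⟨x, hx⟩, heq _ hne, rfl⟩
          · refine ⟨⟨x, hLK hx⟩, ?_, rfl⟩
            show l₁.1 _ = l₂.1 _
            rw [l₁.2 _ (Subgroup.mem_subgroupOf.2 hx), l₂.2 _ (Subgroup.mem_subgroupOf.2 hx)]
        refine Subtype.ext (MonoidHom.ext fun x => ?_)
        obtain ⟨y, hy, hyx⟩ := hKS x.2
        obtain rfl : y = x := Subtype.ext hyx
        exact hy
      haveI : Fintype Λ := Fintype.ofInjective tw hinj
      have hmtw : ∀ lam : Λ, m (tw lam) = e := fun lam => by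
        have h := hmval (tw lam)
        have e1 : (fun x : L' => ((tw lam : IrrCharacter K) : K → ℂ) x) = fun x : L' => ϑ x :=
          funext fun x => by
            show (lam.1 (x : K) : ℂ) * ϑ (x : K) = ϑ x
            rw [lam.2 _ x.2, Units.val_one, one_mul]
        rw [e1, he] at h
        exact_mod_cast h.symm
      have hdeg := clifford_degree hϑ hφ'irr hcon
      rw [hTeq, Subgroup.index_top, Nat.cast_one, one_mul, he, hd, ha] at hdeg
      have hae : a = e * d := by exact_mod_cast hdeg
      have hle : L'.index * (e * a) ≤ L'.index * d := by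
        have h1 : ∑ χ : IrrCharacter K, m χ * charDegree (χ : K → ℂ) = L'.index * d := by
          have h2 : (∑ χ : IrrCharacter K, ((m χ * charDegree (χ : K → ℂ) : ℕ) : ℂ)) =
              ((L'.index * d : ℕ) : ℂ) := by
            push_cast
            rw [← hmdeg]
            exact Finset.sum_congr rfl fun χ _ => by rw [(Blocks.charDegree_eq χ.2).1]
          exact_mod_cast h2
        rw [← h1, ← hΛc, Nat.card_eq_fintype_card, ← Finset.card_univ,
          ← smul_eq_mul, ← Finset.sum_const]
        have h4 : ∀ lam : Λ, e * a = m (tw lam) * charDegree ((tw lam : IrrCharacter K) : K → ℂ) := by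
          intro lam
          rw [hmtw]
          have h5 := (Blocks.charDegree_eq (tw lam).2).1
          change (lam.1 1 : ℂ) * ϑ 1 = _ at h5
          rw [map_one, Units.val_one, one_mul, ha] at h5
          rw [← show a = charDegree ((tw lam : IrrCharacter K) : K → ℂ) from by exact_mod_cast h5]
        rw [Finset.sum_congr rfl fun lam _ => h4 lam,
          ← Finset.sum_image (f := fun χ : IrrCharacter K => m χ * charDegree (χ : K → ℂ))
            (fun a _ b _ h => hinj h)]
        exact Finset.sum_le_sum_of_subset (Finset.subset_univ _)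
      have he1 : e = 1 := by
        rw [hae] at hle
        have hpos : 0 < L'.index * d :=
          Nat.mul_pos (Nat.pos_of_ne_zero L'.index_ne_zero_of_finite) hd0
        have : e * e * (L'.index * d) ≤ 1 * (L'.index * d) := by rw [one_mul]; convert hle using 1; ring
        have h5 := Nat.le_of_mul_le_mul_right this hpos
        have h6 : e * 1 ≤ e * e := Nat.mul_le_mul_left e (Nat.pos_of_ne_zero he0)
        omega
      show IsIrrCharacter L res
      rw [hresL, he1, Nat.cast_one, one_smul]
      exact φ.2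

end Cfsg.Agent.Chars2
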