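import Cfsg.Agent.Chars2.LagrangianEdge
import Mathlib.LinearAlgebra.Matrix.ToLin
import Mathlib.LinearAlgebra.Trace
import Mathlib.Algebra.Algebra.Subalgebra.Basic

/-!
A family of matrix representations, each with a decomposition of the identity by commuting
idempotents, whose image is its own orthogonal: indicators of separated sets are orthogonal to it.
-/

set_option autoImplicit false

namespace Cfsg.Agent.Chars2.Edge

open Module Matrix

universe v u

variable {k : Type v} [Field k] [IsAlgClosed k] {G : Type u} [Monoid G] [Fintype G]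
  {ι : Type*} [Fintype ι]

/-- Indicators of separated sets of representations are orthogonal to the image. -/
theorem sum_indicator_eq_zero (n h : ι → ℕ) (R : ∀ i, G →* Matrix (Fin (n i)) (Fin (n i)) k)
    (P : ∀ i, Fin (h i) → Matrix (Fin (n i)) (Fin (n i)) k) (hP1 : ∀ i, ∑ r, P i r = 1)
    (hP2 : ∀ i r, P i r * P i r = P i r) (hP3 : ∀ i r s, r ≠ s → P i r * P i s = 0)
    (hcomm : ∀ i r g, Commute (R i g) (P i r)) (w : ι → k) (hw : ∀ i, w i ≠ 0)
    (hiso : ∀ g, ∑ i, w i * (R i g).trace = 0)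
    (hconv : ∀ Z : ∀ i, Matrix (Fin (n i)) (Fin (n i)) k, (∀ i r, Commute (Z i) (P i r)) →
      (∀ g, ∑ i, w i * (Z i * R i g).trace = 0) →
      ∃ a : G → k, ∀ i, ∑ g, a g • R i g = Z i)
    (Q : Set ι) [DecidablePred (· ∈ Q)] (hQ : ∀ a ∈ Q, ∀ b, b ∉ Q → w a + w b ≠ 0) (g : G) :
    ∑ i, (if i ∈ Q then w i * (R i g).trace else 0) = 0 := by
  classical
  let L : ∀ i, Matrix (Fin (n i)) (Fin (n i)) k ≃ₐ[k] Module.End k (Fin (n i) → k) := fun i =>
    Matrix.toLinAlgEquiv'
  let V : (Σ i, Fin (h i)) → Type v := fun x => LinearMap.range (L x.1 (P x.1 x.2))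
  let u : (Σ i, Fin (h i)) → k := fun x => w x.1
  let inc : ∀ x : Σ i, Fin (h i), V x →ₗ[k] (Fin (n x.1) → k) := fun x =>
    (LinearMap.range (L x.1 (P x.1 x.2))).subtype
  let prj : ∀ x : Σ i, Fin (h i), (Fin (n x.1) → k) →ₗ[k] V x := fun x =>
    (L x.1 (P x.1 x.2)).rangeRestrict
  have hpi : ∀ x (z : V x), prj x (inc x z) = z := by
    rintro ⟨i, r⟩ ⟨z, z', rfl⟩
    refine Subtype.ext ?_
    show (L i (P i r) * L i (P i r)) z' = _
    rw [← map_mul, hP2]
  have hip : ∀ x, inc x ∘ₗ prj x = L x.1 (P x.1 x.2) := fun x => rfl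
  have hfix : ∀ x (z : V x), L x.1 (P x.1 x.2) (inc x z) = inc x z := fun x z =>
    congrArg Subtype.val (hpi x z)
  let E : G → Π x, Module.End k (V x) := fun g x => prj x ∘ₗ L x.1 (R x.1 g) ∘ₗ inc x
  have hE1 : E 1 = 1 := funext fun x => LinearMap.ext fun z => by
    simp [E, hpi]
  have hEm : ∀ a b, E a * E b = E (a * b) := fun a b => funext fun x => LinearMap.ext fun z => by
    show prj x (L x.1 (R x.1 a) (inc x (prj x (L x.1 (R x.1 b) (inc x z))))) =
      prj x (L x.1 (R x.1 (a * b)) (inc x z))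
    rw [map_mul, map_mul, Module.End.mul_apply]
    congr 2
    show L x.1 (P x.1 x.2) (L x.1 (R x.1 b) (inc x z)) = _
    rw [← Module.End.mul_apply, ← map_mul, ← (hcomm x.1 x.2 b).eq, map_mul, Module.End.mul_apply,
      hfix]
  let S : Subalgebra k (Π x, Module.End k (V x)) :=
    (Submodule.span k (Set.range E)).toSubalgebra
      (Submodule.subset_span ⟨1, hE1⟩) (fun x y hx hy => by
        induction hx, hy using Submodule.span_induction₂ with
        | mem_mem x y hx hy =>
          obtain ⟨a, rfl⟩ := hx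
          obtain ⟨b, rfl⟩ := hy
          exact Submodule.subset_span ⟨a * b, (hEm a b).symm⟩
        | zero_left y _ => rw [zero_mul]; exact zero_mem _
        | zero_right x _ => rw [mul_zero]; exact zero_mem _
        | add_left x y z _ _ _ h1 h2 => rw [add_mul]; exact add_mem h1 h2
        | add_right x y z _ _ _ h1 h2 => rw [mul_add]; exact add_mem h1 h2
        | smul_left r x y _ _ h1 => rw [smul_mul_assoc]; exact Submodule.smul_mem _ r h1
        | smul_right r x y _ _ h1 => rw [mul_smul_comm]; exact Submodule.smul_mem _ r h1)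
  let Zof : (Π x, Module.End k (V x)) → ∀ i, Matrix (Fin (n i)) (Fin (n i)) k := fun z i =>
    (L i).symm (∑ r, inc ⟨i, r⟩ ∘ₗ z ⟨i, r⟩ ∘ₗ prj ⟨i, r⟩)
  have hform : ∀ z g, form u V z (E g) = ∑ i, w i * (Zof z i * R i g).trace := by
    intro z g
    rw [form_apply, Fintype.sum_sigma]
    refine Finset.sum_congr rfl fun i _ => ?_
    simp only [u]
    rw [← Finset.mul_sum]
    congr 1
    rw [← Matrix.trace_toLin'_eq]
    show _ = LinearMap.trace k _ (L i (Zof z i * R i g))
    rw [map_mul, AlgEquiv.apply_symm_apply, Finset.sum_mul, map_sum]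
    refine Finset.sum_congr rfl fun r _ => ?_
    show LinearMap.trace k _ ((z ⟨i, r⟩ ∘ₗ prj ⟨i, r⟩ ∘ₗ L i (R i g)) ∘ₗ inc ⟨i, r⟩) = _
    rw [LinearMap.trace_comp_comm']
    rfl
  have hZdown : ∀ (D : ι → k) i, Zof (fun x => D x.1 • 1) i = D i • 1 := by
    intro D i
    apply (L i).injective
    rw [AlgEquiv.apply_symm_apply, map_smul, map_one]
    simp only [LinearMap.smul_comp, LinearMap.comp_smul, Module.End.one_eq_id,
      LinearMap.id_comp, hip, ← Finset.smul_sum]
    congr 1
    exact ((map_sum (L i) (P i) Finset.univ).symm.trans (by rw [hP1, map_one]; rfl))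
  have hone : ∀ g, form u V 1 (E g) = 0 := fun g => by
    have e : (1 : Π x, Module.End k (V x)) = fun x => (fun _ : ι => (1 : k)) x.1 • 1 :=
      funext fun x => (one_smul k _).symm
    rw [hform, e]
    refine Eq.trans (Finset.sum_congr rfl fun i _ => ?_) (hiso g)
    rw [hZdown (fun _ => (1 : k)), one_smul, one_mul]
  have hS : IsLagrangian u S := by
    intro z
    constructor
    · intro hz y hy
      change z ∈ Submodule.span k (Set.range E) at hz
      change y ∈ Submodule.span k (Set.range E) at hy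
      induction hz, hy using Submodule.span_induction₂ with
      | mem_mem x y hx hy =>
        obtain ⟨a, rfl⟩ := hx
        obtain ⟨b, rfl⟩ := hy
        rw [← hone (a * b), ← hEm, form_apply, form_apply]
        simp only [Pi.one_apply, Pi.mul_apply, one_mul]
      | zero_left y _ => simp
      | zero_right x _ => simp
      | add_left x y z _ _ _ h1 h2 => simp [h1, h2]
      | add_right x y z _ _ _ h1 h2 => simp [h1, h2]
      | smul_left r x y _ _ h1 => simp [h1]
      | smul_right r x y _ _ h1 => simp [h1]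
    · intro hz
      have hdown : ∀ i r s (v : V ⟨i, r⟩), r ≠ s → prj ⟨i, s⟩ (inc ⟨i, r⟩ v) = 0 := by
        intro i r s v hrs
        refine Subtype.ext ?_
        show L i (P i s) (inc ⟨i, r⟩ v) = 0
        rw [← hfix ⟨i, r⟩ v, ← Module.End.mul_apply, ← map_mul, hP3 i s r (Ne.symm hrs), map_zero,
          LinearMap.zero_apply]
      have hZc : ∀ i r, Commute (Zof z i) (P i r) := by
        intro i r
        show Zof z i * P i r = P i r * Zof z i
        apply (L i).injective
        rw [map_mul, map_mul, AlgEquiv.apply_symm_apply, Finset.sum_mul, Finset.mul_sum]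
        refine Finset.sum_congr rfl fun s _ => LinearMap.ext fun v => ?_
        show inc ⟨i, s⟩ (z ⟨i, s⟩ (prj ⟨i, s⟩ (L i (P i r) v))) =
          L i (P i r) (inc ⟨i, s⟩ (z ⟨i, s⟩ (prj ⟨i, s⟩ v)))
        by_cases hrs : r = s
        · subst hrs
          rw [hfix ⟨i, r⟩]
          congr 2
          exact hpi ⟨i, r⟩ (prj ⟨i, r⟩ v)
        · have e1 : prj ⟨i, s⟩ (L i (P i r) v) = 0 := hdown i r s (prj ⟨i, r⟩ v) hrs
          rw [e1, map_zero, map_zero, ← hfix ⟨i, s⟩, ← Module.End.mul_apply, ← map_mul,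
            hP3 i r s hrs, map_zero, LinearMap.zero_apply]
      obtain ⟨a, ha⟩ := hconv (Zof z) hZc fun g => by
        rw [← hform]; exact hz _ (Submodule.subset_span ⟨g, rfl⟩)
      have : z = ∑ g, a g • E g := by
        funext x
        obtain ⟨i, r⟩ := x
        refine LinearMap.ext fun v => ?_
        have h2 := congrArg (fun A => prj ⟨i, r⟩ (L i A (inc ⟨i, r⟩ v))) (ha i)
        simp only [map_sum, map_smul, LinearMap.sum_apply, LinearMap.smul_apply] at h2
        rw [Finset.sum_apply, LinearMap.sum_apply]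
        refine Eq.trans ?_ h2.symm
        show _ = prj ⟨i, r⟩ (L i (Zof z i) (inc ⟨i, r⟩ v))
        rw [AlgEquiv.apply_symm_apply, LinearMap.sum_apply, map_sum, Finset.sum_eq_single r]
        · show _ = prj ⟨i, r⟩ (inc ⟨i, r⟩ (z ⟨i, r⟩ (prj ⟨i, r⟩ (inc ⟨i, r⟩ v))))
          rw [hpi, hpi]
        · intro s _ hs
          show prj ⟨i, r⟩ (inc ⟨i, s⟩ (z ⟨i, s⟩ (prj ⟨i, s⟩ (inc ⟨i, r⟩ v)))) = 0
          rw [hdown i r s v (Ne.symm hs), map_zero, map_zero, map_zero]
        · intro hr; exact absurd (Finset.mem_univ r) hr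
      show z ∈ Submodule.span k (Set.range E)
      rw [this]
      exact sum_mem fun g _ => Submodule.smul_mem _ _ (Submodule.subset_span ⟨g, rfl⟩)
  have hmem := indicator_mem (u := u) (fun x => hw x.1) {x | x.1 ∈ Q}
    (fun a ha b hb => hQ a.1 ha b.1 hb) V S hS
  have h1 := (hS _).1 hmem (E g) (Submodule.subset_span ⟨g, rfl⟩)
  have e : (fun x : Σ i, Fin (h i) =>
      if x ∈ {x : Σ i, Fin (h i) | x.1 ∈ Q} then (1 : Module.End k (V x)) else 0) =
      fun x => (fun i => if i ∈ Q then (1 : k) else 0) x.1 • 1 := funext fun x => by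
    by_cases hx : x.1 ∈ Q <;> simp [hx]
  rw [e, hform] at h1
  refine Eq.trans (Finset.sum_congr rfl fun i _ => ?_) h1
  rw [hZdown (fun i => if i ∈ Q then (1 : k) else 0)]
  by_cases hi : i ∈ Q <;> simp [hi]

end Cfsg.Agent.Chars2.Edge
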