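import Cfsg.Agent.Chars2.OrbitRep
import Cfsg.Agent.Chars2.EdgeAssembly
import Cfsg.Agent.BlockChar.Subsection
import Mathlib.Dynamics.PeriodicPts.Lemmas

/-!
When `p` divides the group order only once, a block with degrees prime to `p` is connected by the
relation `p ∣ n_a t_a + n_b t_b` on the orbits of the automorphisms fixing the roots of unity of
order prime to `p` (`n` the degree, `t` the orbit length).
-/

set_option autoImplicit false
set_option linter.unusedSectionVars false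
set_option synthInstance.maxHeartbeats 200000

namespace Cfsg.Agent.Chars2.Cyc

open Cfsg Cfsg.Agent Cfsg.Agent.Blocks Cfsg.Agent.BlockChar Matrix Function

universe u

/-- Decomposition of a stable set into cycles. -/
theorem exists_orbit_reps {α : Type*} [Finite α] (f : Equiv.Perm α) (S : Finset α)
    (hS : ∀ x, f x ∈ S ↔ x ∈ S) :
    ∃ R : Finset α, (∀ i ∈ R, i ∈ S) ∧
      (∀ i ∈ R, ∀ i' ∈ R, ∀ j : ℕ, f^[j] i = i' → i = i') ∧
      (∀ x ∈ S, ∃ i ∈ R, ∃ j < minimalPeriod f i, f^[j] i = x) ∧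
      ∀ F : α → ℂ, ∑ x ∈ S, F x = ∑ i ∈ R, ∑ j ∈ Finset.range (minimalPeriod f i), F (f^[j] i) := by
  classical
  let s := Equiv.Perm.SameCycle.setoid f
  let r : α → α := fun x => (Quotient.mk s x).out
  have hr : ∀ x, f.SameCycle (r x) x := fun x => Quotient.exact (Quotient.out_eq (Quotient.mk s x))
  have hrcon : ∀ x y, f.SameCycle x y → r x = r y := fun x y h => congrArg Quotient.out
    (Quotient.sound (s := s) h)
  have hnat : ∀ x y, f.SameCycle x y → ∃ j : ℕ, f^[j] x = y := fun x y h => by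
    obtain ⟨j, -, -, hj⟩ := h.exists_pow_eq''
    exact ⟨j, by rw [← Equiv.Perm.coe_pow]; exact hj⟩
  have hiter : ∀ (j : ℕ) x, f^[j] x ∈ S ↔ x ∈ S := fun j => by
    induction j with
    | zero => intro x; rfl
    | succ j ih => intro x; rw [iterate_succ_apply, ih, hS]
  have hrS : ∀ x, x ∈ S → r x ∈ S := fun x hx => by
    obtain ⟨j, hj⟩ := hnat _ _ (hr x)
    exact (hiter j _).1 (hj.symm ▸ hx)
  have hsame : ∀ (j : ℕ) x, f.SameCycle x (f^[j] x) := fun j x =>
    ⟨(j : ℤ), by rw [zpow_natCast, Equiv.Perm.coe_pow]⟩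
  have hper : ∀ x, 0 < minimalPeriod f x := fun x =>
    (Function.mem_periodicPts.2 ⟨orderOf f, orderOf_pos f, by
      show f^[orderOf f] x = x
      rw [← Equiv.Perm.coe_pow, pow_orderOf_eq_one]; rfl⟩ |> minimalPeriod_pos_of_mem_periodicPts)
  refine ⟨S.image r, fun i hi => ?_, fun i hi i' hi' j hj => ?_, fun x hx => ?_, fun F => ?_⟩
  · obtain ⟨x, hx, rfl⟩ := Finset.mem_image.1 hi
    exact hrS x hx
  · obtain ⟨x, -, rfl⟩ := Finset.mem_image.1 hi
    obtain ⟨y, -, rfl⟩ := Finset.mem_image.1 hi'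
    exact hrcon x y ((hr x).symm.trans ((hj ▸ hsame j _).trans (hr y)))
  · obtain ⟨j, hj⟩ := hnat _ _ (hr x)
    refine ⟨r x, Finset.mem_image_of_mem r hx, j % minimalPeriod f (r x), Nat.mod_lt _ (hper _), ?_⟩
    rw [iterate_mod_minimalPeriod_eq, hj]
  · rw [← Finset.sum_fiberwise_of_maps_to (fun x hx => Finset.mem_image_of_mem r hx)]
    refine Finset.sum_congr rfl fun i hi => ?_
    obtain ⟨x₀, hx₀, rfl⟩ := Finset.mem_image.1 hi
    have hfib : S.filter (fun x => r x = r x₀) =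
        (Finset.range (minimalPeriod f (r x₀))).image (fun j => f^[j] (r x₀)) := by
      ext y
      simp only [Finset.mem_filter, Finset.mem_image, Finset.mem_range]
      constructor
      · rintro ⟨-, hy⟩
        obtain ⟨j, hj⟩ := hnat _ _ (hr y)
        exact ⟨j % minimalPeriod f (r x₀), Nat.mod_lt _ (hper _), by
          rw [iterate_mod_minimalPeriod_eq, ← hy, hj]⟩
      · rintro ⟨j, -, rfl⟩
        exact ⟨(hiter j _).2 (hrS x₀ hx₀),
          (hrcon _ _ ((hr x₀).symm.trans (hsame j _))).symm⟩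
    rw [hfib, Finset.sum_image]
    exact fun a ha b hb => iterate_injOn_Iio_minimalPeriod
      (Set.mem_Iio.2 (Finset.mem_range.1 ha)) (Set.mem_Iio.2 (Finset.mem_range.1 hb))

variable {G : Type u} [Group G] [Fintype G] {p m : ℕ} [hp : Fact p.Prime] {M : Ideal AlgInt}
  [M.IsMaximal] {σ : ℂ ≃+* ℂ} {k : ℕ}

/-- Connectedness of the orbit graph of a block. -/
theorem exists_edge (hm : ¬ p ∣ m) (hpM : (p : AlgInt) ∈ M) (hexp : Nat.card G ∣ p * m)
    (hdiv : p ∣ Nat.card G) (hσ : ∀ z : ℂ, z ^ m = 1 → σ z = z)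
    (hk : σ (zetaP p) = zetaP p ^ k) (hord : orderOf ((k : ℕ) : ZMod p) = p - 1)
    {B : Set (IrrCharacter G)} (hB : IsPBlock M B)
    (hdeg : ∀ χ ∈ B, ¬ p ∣ charDegree (χ : G → ℂ)) {Q : Set (IrrCharacter G)}
    (hQB : Q ⊆ B) (hQne : Q.Nonempty) (hQne' : (B \ Q).Nonempty)
    (hQσ : ∀ χ, gal σ χ ∈ Q ↔ χ ∈ Q) :
    ∃ a ∈ Q, ∃ b ∈ B \ Q, p ∣ charDegree (a : G → ℂ) * minimalPeriod (gal σ) a +
      charDegree (b : G → ℂ) * minimalPeriod (gal σ) b := by
  classical
  by_contra hno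
  push Not at hno
  haveI := BlockChar.charP_res (M := M) hpM
  have hp1 : 0 < p - 1 := by have := hp.out.two_le; omega
  have hm0 : m ≠ 0 := fun e => hm (e ▸ dvd_zero p)
  have hkpow : ((k : ℕ) : ZMod p) ^ (p - 1) = 1 := hord ▸ pow_orderOf_eq_one _
  set f : Equiv.Perm (IrrCharacter G) := gal σ with hf
  obtain ⟨R, hRB, hRinj, hRex, hRsum⟩ := exists_orbit_reps f (bf B) (fun x => by
    rw [mem_bf, mem_bf, hf, gal_mem_block hm hpM hexp hσ hB])
  have hRB' : ∀ i ∈ R, i ∈ B := fun i hi => mem_bf.1 (hRB i hi)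
  -- the periods
  let t : IrrCharacter G → ℕ := fun χ => minimalPeriod f χ
  have htd : ∀ χ, t χ ∣ p - 1 := fun χ =>
    IsPeriodicPt.minimalPeriod_dvd (gal_iterate_fix hm hexp hσ hk hkpow χ)
  have ht0 : ∀ χ, 0 < t χ := fun χ => Nat.pos_of_dvd_of_pos (htd χ) hp1
  let h : IrrCharacter G → ℕ := fun χ => (p - 1) / t χ
  have hth : ∀ χ, t χ * h χ = p - 1 := fun χ => Nat.mul_div_cancel' (htd χ)
  have hh0 : ∀ χ, 0 < h χ := fun χ => Nat.div_pos (Nat.le_of_dvd hp1 (htd χ)) (ht0 χ)
  have hhp : ∀ χ, ¬ p ∣ h χ := fun χ hd => by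
    have h1 : h χ ≤ p - 1 := Nat.div_le_self _ _
    have := Nat.le_of_dvd (hh0 χ) hd
    omega
  have htp : ∀ χ, ¬ p ∣ t χ := fun χ hd => by
    have h1 := Nat.le_of_dvd hp1 (htd χ)
    have := Nat.le_of_dvd (ht0 χ) hd
    omega
  -- the stable representations
  have hstab : ∀ i : R, Nonempty (StableRep p m (h i.1) M (powAut σ (t i.1)) (i.1 : G → ℂ)) := by
    intro i
    refine exists_stableRep hm hpM hexp i.1.2 (powAut_fix hσ _) (powAut_zetaP hk _) ?_ (hh0 _)
      fun g => ?_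
    · rw [Nat.cast_pow, orderOf_pow' _ (ht0 _).ne', hord, Nat.gcd_eq_right (htd _)]
    · rw [powAut_apply, ← gal_iterate]
      exact congrArg (fun χ : IrrCharacter G => (χ : G → ℂ) g) (isPeriodicPt_minimalPeriod f i.1)
  let sr : ∀ i : R, StableRep p m (h i.1) M (powAut σ (t i.1)) (i.1 : G → ℂ) := fun i =>
    (hstab i).some
  have hndeg : ∀ i : R, charDegree (i.1 : G → ℂ) = (sr i).n := fun i => by
    have h1 := (Blocks.charDegree_eq i.1.2).1
    rw [(sr i).deg] at h1
    exact_mod_cast h1.symm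
  have hproj : ∀ i : R, ∃ P : Fin (h i.1) → Matrix (Fin (sr i).n) (Fin (sr i).n) (Res M),
      ∑ r, P r = 1 ∧ (∀ r, P r * P r = P r) ∧ (∀ r s, r ≠ s → P r * P s = 0) ∧
      (∀ r g, Commute ((sr i).resRep g) (P r)) ∧
      ∀ Z, (∀ r, Commute Z (P r)) → Commute Z (resMat M (sr i).T) := fun i =>
    (sr i).exists_proj hm hpM (powAut_fix hσ _) (k := k ^ t i.1) (by
      rw [Nat.cast_pow, orderOf_pow' _ (ht0 _).ne', hord, Nat.gcd_eq_right (htd _)]) (hh0 _) (hhp _)
  choose P hP1 hP2 hP3 hP4 hP5 using hproj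
  let w : R → Res M := fun i => (((sr i).n * t i.1 : ℕ) : Res M)
  have hw : ∀ i, w i ≠ 0 := fun i e => by
    rcases hp.out.dvd_mul.1 ((CharP.cast_eq_zero_iff (Res M) p _).1 e) with h1 | h1
    · exact hdeg _ (hRB' _ i.2) (hndeg i ▸ h1)
    · exact htp _ h1
  have hmemR : ∀ (D : Set (IrrCharacter G)) (g : G) (i : R), MemLocalRing M
      (if i.1 ∈ D then (((sr i).n * t i.1 : ℕ) : ℂ) * (i.1 : G → ℂ) g else 0) := fun D g i => by
    split_ifs
    · exact memR_mul (memR_natCast _) (irr_memR _ g)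
    · exact memR_zero
  -- sums over the block
  have hsum : ∀ (D : Set (IrrCharacter G)), (∀ χ, f χ ∈ D ↔ χ ∈ D) → ∀ g : G,
      MemLocalIdeal M (∑ χ ∈ (bf B).filter (· ∈ D), (χ : G → ℂ) 1 * (χ : G → ℂ) g -
        ∑ i : R, if i.1 ∈ D then (((sr i).n * t i.1 : ℕ) : ℂ) * (i.1 : G → ℂ) g else 0) := by
    intro D hD g
    have hDit : ∀ (j : ℕ) χ, f^[j] χ ∈ D ↔ χ ∈ D := fun j => by
      induction j with
      | zero => intro χ; rfl
      | succ j ih => intro χ; rw [iterate_succ_apply, ih, hD]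
    rw [Finset.sum_filter, hRsum, ← Finset.sum_coe_sort R, ← Finset.sum_sub_distrib]
    refine memI_sum _ _ fun i _ => ?_
    by_cases hi : i.1 ∈ D
    · rw [if_pos hi]
      simp only [hDit, if_pos hi]
      have e : (((sr i).n * t i.1 : ℕ) : ℂ) * (i.1 : G → ℂ) g =
          ∑ j ∈ Finset.range (t i.1), (i.1 : G → ℂ) 1 * (i.1 : G → ℂ) g := by
        rw [Finset.sum_const, Finset.card_range, nsmul_eq_mul, (sr i).deg]
        push_cast; ring
      rw [e, ← Finset.sum_sub_distrib]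
      refine memI_sum _ _ fun j _ => ?_
      rw [hf, gal_iterate_one, ← mul_sub]
      exact memI_mul_left (irr_memR _ 1) (gal_value_congr hm hpM hexp hσ i.1 j g)
    · rw [if_neg hi]
      simp only [hDit, if_neg hi]
      simpa using memI_zero
  have hres : ∀ (D : Set (IrrCharacter G)) (g : G),
      ∑ i : R, (if i.1 ∈ D then w i * ((sr i).resRep g).trace else 0) = BlockChar.res M
        (∑ i : R, if i.1 ∈ D then (((sr i).n * t i.1 : ℕ) : ℂ) * (i.1 : G → ℂ) g else 0) := by
    intro D g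
    rw [BlockChar.res_sum _ _ fun i _ => hmemR D g i]
    refine Finset.sum_congr rfl fun i _ => ?_
    split_ifs
    · rw [BlockChar.res_mul (memR_natCast _) (irr_memR _ g), res_natCast, StableRep.trace_resRep]
    · rw [BlockChar.res_zero]
  obtain ⟨g', hg'⟩ := id hdiv
  have hg'p : ¬ p ∣ g' := fun hd' => by
    have h1 : p * p ∣ p * m := (mul_dvd_mul_left p hd').trans (hg' ▸ hexp)
    exact hm (Nat.dvd_of_mul_dvd_mul_left hp.out.pos h1)
  have hcard0 : MemLocalIdeal M (Nat.card G : ℂ) := (memI_natCast_iff hpM _).2 hdiv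
  have hcoeff : ∀ (D : Set (IrrCharacter G)) (g : G),
      ∑ χ ∈ bf D, (χ : G → ℂ) 1 * (χ : G → ℂ) g = (Nat.card G : ℂ) * blockCoeff D g⁻¹ := by
    intro D g
    rw [blockCoeff, finsum_mem_bf, ← mul_assoc, mul_inv_cancel₀ Chars.card_ne_zero, one_mul]
    refine Finset.sum_congr rfl fun χ _ => ?_
    rw [Chars.char_inv_eq_conj (Chars.irr_isCharacter χ), Complex.conj_conj]
  have hiso : ∀ g, ∑ i, w i * ((sr i).resRep g).trace = 0 := by
    intro g
    have h1 := hres Set.univ g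
    simp only [Set.mem_univ, if_true] at h1
    rw [h1, BlockChar.res_eq_zero_iff (memR_sum _ _ fun i _ => by
      simpa using hmemR Set.univ g i)]
    have h2 := hsum Set.univ (fun χ => by simp) g
    simp only [Set.mem_univ, if_true, Finset.filter_true] at h2
    refine (memI_iff_of_sub h2).1 ?_
    rw [hcoeff]
    exact memI_mul_right hcard0 (rFun_blockCoeff hpM hB _)
  have hconv : ∀ Z : ∀ i : R, Matrix (Fin (sr i).n) (Fin (sr i).n) (Res M),
      (∀ i r, Commute (Z i) (P i r)) → (∀ g, ∑ i, w i * (Z i * (sr i).resRep g).trace = 0) →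
      ∃ a : G → Res M, ∀ i, ∑ g, a g • (sr i).resRep g = Z i := by
    intro Z hZc hZ
    choose d v hd hv hvR hvres using fun x : (Σ i : R, Fin (sr i).n × Fin (sr i).n) =>
      exists_root_lift hpM (Z x.1 x.2.1 x.2.2)
    set m' := m * ∏ x, d x with hm'def
    have hm' : ¬ p ∣ m' := by
      intro hd'
      rcases hp.out.dvd_mul.1 hd' with h1 | h1
      · exact hm h1
      · obtain ⟨x, -, hx⟩ := (hp.out.prime.dvd_finsetProd_iff _).1 h1
        exact hd x hx
    have hmm' : m ∣ m' := Dvd.intro _ rfl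
    have hm'0 : m' ≠ 0 := fun e => hm' (e ▸ dvd_zero p)
    have hkp : ¬ p ∣ k := by
      rintro ⟨j, rfl⟩
      rw [pow_mul, isPrimitiveRoot_zetaP.pow_eq_one, one_pow,
        map_eq_one_iff _ σ.injective] at hk
      exact zetaP_ne_one hk
    obtain ⟨K, hK1, hK2⟩ := Nat.chineseRemainder (hp.out.coprime_iff_not_dvd.2 hm') k 1
    have hKcop : K.Coprime (p * m') := by
      refine Nat.Coprime.mul_right (Nat.Coprime.symm (hp.out.coprime_iff_not_dvd.2 fun hd' => ?_)) ?_
      · exact hkp ((Nat.ModEq.dvd_iff hK1 (dvd_refl p)).1 hd')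
      · rw [Nat.coprime_iff_gcd_eq_one, hK2.gcd_eq, Nat.gcd_one_left]
    obtain ⟨σ', hσ'⟩ := OddChar.exists_aut_pow (mul_ne_zero hp.out.ne_zero hm'0) hKcop
    have hσ'm : ∀ x : ℂ, x ^ m' = 1 → σ' x = x := fun x hx => by
      rw [hσ' x (by rw [mul_comm, pow_mul, hx, one_pow])]
      calc x ^ K = x ^ (K % m') := pow_eq_pow_mod K hx
        _ = x ^ (1 % m') := by rw [hK2]
        _ = x := by rw [← pow_eq_pow_mod 1 hx, pow_one]
    have hσ'k : σ' (zetaP p) = zetaP p ^ k := by
      rw [hσ' _ (by rw [pow_mul, isPrimitiveRoot_zetaP.pow_eq_one, one_pow]),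
        ← Nat.mod_add_div K p, ← Nat.mod_add_div k p, pow_add, pow_add, pow_mul, pow_mul,
        isPrimitiveRoot_zetaP.pow_eq_one, one_pow, one_pow, hK1]
    have hagree : ∀ x : ℂ, x ^ m = 1 → σ' x = σ x := fun x hx => by
      rw [hσ x hx, hσ'm x (by rw [hm'def, pow_mul, hx, one_pow])]
    let Zt : ∀ i : R, Matrix (Fin (sr i).n) (Fin (sr i).n) ℂ := fun i =>
      Matrix.of fun a b => v ⟨i, (a, b)⟩
    have hZres : ∀ i, resMat M (Zt i) = Z i := fun i => Matrix.ext fun a b => hvres ⟨i, (a, b)⟩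
    have hZR : ∀ i a b, MemLocalRing M (Zt i a b) := fun i a b => hvR _
    have hvpow : ∀ x, v x = 0 ∨ v x ^ m' = 1 := fun x => (hv x).imp id fun h1 => by
      obtain ⟨e, he⟩ : d x ∣ m' :=
        dvd_mul_of_dvd_right (Finset.dvd_prod_of_mem d (Finset.mem_univ x)) m
      rw [he, pow_mul, h1, one_pow]
    have hZL : ∀ i a b, Zt i a b ∈ cL p m' := fun i a b => by
      rcases hvpow ⟨i, (a, b)⟩ with h1 | h1
      · show v _ ∈ _; rw [h1]; exact zero_mem _
      · exact Subfield.subset_closure (Or.inl h1)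
    have hZfix : ∀ i a b, σ' (Zt i a b) = Zt i a b := fun i a b => by
      rcases hvpow ⟨i, (a, b)⟩ with h1 | h1
      · show σ' (v _) = v _; rw [h1, map_zero]
      · exact hσ'm _ h1
    let F : R → G → ℂ := fun i g => (Zt i * (sr i).rep g⁻¹).trace
    have hFR : ∀ i g, MemLocalRing M (F i g) := fun i g =>
      memR_trace (memR_mul_entries (hZR i) fun a b => ((sr i).rep_mem _ a b).2)
    have hFL : ∀ i g, F i g ∈ cL p m' := fun i g => sum_mem fun a _ =>
      mul_mem_entries _ (hZL i) (fun x y => cL_mono hmm' ((sr i).rep_mem g⁻¹ x y).1) a a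
    let y : G → ℂ := fun g =>
      ∑ i : R, (((sr i).n : ℂ) / (h i.1 : ℂ)) * ∑ r ∈ Finset.range (p - 1), (⇑σ')^[r] (F i g)
    have hycoef : ∀ i : R, MemLocalRing M (((sr i).n : ℂ) / (h i.1 : ℂ)) := fun i => by
      rw [div_eq_mul_inv]
      exact memR_mul (memR_natCast _) (memR_inv_natCast hpM (hhp _))
    have hyI : ∀ g, MemLocalIdeal M (y g) := by
      intro g
      have h1 : BlockChar.res M (∑ i : R, (((sr i).n * t i.1 : ℕ) : ℂ) * F i g) = 0 := by
        rw [← hZ g⁻¹, BlockChar.res_sum _ _ fun i _ => memR_mul (memR_natCast _) (hFR i g)]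
        refine Finset.sum_congr rfl fun i _ => ?_
        rw [BlockChar.res_mul (memR_natCast _) (hFR i g), res_natCast,
          res_trace (memR_mul_entries (hZR i) fun a b => ((sr i).rep_mem _ a b).2),
          resMat_mul (hZR i) (fun a b => ((sr i).rep_mem _ a b).2), hZres]
        rfl
      have h2 := (BlockChar.res_eq_zero_iff
        (memR_sum _ _ fun i _ => memR_mul (memR_natCast _) (hFR i g))).1 h1
      refine (memI_iff_of_sub ?_).2 h2
      rw [← Finset.sum_sub_distrib]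
      refine memI_sum _ _ fun i _ => ?_
      have e : (((sr i).n * t i.1 : ℕ) : ℂ) * F i g =
          (((sr i).n : ℂ) / (h i.1 : ℂ)) * ∑ r ∈ Finset.range (p - 1), F i g := by
        rw [Finset.sum_const, Finset.card_range, nsmul_eq_mul, ← hth i.1]
        have : (h i.1 : ℂ) ≠ 0 := Nat.cast_ne_zero.2 (hh0 _).ne'
        push_cast
        field_simp
      rw [e, ← mul_sub, ← Finset.sum_sub_distrib]
      exact memI_mul_left (hycoef i) (memI_sum _ _ fun r _ =>
        (iterate_congr_memR hm' hpM hσ'm r (hFL i g) (hFR i g)).2)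
    have hyL : ∀ g, y g ∈ cL p m' := fun g => sum_mem fun i _ =>
      mul_mem (div_mem (natCast_mem _ _) (natCast_mem _ _))
        (sum_mem fun r _ => iterate_mem_cL r (hFL i g))
    have hyfix : ∀ g, σ' (y g) = y g := fun g => by
      simp only [y, map_sum, map_mul, map_div₀, map_natCast]
      refine Finset.sum_congr rfl fun i _ => ?_
      congr 1
      have hlast : (⇑σ')^[p - 1] (F i g) = F i g :=
        iterate_orderOf_fix hσ'm hσ'k hkpow (hFL i g)
      have e1 := Finset.sum_range_succ' (fun r => (⇑σ')^[r] (F i g)) (p - 1)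
      rw [Finset.sum_range_succ, hlast] at e1
      simp only [iterate_zero, id_eq, iterate_succ_apply'] at e1
      exact (add_right_cancel e1).symm
    let x : G → ℂ := fun g => (Nat.card G : ℂ)⁻¹ * y g
    have hxR : ∀ g, MemLocalRing M (x g) := fun g => by
      show MemLocalRing M ((Nat.card G : ℂ)⁻¹ * y g)
      rw [hg', Nat.cast_mul, mul_inv, mul_comm (p : ℂ)⁻¹, mul_assoc, mul_comm (p : ℂ)⁻¹,
        ← div_eq_mul_inv]
      exact memR_mul (memR_inv_natCast hpM hg'p)
        (memR_div_p_of_fixed hσ'm hm' hpM hσ'k hord (hyL g) (hyI g) (hyfix g))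
    refine ⟨fun g => BlockChar.res M (x g), fun j => ?_⟩
    set s := sr j with hs
    have hcT : Commute (resMat M (Zt j)) (resMat M s.T) := by
      rw [hZres]; exact hP5 j _ (hZc j)
    have hWeq : ∑ g, x g • s.rep g = (h j.1 : ℂ)⁻¹ • ∑ q ∈ Finset.range (h j.1),
        twPow (powAut σ (t j.1)) s.T q * Zt j * (twPow (powAut σ (t j.1)) s.T q)⁻¹ := by
      simp only [x, y, ← smul_smul, ← Finset.smul_sum, Finset.sum_smul, Finset.mul_sum,
        Finset.smul_sum]
      rw [Finset.sum_comm, Finset.sum_eq_single j]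
      · rw [Finset.sum_comm]
        simp only [← Finset.smul_sum]
        rw [Finset.smul_sum, Finset.smul_sum, Finset.smul_sum]
        refine Eq.trans (Finset.sum_subset
          (s₁ := (Finset.range (h j.1)).image (t j.1 * ·)) ?_ ?_).symm ?_
        · intro r hr
          obtain ⟨q, hq, rfl⟩ := Finset.mem_image.1 hr
          rw [Finset.mem_range, ← hth j.1] at *
          exact Nat.mul_lt_mul_of_pos_left hq (ht0 _)
        · intro r hr hnot
          rw [(sum_twist_coeff hm hpM hσ hagree (hσ'k.trans hk.symm) s s (hZfix j) r).1,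
            smul_zero, smul_zero]
          intro he
          obtain ⟨q, rfl⟩ : t j.1 ∣ r := (show IsPeriodicPt f r j.1 from he).minimalPeriod_dvd
          refine hnot (Finset.mem_image.2 ⟨q, ?_, rfl⟩)
          rw [Finset.mem_range, ← hth j.1] at hr
          exact Finset.mem_range.2 (Nat.lt_of_mul_lt_mul_left hr)
        · rw [Finset.sum_image fun a _ b _ e => Nat.eq_of_mul_eq_mul_left (ht0 _) e]
          refine Finset.sum_congr rfl fun q hq => ?_
          rw [(sum_twist_coeff hm hpM hσ hagree (hσ'k.trans hk.symm) s s (hZfix j) _).2 q rfl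
            (Finset.mem_range.1 hq).le, smul_smul, smul_smul]
          congr 1
          have : (s.n : ℂ) ≠ 0 := Nat.cast_ne_zero.2 s.n_pos.ne'
          have : (Nat.card G : ℂ) ≠ 0 := Chars.card_ne_zero
          have : ((sr j).n : ℂ) ≠ 0 := Nat.cast_ne_zero.2 (sr j).n_pos.ne'
          rw [hs]
          field_simp
      · intro i _ hij
        rw [Finset.sum_comm]
        refine Finset.sum_eq_zero fun r _ => ?_
        rw [← Finset.smul_sum, ← Finset.smul_sum,
          (sum_twist_coeff hm hpM hσ hagree (hσ'k.trans hk.symm) (sr i) s (hZfix i) r).1,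
          smul_zero, smul_zero]
        exact fun he => hij (Subtype.ext (hRinj _ i.2 _ j.2 r he))
      · intro hj; exact absurd (Finset.mem_univ j) hj
    have h1 := s.res_average hm hpM (powAut_fix hσ _) (hh0 _) (hhp _) (hZR j) hcT
    rw [← hWeq, hZres, resMat_sum _ _ fun g _ a b => by
      rw [Matrix.smul_apply, smul_eq_mul]; exact memR_mul (hxR g) (s.rep_mem g a b).2] at h1
    rw [← h1]
    exact Finset.sum_congr rfl fun g _ =>
      (resMat_smul (hxR g) fun a b => (s.rep_mem g a b).2).symm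
  -- the indicator of `Q`
  have hQ0 : ∀ g, MemLocalIdeal M (∑ χ ∈ bf Q, (χ : G → ℂ) 1 * (χ : G → ℂ) g) := by
    intro g
    have h1 := Edge.sum_indicator_eq_zero (fun i => (sr i).n) (fun i : R => h i.1)
      (fun i => (sr i).resRep) P hP1 hP2 hP3 hP4 w hw hiso hconv {i : R | i.1 ∈ Q}
      (fun a ha b hb e => by
        refine hno a.1 ha b.1 ⟨hRB' _ b.2, hb⟩ ?_
        show p ∣ charDegree (a.1 : G → ℂ) * t a.1 + charDegree (b.1 : G → ℂ) * t b.1
        rw [hndeg, hndeg, ← CharP.cast_eq_zero_iff (Res M) p, Nat.cast_add]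
        exact e) g
    simp only [Set.mem_setOf_eq] at h1
    rw [hres Q g, BlockChar.res_eq_zero_iff (memR_sum _ _ fun i _ => hmemR Q g i)] at h1
    rw [show bf Q = (bf B).filter (· ∈ Q) by
      ext χ; simp only [mem_bf, Finset.mem_filter]; exact ⟨fun h => ⟨hQB h, h⟩, fun h => h.2⟩]
    exact (memI_iff_of_sub (hsum Q hQσ g)).2 h1
  have hQR : RFun M (blockCoeff Q) := by
    intro g
    have hfix : σ (∑ χ ∈ bf Q, (χ : G → ℂ) 1 * (χ : G → ℂ) g⁻¹) =
        ∑ χ ∈ bf Q, (χ : G → ℂ) 1 * (χ : G → ℂ) g⁻¹ := by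
      rw [map_sum]
      refine Finset.sum_equiv f (fun χ => ?_) fun χ _ => ?_
      · rw [mem_bf, mem_bf, hQσ]
      · rw [map_mul, ← gal_apply σ χ 1, ← gal_apply σ χ g⁻¹]
    have h1 := memR_div_p_of_fixed hσ hm hpM hk hord (sum_mem fun χ _ => mul_mem
      (cS_le_cL (char_mem_cS hm hexp (Chars.irr_isCharacter χ) 1))
      (cS_le_cL (char_mem_cS hm hexp (Chars.irr_isCharacter χ) g⁻¹))) (hQ0 g⁻¹) hfix
    rw [hcoeff, inv_inv, hg', Nat.cast_mul, mul_assoc,
      mul_div_cancel_left₀ _ (Nat.cast_ne_zero.2 hp.out.ne_zero : (p : ℂ) ≠ 0)] at h1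
    have h2 := memR_mul (memR_inv_natCast hpM hg'p) h1
    rwa [← mul_assoc, inv_mul_cancel₀ (Nat.cast_ne_zero.2 (fun e : g' = 0 => hg'p (e ▸ dvd_zero p))),
      one_mul] at h2
  obtain ⟨a, ha⟩ := hQne
  obtain ⟨b, hbB, hbQ⟩ := hQne'
  exact hbQ (mem_of_blockCoeff_local hQR ha (sameBlock_of_mem hB (hQB ha) hbB))

end Cfsg.Agent.Chars2.Cyc
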