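import Cfsg.Agent.Chars.Brauer

/-!
The local form of Brauer's induction theorem: only elementary subgroups for a single prime.
-/

set_option autoImplicit false
set_option linter.style.haveILetI false
set_option linter.unusedSectionVars false

namespace Cfsg.Agent.Chars2

open Cfsg Cfsg.Agent Cfsg.Agent.Chars
open scoped ComplexConjugate

universe u

variable {G : Type u} [Group G] [Fintype G]

/-- An additive group of integer valued functions closed under products, some member of which is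
prime to `p` at each point, contains a constant prime to `p`. -/
theorem exists_const_mem {X : Type*} [Fintype X] {p : ℕ} (hp : p.Prime)
    (S : AddSubgroup (X → ℤ)) (hmul : ∀ f ∈ S, ∀ g ∈ S, f * g ∈ S)
    (h : ∀ x : X, ∃ f ∈ S, ¬ (p : ℤ) ∣ f x) :
    ∃ m : ℤ, ¬ (p : ℤ) ∣ m ∧ (fun _ : X => m) ∈ S := by
  classical
  have key : ∀ s : Finset X, ∃ m : ℤ, ¬ (p : ℤ) ∣ m ∧ ∃ f ∈ S, ∀ x ∈ s, f x = m := by
    intro s
    induction s using Finset.induction_on with
    | empty =>
      exact ⟨1, fun hd => hp.one_lt.ne' (by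
        have := Int.natAbs_dvd_natAbs.2 hd
        simpa using this), 0, S.zero_mem, by simp⟩
    | insert a s _ ih =>
      obtain ⟨c, hc, f, hf, hfs⟩ := ih
      obtain ⟨g, hg, hgd⟩ := h a
      refine ⟨c * g a, fun hd => ((Nat.prime_iff_prime_int.1 hp).dvd_or_dvd hd).elim hc hgd,
        c • g + g a • f - f * g, S.sub_mem (S.add_mem (S.zsmul_mem hg c) (S.zsmul_mem hf (g a)))
          (hmul f hf g hg), fun x hx => ?_⟩
      simp only [Pi.sub_apply, Pi.add_apply, Pi.smul_apply, Pi.mul_apply, smul_eq_mul]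
      rcases Finset.mem_insert.1 hx with rfl | h'
      · ring
      · rw [hfs x h']; ring
  obtain ⟨m, hm, f, hf, hfm⟩ := key Finset.univ
  refine ⟨m, hm, ?_⟩
  convert hf using 1
  funext x
  exact (hfm x (Finset.mem_univ x)).symm

variable (G) in
/-- The functions induced from characters of elementary subgroups for the prime `p`. -/
def pGen (p : ℕ) : Set (G → ℂ) :=
  {f | ∃ E : Subgroup G, IsElementary p E ∧ ∃ ψ : E → ℂ, IsCharacter E ψ ∧ f = indFun E ψ}

variable (G) in
/-- The combinations of `pGen` with coefficients in the root ring. -/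
noncomputable def pSpan (p : ℕ) : Submodule (rootRing G) (G → ℂ) :=
  Submodule.span (rootRing G) (pGen G p)

theorem pSpan_le {p : ℕ} (hp : p.Prime) : pSpan G p ≤ elemSpan G :=
  Submodule.span_mono fun _ ⟨E, hE, ψ, hψ, e⟩ => ⟨E, p, hp, hE, ψ, hψ, e⟩

theorem pSpan_mul {p : ℕ} {f g : G → ℂ} (hf : f ∈ pSpan G p) (hg : g ∈ pSpan G p) :
    f * g ∈ pSpan G p := by
  induction hf using Submodule.span_induction with
  | zero => simp
  | add x y _ _ hx hy => rw [add_mul]; exact Submodule.add_mem _ hx hy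
  | smul a x _ hx => rw [smul_mul_assoc]; exact Submodule.smul_mem _ a hx
  | mem x hx =>
    induction hg using Submodule.span_induction with
    | zero => simp
    | add y z _ _ hy hz => rw [mul_add]; exact Submodule.add_mem _ hy hz
    | smul a y _ hy => rw [mul_smul_comm]; exact Submodule.smul_mem _ a hy
    | mem y hy =>
      obtain ⟨E, hE, ψ, hψ, rfl⟩ := hy
      obtain ⟨E', hE', ψ', hψ', rfl⟩ := hx
      rw [mul_indFun E ψ (isClassFunction_indFun E' ψ')]
      exact Submodule.subset_span ⟨E, hE, _,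
        isCharacter_mul (isCharacter_restrict (isCharacter_indFun E' hψ') E) hψ, rfl⟩

/-- For every element and prime some member of the span has an integral value there prime to `p`,
all its values being integers. -/
theorem exists_plocal_function (g₀ : G) {p : ℕ} (hp : p.Prime) :
    ∃ f ∈ pSpan G p, (∀ g, ∃ n : ℤ, f g = n) ∧ ∀ n : ℤ, f g₀ = n → ¬ (p : ℤ) ∣ n := by
  classical
  haveI := Fact.mk hp
  set N := Nat.card G with hN
  set K := N.factorization p
  have hN0 : N ≠ 0 := Nat.card_pos.ne'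
  set m := N / p ^ K with hm
  have hsplit : p ^ K * m = N := Nat.ordProj_mul_ordCompl_eq_self N p
  have hcop : Nat.Coprime m (p ^ K) :=
    (Nat.Coprime.pow_left K (Nat.coprime_ordCompl hp hN0)).symm
  obtain ⟨c, hc1, hc0⟩ := Nat.chineseRemainder hcop 1 0
  have hcm : ∀ z : G, z ^ m = 1 → z ^ c = z := fun z hz => by
    rw [pow_eq_pow_iff_modEq.2 (hc1.of_dvd (orderOf_dvd_of_pow_eq_one hz)), pow_one]
  have hcp : ∀ z : G, z ^ p ^ K = 1 → z ^ c = 1 := fun z hz => by
    rw [pow_eq_pow_iff_modEq.2 (hc0.of_dvd (orderOf_dvd_of_pow_eq_one hz)), pow_zero]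
  set x := g₀ ^ c with hx
  have hxm : x ^ m = 1 := by
    obtain ⟨j, hj⟩ : p ^ K ∣ c := Nat.modEq_zero_iff_dvd.1 hc0
    rw [hx, hj, ← pow_mul, mul_right_comm, hsplit, pow_mul, pow_card_eq_one', one_pow]
  set y := x⁻¹ * g₀ with hy
  have hxy : Commute x y :=
    ((Commute.refl x).inv_right).mul_right ((Commute.refl g₀).pow_left c)
  have hypk : y ^ p ^ K = 1 := by
    have h1 : g₀ ^ (c * p ^ K) = g₀ ^ p ^ K := by
      rw [pow_eq_pow_iff_modEq]
      refine Nat.ModEq.of_dvd (orderOf_dvd_natCard g₀) ?_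
      rw [← hN, ← hsplit, mul_comm (p ^ K) m]
      simpa using hc1.mul_right' (p ^ K)
    rw [hy, (((Commute.refl g₀).pow_left c).inv_left).mul_pow, inv_pow, ← pow_mul, h1,
      inv_mul_cancel]
  let C := Subgroup.centralizer ({x} : Set G)
  obtain ⟨Q⟩ : Nonempty (Sylow p C) := inferInstance
  let P : Subgroup G := (Q : Subgroup C).map C.subtype
  have hPp : ∀ q ∈ P, q ^ p ^ K = 1 := by
    intro q hq
    have hP : IsPGroup p P := Q.2.map _
    obtain ⟨k, hk⟩ := IsPGroup.iff_card.1 hP
    have hdvd : Nat.card P ∣ p ^ K := by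
      rw [hk]
      refine Nat.pow_dvd_pow p ((hp.pow_dvd_iff_le_factorization hN0).1 ?_)
      rw [← hk]
      exact Subgroup.card_subgroup_dvd_card P
    exact orderOf_dvd_iff_pow_eq_one.1
      ((Subgroup.orderOf_dvd_natCard (s := P) hq).trans hdvd)
  have hPx : ∀ q ∈ P, Commute x q := by
    rintro q ⟨q', -, rfl⟩
    exact Subgroup.mem_centralizer_iff.1 q'.2 x rfl
  -- the elementary subgroup
  let E : Subgroup G :=
    { carrier := {e | ∃ i : ℤ, ∃ q ∈ P, e = x ^ i * q}
      one_mem' := ⟨0, 1, P.one_mem, by simp⟩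
      mul_mem' := by
        rintro _ _ ⟨i, q, hq, rfl⟩ ⟨j, r, hr, rfl⟩
        refine ⟨i + j, q * r, P.mul_mem hq hr, ?_⟩
        rw [zpow_add, mul_assoc, ← mul_assoc q, ((hPx q hq).zpow_left j).symm.eq]
        simp [mul_assoc]
      inv_mem' := by
        rintro _ ⟨i, q, hq, rfl⟩
        refine ⟨-i, q⁻¹, P.inv_mem hq, ?_⟩
        rw [mul_inv_rev, zpow_neg, ((hPx q⁻¹ (P.inv_mem hq)).zpow_left i).inv_left.eq] }
  have hxE : x ∈ E := ⟨1, 1, P.one_mem, by simp⟩
  have hpowc : ∀ (i : ℤ), ∀ q ∈ P, (x ^ i * q) ^ c = x ^ i := by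
    intro i q hq
    rw [((hPx q hq).zpow_left i).mul_pow, hcp q (hPp q hq), mul_one, ← zpow_natCast,
      zpow_comm, zpow_natCast, hcm x hxm]
  have hEel : IsElementary p E := by
    refine ⟨⟨x, hxE⟩, Subgroup.mem_center_iff.2 ?_, ?_, ?_⟩
    · rintro ⟨_, i, q, hq, rfl⟩
      apply Subtype.ext
      exact ((((Commute.refl x).zpow_left i).mul_left (hPx q hq).symm)).eq
    · rw [Subgroup.orderOf_mk]
      exact Nat.Coprime.coprime_dvd_left (orderOf_dvd_of_pow_eq_one hxm)
        ((Nat.coprime_ordCompl hp hN0).symm)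
    · have hnorm : (Subgroup.zpowers (⟨x, hxE⟩ : E)).Normal := ⟨by
        rintro _ ⟨j, rfl⟩ ⟨_, i, q, hq, rfl⟩
        refine ⟨j, Subtype.ext ?_⟩
        have : Commute (x ^ i * q) (x ^ j) :=
          ((((Commute.refl x).zpow_left i).mul_left (hPx q hq).symm).zpow_right j)
        show x ^ j = x ^ i * q * x ^ j * (x ^ i * q)⁻¹
        rw [this.eq, mul_inv_cancel_right]⟩
      obtain ⟨k, hk⟩ := IsPGroup.iff_card.1 (show IsPGroup p (E ⧸ Subgroup.zpowers ⟨x, hxE⟩) by
        intro e
        induction e using QuotientGroup.induction_on with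
        | _ e =>
        obtain ⟨_, i, q, hq, rfl⟩ := e
        refine ⟨K, ?_⟩
        rw [← QuotientGroup.mk_pow, QuotientGroup.eq_one_iff]
        refine ⟨i * ((p ^ K : ℕ) : ℤ), Subtype.ext ?_⟩
        show x ^ (i * ((p ^ K : ℕ) : ℤ)) = (x ^ i * q) ^ p ^ K
        rw [((hPx q hq).zpow_left i).mul_pow, hPp q hq, mul_one, zpow_mul, zpow_natCast])
      exact ⟨k, hk⟩
  -- the projection to the cyclic part
  let Z := Subgroup.zpowers x
  have hEZ : ∀ e : E, (e : G) ^ c ∈ Z := by
    rintro ⟨_, i, q, hq, rfl⟩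
    rw [hpowc i q hq]
    exact ⟨i, rfl⟩
  let π : E →* Z :=
    { toFun := fun e => ⟨(e : G) ^ c, hEZ e⟩
      map_one' := by ext; simp
      map_mul' := by
        rintro ⟨_, i, q, hq, rfl⟩ ⟨_, j, r, hr, rfl⟩
        apply Subtype.ext
        have hmul : x ^ i * q * (x ^ j * r) = x ^ (i + j) * (q * r) := by
          rw [zpow_add, mul_assoc, ← mul_assoc q, ((hPx q hq).zpow_left j).symm.eq]
          simp [mul_assoc]
        simp only [Subgroup.coe_mul, hmul, hpowc _ _ hq, hpowc _ _ hr,
          hpowc _ _ (P.mul_mem hq hr)]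
        exact zpow_add x i j }
  let xZ : Z := ⟨x, Subgroup.mem_zpowers x⟩
  have hcomm : ∀ a b : Z, a * b = b * a := by
    rintro ⟨_, i, rfl⟩ ⟨_, j, rfl⟩
    exact Subtype.ext (zpow_mul_comm x i j)
  let θ : E → ℂ := fun e => if π e = xZ then (Nat.card Z : ℂ) else 0
  have hθ : θ = ∑ χ : IrrCharacter Z, conj ((χ : Z → ℂ) xZ) • ((χ : Z → ℂ) ∘ π) := by
    funext e
    rw [Finset.sum_apply]
    have h := column_orth (π e) xZ
    simp only [Pi.smul_apply, Function.comp_apply, smul_eq_mul, mul_comm (conj _)]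
    rw [h]
    simp only [θ]
    by_cases he : π e = xZ
    · rw [if_pos he, if_pos (he ▸ IsConj.refl (π e))]
      congr 1
      refine ((congrArg (fun S : Subgroup Z => Nat.card S)
        (Subgroup.centralizer_eq_top_iff_subset.2 ?_)).trans Subgroup.card_top).symm
      intro a _
      exact Subgroup.mem_center_iff.2 fun b => hcomm b a
    · rw [if_neg he, if_neg]
      intro hc
      obtain ⟨u, hu⟩ := isConj_iff.1 hc
      exact he (by rw [← hu, hcomm u, mul_inv_cancel_right])
  have hmem : indFun E θ ∈ pSpan G p := by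
    rw [hθ, indFun_sum]
    refine Submodule.sum_mem _ fun χ _ => ?_
    obtain ⟨φ, hφ⟩ := exists_hom_of_degree_one (irr_isCharacter χ)
      (irr_apply_one_of_comm hcomm χ.2)
    have hcoef : conj ((χ : Z → ℂ) xZ) ∈ rootRing G := by
      rw [← char_inv_eq_conj (irr_isCharacter χ), hφ]
      exact hom_apply_mem_rootRing (Subgroup.card_subgroup_dvd_card Z) φ _
    rw [indFun_smul]
    exact Submodule.smul_mem _ (⟨_, hcoef⟩ : rootRing G) (Submodule.subset_span
      ⟨E, hEel, _, isCharacter_comp (irr_isCharacter χ) π, rfl⟩)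
  -- the values
  have hcardE : Nat.card E = Nat.card Z * Nat.card P := by
    let e' : Z × P → E := fun zq => ⟨(zq.1 : G) * zq.2, by
      obtain ⟨i, hi⟩ := zq.1.2; exact ⟨i, zq.2, zq.2.2, by simp [← hi]⟩⟩
    rw [← Nat.card_prod]
    refine (Nat.card_eq_of_bijective e' ⟨?_, ?_⟩).symm
    · rintro ⟨⟨_, i, rfl⟩, q, hq⟩ ⟨⟨_, j, rfl⟩, r, hr⟩ h
      have h' : x ^ i * q = x ^ j * r := congrArg Subtype.val h
      have h1 : x ^ i = x ^ j := by rw [← hpowc i q hq, ← hpowc j r hr, h']
      rw [h1] at h'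
      exact Prod.ext (Subtype.ext h1) (Subtype.ext (mul_left_cancel h'))
    · rintro ⟨_, i, q, hq, rfl⟩
      exact ⟨⟨⟨x ^ i, i, rfl⟩, ⟨q, hq⟩⟩, rfl⟩
  have hval : ∀ g, indFun E θ g =
      ((Finset.univ.filter fun h : G => x⁻¹ * (h⁻¹ * g * h) ∈ P).card : ℂ) / (Nat.card P : ℂ) := by
    intro g
    have hext : ∀ z : G, extendByZero E θ z = if x⁻¹ * z ∈ P then (Nat.card Z : ℂ) else 0 := by
      intro z
      by_cases hz : z ∈ E
      · rw [extendByZero_of_mem E θ hz]
        obtain ⟨i, q, hq, rfl⟩ := hz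
        simp only [θ]
        congr 1
        simp only [π, xZ, MonoidHom.coe_mk, OneHom.coe_mk, Subtype.mk.injEq, hpowc i q hq,
          eq_iff_iff]
        constructor
        · intro h; rw [h]; simpa using hq
        · intro h
          have h2 : x ^ (i - 1) ∈ P := by
            have := P.mul_mem h (P.inv_mem hq)
            rwa [← mul_assoc, mul_inv_cancel_right,
              show x⁻¹ * x ^ i = x ^ (i - 1) by group] at this
          have h3 : x ^ (i - 1) = 1 := by
            have h4 := hpowc (i - 1) 1 P.one_mem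
            rw [mul_one, hcp _ (hPp _ h2)] at h4
            exact h4.symm
          rw [zpow_sub, zpow_one, mul_inv_eq_one] at h3
          exact h3
      · rw [extendByZero_of_not_mem E θ hz, if_neg]
        intro h
        exact hz ⟨1, _, h, by simp⟩
    have hZ : (Nat.card Z : ℂ) ≠ 0 := by exact_mod_cast Nat.card_pos.ne'
    simp only [indFun_apply, hext]
    rw [← Finset.sum_filter, Finset.sum_const, nsmul_eq_mul, hcardE, Nat.cast_mul]
    field_simp
  refine ⟨_, hmem, ?_, ?_⟩
  · intro g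
    have h1 := isIntegral_of_mem_elemSpan (pSpan_le hp hmem) g
    rw [hval] at h1
    obtain ⟨j, hj⟩ := dvd_of_isIntegral_div Nat.card_pos h1
    refine ⟨(j : ℤ), ?_⟩
    rw [hval, hj, Nat.cast_mul, Int.cast_natCast,
      mul_div_cancel_left₀ _ (by exact_mod_cast Nat.card_pos.ne')]
  · intro n hn
    -- fixed points of `y` on the cosets of `Q` in the centralizer
    have hyC : y ∈ C := Subgroup.mem_centralizer_iff.2 fun z hz => by
      rw [Set.mem_singleton_iff.1 hz]; exact hxy.eq
    let Y := Subgroup.zpowers (⟨y, hyC⟩ : C)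
    have hY : IsPGroup p Y := by
      rintro ⟨_, j, rfl⟩
      refine ⟨K, Subtype.ext (Subtype.ext ?_)⟩
      simp [← zpow_natCast, ← zpow_mul, mul_comm j]
      rw [zpow_mul, ← Nat.cast_pow, zpow_natCast, hypk, one_zpow]
    have hfix := hY.card_modEq_card_fixedPoints (C ⧸ (Q : Subgroup C))
    have hmemT : ∀ h : C, ((h : C ⧸ (Q : Subgroup C)) ∈
        MulAction.fixedPoints Y (C ⧸ (Q : Subgroup C))) ↔
        x⁻¹ * ((h : G)⁻¹ * g₀ * h) ∈ P := by
      intro h
      have hxh : Commute x (h : G) := Subgroup.mem_centralizer_iff.1 h.2 x rfl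
      have heq : x⁻¹ * ((h : G)⁻¹ * g₀ * h) = (h : G)⁻¹ * y * h := by
        rw [hy, ← mul_assoc, ← mul_assoc, (hxh.inv_inv).eq]
        simp [mul_assoc]
      rw [heq]
      have hP : ∀ z : C, (z : G) ∈ P ↔ z ∈ (Q : Subgroup C) := fun z =>
        Subgroup.mem_map_iff_mem C.subtype_injective
      rw [show (h : G)⁻¹ * y * h = ((h⁻¹ * ⟨y, hyC⟩ * h : C) : G) from rfl, hP]
      constructor
      · intro hf
        have h1 := hf ⟨⟨y, hyC⟩, Subgroup.mem_zpowers _⟩
        have h2 := QuotientGroup.eq.1 h1.symm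
        simpa [mul_assoc] using h2
      · intro hf s
        have hs : ∀ z ∈ Y, h⁻¹ * z * h ∈ (Q : Subgroup C) := by
          rintro _ ⟨j, rfl⟩
          have := (Q : Subgroup C).zpow_mem hf j
          rwa [show h⁻¹ * ⟨y, hyC⟩ * h = MulAut.conj h⁻¹ ⟨y, hyC⟩ by simp,
            ← map_zpow, MulAut.conj_apply, inv_inv] at this
        refine (QuotientGroup.eq.2 ?_).symm
        simpa [mul_assoc] using hs s s.2
    have hsub : ∀ h : G, x⁻¹ * (h⁻¹ * g₀ * h) ∈ P → h ∈ C := by
      intro h hh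
      have h1 : (h⁻¹ * g₀ * h) ^ c = x := by
        rw [show h⁻¹ * g₀ * h = x ^ (1 : ℤ) * (x⁻¹ * (h⁻¹ * g₀ * h)) by simp,
          hpowc 1 _ hh, zpow_one]
      rw [show h⁻¹ * g₀ * h = MulAut.conj h⁻¹ g₀ by simp, ← map_pow, ← hx,
        MulAut.conj_apply, inv_inv] at h1
      refine Subgroup.mem_centralizer_iff.2 fun z hz => ?_
      rw [Set.mem_singleton_iff.1 hz]
      calc x * h = h * (h⁻¹ * x * h) := by group
        _ = h * x := by rw [h1]
    have hcount : (Finset.univ.filter fun h : G => x⁻¹ * (h⁻¹ * g₀ * h) ∈ P).card =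
        Nat.card P * Nat.card (MulAction.fixedPoints Y (C ⧸ (Q : Subgroup C))) := by
      rw [show Nat.card P = Nat.card (Q : Subgroup C) from
        Subgroup.card_map_of_injective C.subtype_injective, ← Nat.card_prod,
        ← Nat.card_congr (QuotientGroup.preimageMkEquivSubgroupProdSet (Q : Subgroup C) _),
        ← Nat.card_eq_finsetCard]
      refine Nat.card_congr
        { toFun := fun h => ⟨⟨h.1, hsub _ (Finset.mem_filter.1 h.2).2⟩,
            (hmemT _).2 (Finset.mem_filter.1 h.2).2⟩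
          invFun := fun h => ⟨(h.1 : G), Finset.mem_filter.2 ⟨Finset.mem_univ _, (hmemT h.1).1 h.2⟩⟩
          left_inv := fun _ => rfl
          right_inv := fun _ => rfl }
    rw [hval, hcount, Nat.cast_mul,
      mul_div_cancel_left₀ _ (by exact_mod_cast Nat.card_pos.ne')] at hn
    have hn' : n = (Nat.card (MulAction.fixedPoints Y (C ⧸ (Q : Subgroup C))) : ℤ) := by
      exact_mod_cast hn.symm
    rw [hn', Int.natCast_dvd_natCast]
    intro hdvd
    have hidx : p ∣ (Q : Subgroup C).index := by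
      rw [Subgroup.index_eq_card]
      exact (Nat.ModEq.dvd_iff hfix dvd_rfl).2 hdvd
    exact Sylow.not_dvd_index Q hidx

/-- The local form of Brauer's induction theorem. -/
theorem brauer_local {p : ℕ} (hp : p.Prime) : ∃ (m : ℤ) (n : ℕ) (a : Fin n → ℤ)
    (f : Fin n → G → ℂ), ¬ (p : ℤ) ∣ m ∧ (∀ i, f i ∈ pGen G p) ∧
      (fun _ : G => (m : ℂ)) = ∑ i, (a i : ℂ) • f i := by
  let S : AddSubgroup (G → ℤ) :=
    { carrier := {f | (fun g => (f g : ℂ)) ∈ pSpan G p}
      zero_mem' := by simp [← Pi.zero_def]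
      add_mem' := fun {a b} ha hb => by
        simpa [Pi.add_def] using (pSpan G p).add_mem ha hb
      neg_mem' := fun {a} ha => by
        simpa [Pi.neg_def] using (pSpan G p).neg_mem ha }
  obtain ⟨m, hm, hmem⟩ := exists_const_mem hp S
    (fun f hf g hg => by
      have := pSpan_mul (G := G) hf hg
      simpa [S, Pi.mul_def] using this)
    (fun g₀ => by
      obtain ⟨f, hf, hint, hnd⟩ := exists_plocal_function g₀ hp
      choose n hn using hint
      refine ⟨n, ?_, hnd (n g₀) (hn g₀)⟩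
      show (fun g => (n g : ℂ)) ∈ pSpan G p
      simpa [← hn] using hf)
  have hmem' : (fun _ : G => (m : ℂ)) ∈ pSpan G p := hmem
  obtain ⟨φ, hφ⟩ := exists_retraction G
  obtain ⟨n, a, f, hs⟩ := Submodule.mem_span_set'.1 hmem'
  refine ⟨m, n, fun i => φ (a i), fun i => (f i).1, hm, fun i => (f i).2, ?_⟩
  have hchar : ∀ i, IsCharacter G (f i).1 := fun i => by
    obtain ⟨E, -, ψ, hψ, he⟩ := (f i).2
    rw [he]; exact isCharacter_indFun E hψ
  refine classInner_ext (fun _ _ => rfl)
    (isClassFunction_sum _ _ fun i _ =>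
      isClassFunction_smul _ (isClassFunction_of_isCharacter (hchar i))) fun χ hχ => ?_
  choose k hk using fun i => exists_classInner_eq_nat (hchar i) (isCharacter_of_isIrr hχ)
  obtain ⟨b, hb⟩ := exists_classInner_eq_nat isCharacter_one (isCharacter_of_isIrr hχ)
  have hconst : (fun _ : G => (m : ℂ)) = (m : ℂ) • (fun _ : G => (1 : ℂ)) := by funext; simp
  rw [hconst, classInner_smul_left, hb]
  have h1 := congrArg (fun F => classInner F χ) hs
  simp only [classInner_sum_left] at h1
  rw [hconst, classInner_smul_left, hb] at h1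
  simp only [classInner_sum_left, classInner_smul_left, hk]
  have h2 : (∑ i, a i * algebraMap ℤ (rootRing G) (k i)) =
      algebraMap ℤ (rootRing G) (m * b : ℤ) := by
    apply Subtype.ext
    rw [AddSubmonoidClass.coe_finset_sum]
    simp only [Subalgebra.coe_mul, Subalgebra.coe_algebraMap]
    refine (Eq.trans ?_ h1).trans (by simp)
    refine Finset.sum_congr rfl fun i _ => ?_
    show (a i : ℂ) * _ = classInner ((a i : ℂ) • (f i).1) χ
    rw [classInner_smul_left, hk]
    simp
  have h3 := congrArg φ h2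
  rw [map_sum, hφ] at h3
  have h4 : ∀ i, φ (a i * algebraMap ℤ (rootRing G) (k i)) = φ (a i) * (k i : ℤ) := fun i => by
    rw [mul_comm, ← Algebra.smul_def, map_zsmul, smul_eq_mul, mul_comm]
  simp only [h4] at h3
  exact_mod_cast h3.symm

end Cfsg.Agent.Chars2
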