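import Cfsg.Agent.Blocks.Trace
import Cfsg.Agent.BlockChar.Reduce
import Mathlib.RingTheory.RootsOfUnity.Lemmas
import Mathlib.FieldTheory.Minpoly.Field
import Mathlib.Algebra.CharP.Lemmas

/-!
The local ring at `M` inside the field generated by the `m`-th and the `p`-th roots of unity
(`p` prime to `m`): normal form, the action of automorphisms fixing the `m`-th roots.
-/

set_option autoImplicit false
set_option linter.unusedSectionVars false

namespace Cfsg.Agent.Chars2.Cyc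

open Cfsg Cfsg.Agent Cfsg.Agent.Blocks

/-- Roots of unity generating the cyclotomic ring. -/
def rootSet (p m : ℕ) : Set ℂ := {z | z ^ m = 1 ∨ z ^ p = 1}

/-- `ℤ` with the `m`-th roots of unity. -/
noncomputable def cS0 (m : ℕ) : Subring ℂ := Subring.closure {z | z ^ m = 1}

/-- `ℤ` with the `m`-th and `p`-th roots of unity. -/
noncomputable def cS (p m : ℕ) : Subring ℂ := Subring.closure (rootSet p m)

/-- `ℚ` with the `m`-th and `p`-th roots of unity. -/
noncomputable def cL (p m : ℕ) : Subfield ℂ := Subfield.closure (rootSet p m)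

/-- The uniformiser. -/
noncomputable def pi1 (p : ℕ) : ℂ := 1 - zetaP p

variable {p m : ℕ} [hp : Fact p.Prime] {M : Ideal AlgInt} [M.IsMaximal]

theorem cS0_le_cS : cS0 m ≤ cS p m :=
  Subring.closure_mono fun _ hz => Or.inl hz

theorem root_mem_cS {z : ℂ} {k : ℕ} (hcop : p.Coprime m) (hk : k ∣ p * m) (hz : z ^ k = 1) :
    z ∈ cS p m := by
  have hz' : z ^ (p * m) = 1 := by obtain ⟨j, hj⟩ := hk; rw [hj, pow_mul, hz, one_pow]
  obtain ⟨a, b, hab⟩ := (Nat.Coprime.isCoprime hcop)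
  have hne : z ≠ 0 := by
    rintro rfl
    rw [zero_pow_eq] at hz'
    split_ifs at hz' with h
    · rcases Nat.mul_eq_zero.1 h with h | h
      · exact hp.out.ne_zero h
      · exact hp.out.ne_one (by simpa [h] using hcop)
    · exact zero_ne_one hz'
  have he : z = z ^ (a * (p : ℤ)) * z ^ (b * (m : ℤ)) := by
    rw [← zpow_add₀ hne, hab, zpow_one]
  rw [he]
  refine mul_mem (Subring.subset_closure (Or.inl ?_)) (Subring.subset_closure (Or.inr ?_))
  · rw [← zpow_natCast, ← zpow_mul, show a * (p : ℤ) * m = ((p * m : ℕ) : ℤ) * a by push_cast; ring,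
      zpow_mul, zpow_natCast, hz', one_zpow]
  · rw [← zpow_natCast, ← zpow_mul, show b * (m : ℤ) * p = ((p * m : ℕ) : ℤ) * b by push_cast; ring,
      zpow_mul, zpow_natCast, hz', one_zpow]

theorem cS_le_cL {a : ℂ} (h : a ∈ cS p m) : a ∈ cL p m :=
  (Subring.closure_le.2 fun _ hz => Subfield.subset_closure hz :
    cS p m ≤ (cL p m).toSubring) h

theorem isIntegral_of_mem_cS (hm : m ≠ 0) {a : ℂ} (h : a ∈ cS p m) : IsIntegral ℤ a := by
  induction h using Subring.closure_induction with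
  | mem z hz =>
    rcases hz with hz | hz
    · exact IsIntegral.of_pow (Nat.pos_of_ne_zero hm) (by rw [hz]; exact isIntegral_one)
    · exact IsIntegral.of_pow hp.out.pos (by rw [hz]; exact isIntegral_one)
  | zero => exact isIntegral_zero
  | one => exact isIntegral_one
  | add x y _ _ hx hy => exact hx.add hy
  | neg x _ hx => exact hx.neg
  | mul x y _ _ hx hy => exact hx.mul hy

theorem memR_of_mem_cS (hm : m ≠ 0) {a : ℂ} (h : a ∈ cS p m) : MemLocalRing M a :=
  memR_of_isIntegral (isIntegral_of_mem_cS hm h)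

theorem zetaP_mem : zetaP p ∈ cS p m :=
  Subring.subset_closure (Or.inr isPrimitiveRoot_zetaP.pow_eq_one)

theorem pi1_mem : pi1 p ∈ cS p m := sub_mem (one_mem _) zetaP_mem

theorem pi1_ne_zero : pi1 p ≠ 0 := sub_ne_zero.2 zetaP_ne_one.symm

theorem memI_pi1 (hpM : (p : AlgInt) ∈ M) : MemLocalIdeal M (pi1 p) := by
  have h := memI_neg (zetaP_pow_congr hpM 1).2
  rwa [pow_one, neg_sub] at h

/-- `1 - ζ^k` as a multiple of the uniformiser. -/
theorem exists_one_sub_pow (k : ℕ) : ∃ u ∈ cS p m, 1 - zetaP p ^ k = pi1 p * u ∧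
    u = ∑ i ∈ Finset.range k, zetaP p ^ i := by
  refine ⟨_, sum_mem fun i _ => pow_mem zetaP_mem i, ?_, rfl⟩
  have := geom_sum_mul (zetaP p) k
  rw [pi1]
  linear_combination this

theorem geom_congr (hpM : (p : AlgInt) ∈ M) (k : ℕ) :
    MemLocalIdeal M ((∑ i ∈ Finset.range k, zetaP p ^ i) - (k : ℂ)) := by
  have : (∑ i ∈ Finset.range k, zetaP p ^ i) - (k : ℂ) =
      ∑ i ∈ Finset.range k, (zetaP p ^ i - 1) := by simp
  rw [this]
  exact memI_sum _ _ fun i _ => (zetaP_pow_congr hpM i).2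

theorem memI_congr_mul {a a' b b' : ℂ} (ha : MemLocalRing M a) (hb' : MemLocalRing M b')
    (h1 : MemLocalIdeal M (a - a')) (h2 : MemLocalIdeal M (b - b')) :
    MemLocalIdeal M (a * b - a' * b') := by
  have : a * b - a' * b' = a * (b - b') + (a - a') * b' := by ring
  rw [this]
  exact memI_add (memI_mul_left ha h2) (memI_mul_right h1 hb')

/-- `p` is a power of the uniformiser up to a unit. -/
theorem exists_p_eq (hm : m ≠ 0) (hpM : (p : AlgInt) ∈ M) :
    ∃ u ∈ cS p m, ¬ MemLocalIdeal M u ∧ (p : ℂ) = pi1 p ^ (p - 1) * u := by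
  have h1 : p - 1 + 1 = p := Nat.succ_pred_eq_of_pos hp.out.pos
  have h := IsPrimitiveRoot.prod_one_sub_pow_eq_order (n := p - 1) (μ := zetaP p)
    (by rw [h1]; exact isPrimitiveRoot_zetaP)
  refine ⟨∏ k ∈ Finset.range (p - 1), ∑ i ∈ Finset.range (k + 1), zetaP p ^ i,
    prod_mem fun k _ => sum_mem fun i _ => pow_mem zetaP_mem i, ?_, ?_⟩
  · intro hI
    have hall : ∀ s : Finset ℕ, MemLocalIdeal M
        (∏ k ∈ s, (∑ i ∈ Finset.range (k + 1), zetaP p ^ i)) →
        ∃ k ∈ s, MemLocalIdeal M (∑ i ∈ Finset.range (k + 1), zetaP p ^ i) := by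
      intro s
      induction s using Finset.induction_on with
      | empty => intro h; exact absurd (by simpa using h) (not_memI_one (M := M))
      | insert a s ha ih =>
        intro h
        rw [Finset.prod_insert ha] at h
        rcases memI_or_of_mul (memR_of_mem_cS hm (sum_mem fun i _ => pow_mem (zetaP_mem (m := m)) i))
          (memR_prod _ _ fun k _ => memR_of_mem_cS hm
            (sum_mem fun i _ => pow_mem (zetaP_mem (m := m)) i)) h with h | h
        · exact ⟨a, Finset.mem_insert_self a s, h⟩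
        · obtain ⟨k, hk, hkI⟩ := ih h
          exact ⟨k, Finset.mem_insert_of_mem hk, hkI⟩
    obtain ⟨k, hk, hkI⟩ := hall _ hI
    have h2 := (memI_iff_of_sub (geom_congr hpM (k + 1))).1 hkI
    rw [memI_natCast_iff hpM] at h2
    have := Nat.le_of_dvd (Nat.succ_pos k) h2
    have := Finset.mem_range.1 hk
    omega
  · have h2 : ((p - 1 : ℕ) : ℂ) + 1 = (p : ℂ) := by exact_mod_cast congrArg (Nat.cast : ℕ → ℂ) h1
    rw [← h2, ← h]
    rw [show pi1 p ^ (p - 1) = ∏ _k ∈ Finset.range (p - 1), pi1 p by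
      rw [Finset.prod_const, Finset.card_range], ← Finset.prod_mul_distrib]
    refine Finset.prod_congr rfl fun k _ => ?_
    obtain ⟨u, -, hu, rfl⟩ := exists_one_sub_pow (p := p) (m := m) (k + 1)
    exact hu

theorem exists_p_mul (hm : m ≠ 0) (hpM : (p : AlgInt) ∈ M) :
    ∃ w ∈ cS p m, (p : ℂ) = pi1 p * w := by
  obtain ⟨u, hu, -, h⟩ := exists_p_eq (m := m) hm hpM
  refine ⟨pi1 p ^ (p - 2) * u, mul_mem (pow_mem pi1_mem _) hu, ?_⟩
  rw [h, ← mul_assoc, ← pow_succ']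
  congr 2
  have := hp.out.two_le
  omega

/-- Frobenius on the roots of unity of order prime to `p`. -/
theorem exists_frob (hm : ¬ p ∣ m) {q : ℕ} (hq : q = p ^ Nat.totient m) {a : ℂ}
    (ha : a ∈ cS0 m) : ∃ r ∈ cS0 m, a ^ q - a = (p : ℂ) * r := by
  induction ha using Subring.closure_induction with
  | mem z hz =>
    refine ⟨0, zero_mem _, ?_⟩
    have hcop : p.Coprime m := hp.out.coprime_iff_not_dvd.2 hm
    have h1 : q ≡ 1 [MOD m] := hq ▸ Nat.ModEq.pow_totient hcop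
    have : z ^ q = z ^ 1 := by
      rw [← Nat.mod_add_div q m, ← Nat.mod_add_div 1 m, pow_add, pow_add, pow_mul, pow_mul,
        (show z ^ m = 1 from hz), one_pow, one_pow, h1]
    rw [this, pow_one, sub_self, mul_zero]
  | zero =>
    refine ⟨0, zero_mem _, ?_⟩
    rw [zero_pow (hq ▸ pow_ne_zero _ hp.out.ne_zero), sub_self, mul_zero]
  | one => exact ⟨0, zero_mem _, by simp⟩
  | add x y hx hy ihx ihy =>
    obtain ⟨r, hr, hr'⟩ := ihx
    obtain ⟨s, hs, hs'⟩ := ihy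
    obtain ⟨t, ht⟩ := exists_add_pow_prime_pow_eq hp.out (⟨x, hx⟩ : cS0 m) ⟨y, hy⟩ (Nat.totient m)
    refine ⟨r + s + x * y * (t : ℂ), add_mem (add_mem hr hs) (mul_mem (mul_mem hx hy) t.2), ?_⟩
    have h := congrArg (Subtype.val : cS0 m → ℂ) ht
    push_cast at h
    rw [← hq] at h
    rw [h]
    linear_combination hr' + hs'
  | neg x hx ihx =>
    obtain ⟨r, hr, hr'⟩ := ihx
    obtain ⟨t, ht⟩ := exists_add_pow_prime_pow_eq hp.out (⟨x, hx⟩ : cS0 m) ⟨-x, neg_mem hx⟩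
      (Nat.totient m)
    refine ⟨-r - x * (-x) * (t : ℂ), sub_mem (neg_mem hr) (mul_mem (mul_mem hx (neg_mem hx)) t.2), ?_⟩
    have h := congrArg (Subtype.val : cS0 m → ℂ) ht
    push_cast at h
    rw [← hq, add_neg_cancel, zero_pow (hq ▸ pow_ne_zero _ hp.out.ne_zero)] at h
    linear_combination -hr' - h
  | mul x y hx hy ihx ihy =>
    obtain ⟨r, hr, hr'⟩ := ihx
    obtain ⟨s, hs, hs'⟩ := ihy
    refine ⟨r * y ^ q + x * s, add_mem (mul_mem hr (pow_mem hy q)) (mul_mem hx hs), ?_⟩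
    rw [mul_pow]
    linear_combination y ^ q * hr' + x * hs'

/-- Every element is congruent to one without `p`-th roots. -/
theorem exists_split {a : ℂ} (ha : a ∈ cS p m) :
    ∃ c ∈ cS0 m, ∃ d ∈ cS p m, a = c + pi1 p * d := by
  induction ha using Subring.closure_induction with
  | mem z hz =>
    rcases hz with hz | hz
    · exact ⟨z, Subring.subset_closure hz, 0, zero_mem _, by simp⟩
    · obtain ⟨k, -, rfl⟩ := isPrimitiveRoot_zetaP.eq_pow_of_pow_eq_one hz
      obtain ⟨u, hu, hu', -⟩ := exists_one_sub_pow (p := p) (m := m) k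
      exact ⟨1, one_mem _, -u, neg_mem hu, by linear_combination -hu'⟩
  | zero => exact ⟨0, zero_mem _, 0, zero_mem _, by simp⟩
  | one => exact ⟨1, one_mem _, 0, zero_mem _, by simp⟩
  | add x y _ _ ihx ihy =>
    obtain ⟨c, hc, d, hd, rfl⟩ := ihx
    obtain ⟨c', hc', d', hd', rfl⟩ := ihy
    exact ⟨c + c', add_mem hc hc', d + d', add_mem hd hd', by ring⟩
  | neg x _ ihx =>
    obtain ⟨c, hc, d, hd, rfl⟩ := ihx
    exact ⟨-c, neg_mem hc, -d, neg_mem hd, by ring⟩
  | mul x y _ hy ihx ihy =>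
    obtain ⟨c, hc, d, hd, rfl⟩ := ihx
    obtain ⟨c', hc', d', hd', he⟩ := ihy
    refine ⟨c * c', mul_mem hc hc', c * d' + d * y,
      add_mem (mul_mem (cS0_le_cS hc) hd') (mul_mem hd hy), ?_⟩
    rw [he]; ring

/-- An element of the ideal is a multiple of the uniformiser up to a unit. -/
theorem exists_descend (hm : ¬ p ∣ m) (hpM : (p : AlgInt) ∈ M) {a : ℂ} (ha : a ∈ cS p m)
    (hI : MemLocalIdeal M a) :
    ∃ y ∈ cS p m, ¬ MemLocalIdeal M y ∧ ∃ a' ∈ cS p m, a * y = pi1 p * a' := by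
  have hm0 : m ≠ 0 := fun h => hm (h ▸ dvd_zero p)
  obtain ⟨c, hc, d, hd, rfl⟩ := exists_split ha
  set q := p ^ Nat.totient m with hq
  obtain ⟨r, hr, hr'⟩ := exists_frob hm hq hc
  obtain ⟨w, hw, hw'⟩ := exists_p_mul (m := m) hm0 hpM
  have hcI : MemLocalIdeal M c := by
    have h := memI_sub hI (memI_mul_right (memI_pi1 hpM) (memR_of_mem_cS hm0 hd))
    rwa [add_sub_cancel_right] at h
  have hq2 : 2 ≤ q := le_trans hp.out.two_le
    (Nat.le_self_pow (Nat.totient_pos.2 (Nat.pos_of_ne_zero hm0)).ne' p)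
  refine ⟨1 - c ^ (q - 1), sub_mem (one_mem _) (pow_mem (cS0_le_cS hc) _), ?_, ?_⟩
  · intro h
    refine not_memI_one (M := M) ?_
    have h2 : MemLocalIdeal M (c ^ (q - 1)) := by
      rw [show q - 1 = q - 2 + 1 by omega, pow_succ]
      exact memI_mul_left (memR_pow (memR_of_mem_cS (p := p) hm0 (cS0_le_cS hc)) _) hcI
    simpa using memI_add h h2
  · refine ⟨-(w * r) + d * (1 - c ^ (q - 1)),
      add_mem (neg_mem (mul_mem hw (cS0_le_cS hr)))
        (mul_mem hd (sub_mem (one_mem _) (pow_mem (cS0_le_cS hc) _))), ?_⟩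
    have hcq : c ^ q = c * c ^ (q - 1) := by
      rw [← pow_succ']; congr 1; omega
    rw [hcq] at hr'
    linear_combination -hr' - r * hw'

/-- A nonzero element divides a nonzero integer. -/
theorem exists_dvd_intCast (hm : m ≠ 0) {a : ℂ} (ha : a ∈ cS p m) (h0 : a ≠ 0) :
    ∃ q ∈ cS p m, ∃ N : ℤ, N ≠ 0 ∧ a * q = (N : ℂ) := by
  have hint := isIntegral_of_mem_cS hm ha
  set f := minpoly ℤ a with hf
  have hc0 : f.coeff 0 ≠ 0 := fun h => by
    have hq : minpoly ℚ a = f.map (algebraMap ℤ ℚ) :=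
      minpoly.isIntegrallyClosed_eq_field_fractions' ℚ hint
    refine minpoly.coeff_zero_ne_zero (A := ℚ) hint.tower_top h0 ?_
    rw [hq, Polynomial.coeff_map, h, map_zero]
  refine ⟨-(Polynomial.aeval a f.divX), neg_mem ?_, f.coeff 0, hc0, ?_⟩
  · rw [Polynomial.aeval_eq_sum_range]
    exact sum_mem fun i _ => zsmul_mem (pow_mem ha i) _
  · have h := minpoly.aeval ℤ a
    rw [← hf] at h
    conv at h => lhs; rw [← Polynomial.X_mul_divX_add f]
    simp only [map_add, map_mul, Polynomial.aeval_X, Polynomial.aeval_C] at h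
    rw [algebraMap_int_eq, eq_intCast] at h
    linear_combination -h

/-- Normal form in the ring. -/
theorem exists_pow_unit (hm : ¬ p ∣ m) (hpM : (p : AlgInt) ∈ M) {a : ℂ} (ha : a ∈ cS p m)
    (h0 : a ≠ 0) : ∃ j : ℕ, ∃ b ∈ cS p m, ∃ c ∈ cS p m,
      ¬ MemLocalIdeal M b ∧ ¬ MemLocalIdeal M c ∧ a * c = pi1 p ^ j * b := by
  have hm0 : m ≠ 0 := fun h => hm (h ▸ dvd_zero p)
  by_contra hcon
  push Not at hcon
  have key : ∀ j : ℕ, ∃ b ∈ cS p m, ∃ c ∈ cS p m, ¬ MemLocalIdeal M c ∧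
      a * c = pi1 p ^ j * b := by
    intro j
    induction j with
    | zero => exact ⟨a, ha, 1, one_mem _, not_memI_one, by simp⟩
    | succ j ih =>
      obtain ⟨b, hb, c, hc, hcI, he⟩ := ih
      have hbI : MemLocalIdeal M b := by
        by_contra hbI
        exact hcon j b hb c hc hbI hcI he
      obtain ⟨y, hy, hyI, b', hb', hby⟩ := exists_descend hm hpM hb hbI
      refine ⟨b', hb', c * y, mul_mem hc hy,
        not_memI_mul (memR_of_mem_cS hm0 hc) (memR_of_mem_cS hm0 hy) hcI hyI, ?_⟩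
      rw [pow_succ]
      linear_combination y * he + pi1 p ^ j * hby
  obtain ⟨q, hq, N, hN, haq⟩ := exists_dvd_intCast hm0 ha h0
  obtain ⟨v, N', hN', hNv⟩ : ∃ (v : ℕ) (N' : ℤ), ¬ (p : ℤ) ∣ N' ∧ N = (p : ℤ) ^ v * N' :=
    ⟨_, _, (FiniteMultiplicity.exists_eq_pow_mul_and_not_dvd
      (Int.finiteMultiplicity_iff.2 ⟨by simpa using hp.out.ne_one, hN⟩)).choose_spec.2,
      (FiniteMultiplicity.exists_eq_pow_mul_and_not_dvd
      (Int.finiteMultiplicity_iff.2 ⟨by simpa using hp.out.ne_one, hN⟩)).choose_spec.1⟩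
  obtain ⟨u, hu, huI, hpu⟩ := exists_p_eq (m := m) hm0 hpM
  obtain ⟨b, hb, c, hc, hcI, he⟩ := key ((p - 1) * v + 1)
  have hN'I : ¬ MemLocalIdeal M (N' : ℂ) := fun h => hN' ((memI_intCast_iff hpM N').1 h)
  have h1 : u ^ v * (N' : ℂ) * c = pi1 p * (b * q) := by
    refine mul_left_cancel₀ (pow_ne_zero ((p - 1) * v) (pi1_ne_zero (p := p))) ?_
    calc pi1 p ^ ((p - 1) * v) * (u ^ v * (N' : ℂ) * c)
        = (pi1 p ^ (p - 1) * u) ^ v * (N' : ℂ) * c := by rw [pow_mul, mul_pow]; ring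
      _ = (p : ℂ) ^ v * (N' : ℂ) * c := by rw [hpu]
      _ = a * q * c := by rw [haq, hNv]; push_cast; ring
      _ = _ := by rw [pow_succ] at he; linear_combination q * he
  have hfI : MemLocalIdeal M (u ^ v * (N' : ℂ) * c) := by
    rw [h1]
    exact memI_mul_right (memI_pi1 hpM) (memR_mul (memR_of_mem_cS hm0 hb) (memR_of_mem_cS hm0 hq))
  rcases memI_or_of_mul (memR_mul (memR_pow (memR_of_mem_cS hm0 hu) _) (memR_intCast _))
    (memR_of_mem_cS hm0 hc) hfI with h | h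
  · rcases memI_or_of_mul (memR_pow (memR_of_mem_cS hm0 hu) _) (memR_intCast _) h with h | h
    · have : ∀ n : ℕ, ¬ MemLocalIdeal M (u ^ n) := fun n => by
        induction n with
        | zero => rw [pow_zero]; exact not_memI_one
        | succ n ih =>
          rw [pow_succ]
          exact not_memI_mul (memR_pow (memR_of_mem_cS hm0 hu) n) (memR_of_mem_cS hm0 hu) ih huI
      exact this v h
    · exact hN'I h
  · exact hcI h

/-- Normal form in the field. -/
theorem exists_zpow_unit (hm : ¬ p ∣ m) (hpM : (p : AlgInt) ∈ M) {z : ℂ} (hz : z ∈ cL p m)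
    (h0 : z ≠ 0) : ∃ s : ℤ, ∃ b ∈ cS p m, ∃ c ∈ cS p m,
      ¬ MemLocalIdeal M b ∧ ¬ MemLocalIdeal M c ∧ z = pi1 p ^ s * (b / c) := by
  have hm0 : m ≠ 0 := fun h => hm (h ▸ dvd_zero p)
  obtain ⟨y, hy, w, hw, rfl⟩ := Subfield.mem_closure_iff.1 hz
  rw [div_ne_zero_iff] at h0
  obtain ⟨i, b, hb, c, hc, hbI, hcI, e1⟩ := exists_pow_unit hm hpM hy h0.1
  obtain ⟨j, b', hb', c', hc', hbI', hcI', e2⟩ := exists_pow_unit hm hpM hw h0.2
  refine ⟨(i : ℤ) - j, b * c', mul_mem hb hc', c * b', mul_mem hc hb',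
    not_memI_mul (memR_of_mem_cS hm0 hb) (memR_of_mem_cS hm0 hc') hbI hcI',
    not_memI_mul (memR_of_mem_cS hm0 hc) (memR_of_mem_cS hm0 hb') hcI hbI', ?_⟩
  rw [zpow_sub₀ pi1_ne_zero, zpow_natCast, zpow_natCast]
  have := ne_zero_of_not_memI hbI'
  have := ne_zero_of_not_memI hcI
  have := ne_zero_of_not_memI hcI'
  have := pow_ne_zero j (pi1_ne_zero (p := p))
  have := h0.2
  field_simp
  linear_combination w * c' * e1 - y * c * e2 + 0

theorem memR_div (hm : m ≠ 0) {b c : ℂ} (hb : b ∈ cS p m) (hc : c ∈ cS p m)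
    (hcI : ¬ MemLocalIdeal M c) : MemLocalRing M (b / c) := by
  rw [div_eq_mul_inv]
  exact memR_mul (memR_of_mem_cS hm hb) (inv_of_not_memI (memR_of_mem_cS hm hc) hcI).1

theorem memI_pi1_zpow (hpM : (p : AlgInt) ∈ M) {s : ℤ} (hs : 1 ≤ s) :
    MemLocalIdeal M (pi1 p ^ s) := by
  obtain ⟨n, rfl⟩ : ∃ n : ℕ, s = (n + 1 : ℕ) := ⟨s.toNat - 1, by omega⟩
  rw [zpow_natCast, pow_succ]
  exact memI_mul_left (memR_pow (memI_memR (memI_pi1 hpM)) n) (memI_pi1 hpM)

/-- Integral elements of the field are quotients. -/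
theorem exists_div_of_memR (hm : ¬ p ∣ m) (hpM : (p : AlgInt) ∈ M) {z : ℂ} (hz : z ∈ cL p m)
    (hR : MemLocalRing M z) :
    ∃ b ∈ cS p m, ∃ c ∈ cS p m, ¬ MemLocalIdeal M c ∧ z = b / c := by
  have hm0 : m ≠ 0 := fun h => hm (h ▸ dvd_zero p)
  by_cases h0 : z = 0
  · exact ⟨0, zero_mem _, 1, one_mem _, not_memI_one, by simp [h0]⟩
  obtain ⟨s, b, hb, c, hc, hbI, hcI, he⟩ := exists_zpow_unit hm hpM hz h0
  have hs : 0 ≤ s := by
    by_contra hs
    have h1 := memI_mul_left hR (memI_pi1_zpow (p := p) hpM (s := -s) (by omega))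
    rw [he, mul_right_comm, ← zpow_add₀ pi1_ne_zero, add_neg_cancel, zpow_zero, one_mul] at h1
    have h2 := memI_mul_right h1 (memR_of_mem_cS (p := p) hm0 hc)
    rw [div_mul_cancel₀ _ (ne_zero_of_not_memI hcI)] at h2
    exact hbI h2
  obtain ⟨n, rfl⟩ : ∃ n : ℕ, s = (n : ℤ) := ⟨s.toNat, by omega⟩
  exact ⟨pi1 p ^ n * b, mul_mem (pow_mem pi1_mem n) hb, c, hc, hcI, by
    rw [he, zpow_natCast, mul_div_assoc]⟩

section aut

variable {σ : ℂ ≃+* ℂ} (hσ : ∀ z : ℂ, z ^ m = 1 → σ z = z)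

include hσ

theorem aut_fix_cS0 {a : ℂ} (ha : a ∈ cS0 m) : σ a = a := by
  induction ha using Subring.closure_induction with
  | mem z hz => exact hσ z hz
  | zero => exact map_zero σ
  | one => exact map_one σ
  | add x y _ _ hx hy => rw [map_add, hx, hy]
  | neg x _ hx => rw [map_neg, hx]
  | mul x y _ _ hx hy => rw [map_mul, hx, hy]

omit hσ in
theorem aut_mem_cS {a : ℂ} (ha : a ∈ cS p m) : σ a ∈ cS p m := by
  induction ha using Subring.closure_induction with
  | mem z hz => exact Subring.subset_closure (hz.imp (fun h => by rw [← map_pow, h, map_one])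
      fun h => by rw [← map_pow, h, map_one])
  | zero => rw [map_zero]; exact zero_mem _
  | one => rw [map_one]; exact one_mem _
  | add x y _ _ hx hy => rw [map_add]; exact add_mem hx hy
  | neg x _ hx => rw [map_neg]; exact neg_mem hx
  | mul x y _ _ hx hy => rw [map_mul]; exact mul_mem hx hy

omit hσ in
theorem aut_mem_cL {a : ℂ} (ha : a ∈ cL p m) : σ a ∈ cL p m := by
  obtain ⟨y, hy, w, hw, rfl⟩ := Subfield.mem_closure_iff.1 ha
  rw [map_div₀]
  exact div_mem (cS_le_cL (aut_mem_cS hy)) (cS_le_cL (aut_mem_cS hw))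

omit hσ in
theorem exists_aut_zetaP : ∃ k : ℕ, σ (zetaP p) = zetaP p ^ k ∧ ¬ p ∣ k := by
  obtain ⟨k, -, hk⟩ := isPrimitiveRoot_zetaP.eq_pow_of_pow_eq_one
    (show σ (zetaP p) ^ p = 1 by rw [← map_pow, isPrimitiveRoot_zetaP.pow_eq_one, map_one])
  refine ⟨k, hk.symm, fun hd => ?_⟩
  rw [← isPrimitiveRoot_zetaP.pow_eq_one_iff_dvd, hk, map_eq_one_iff _ σ.injective] at hd
  exact zetaP_ne_one hd

omit hσ in
theorem aut_pi1 (hpM : (p : AlgInt) ∈ M) {k : ℕ} (hk : σ (zetaP p) = zetaP p ^ k) :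
    ∃ u ∈ cS p m, σ (pi1 p) = pi1 p * u ∧ MemLocalIdeal M (u - (k : ℂ)) := by
  obtain ⟨u, hu, hu', hu''⟩ := exists_one_sub_pow (p := p) (m := m) k
  exact ⟨u, hu, by rw [← hu', pi1, map_sub, map_one, hk], hu'' ▸ geom_congr hpM k⟩

theorem aut_congr_cS (hm : m ≠ 0) (hpM : (p : AlgInt) ∈ M) {a : ℂ} (ha : a ∈ cS p m) :
    MemLocalIdeal M (σ a - a) := by
  obtain ⟨c, hc, d, hd, rfl⟩ := exists_split ha
  obtain ⟨k, hk, -⟩ := exists_aut_zetaP (p := p) (σ := σ)
  obtain ⟨u, hu, hu', -⟩ := aut_pi1 (m := m) hpM hk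
  rw [map_add, map_mul, aut_fix_cS0 hσ hc, add_sub_add_left_eq_sub, hu']
  refine memI_sub (memI_mul_right (memI_mul_right (memI_pi1 hpM) ?_) ?_)
    (memI_mul_right (memI_pi1 hpM) (memR_of_mem_cS hm hd))
  · exact memR_of_mem_cS hm hu
  · exact memR_of_mem_cS hm (aut_mem_cS hd)

/-- An automorphism fixing the `m`-th roots stabilises the local ring in the field, and is trivial
on the residues. -/
theorem aut_congr (hm : ¬ p ∣ m) (hpM : (p : AlgInt) ∈ M) {z : ℂ} (hz : z ∈ cL p m)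
    (hR : MemLocalRing M z) : MemLocalRing M (σ z) ∧ MemLocalIdeal M (σ z - z) := by
  have hm0 : m ≠ 0 := fun h => hm (h ▸ dvd_zero p)
  obtain ⟨b, hb, c, hc, hcI, rfl⟩ := exists_div_of_memR hm hpM hz hR
  have hcI' : ¬ MemLocalIdeal M (σ c) := fun h =>
    hcI ((memI_iff_of_sub (aut_congr_cS hσ hm0 hpM hc)).1 h)
  refine ⟨by rw [map_div₀]; exact memR_div hm0 (aut_mem_cS hb) (aut_mem_cS hc) hcI', ?_⟩
  rw [map_div₀, div_eq_mul_inv, div_eq_mul_inv]
  refine memI_congr_mul (memR_of_mem_cS hm0 (aut_mem_cS hb))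
    (inv_of_not_memI (memR_of_mem_cS hm0 hc) hcI).1 (aut_congr_cS hσ hm0 hpM hb) ?_
  rw [show (σ c)⁻¹ - c⁻¹ = -((σ c)⁻¹ * c⁻¹ * (σ c - c)) by
    have := ne_zero_of_not_memI hcI
    have := ne_zero_of_not_memI hcI'
    field_simp; ring]
  exact memI_neg (memI_mul_left (memR_mul (inv_of_not_memI (memR_of_mem_cS hm0 (aut_mem_cS hc))
    hcI').1 (inv_of_not_memI (memR_of_mem_cS hm0 hc) hcI).1) (aut_congr_cS hσ hm0 hpM hc))

/-- The order at the uniformiser of a fixed element is a multiple of the order of the residue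
action on it. -/
theorem orderOf_dvd_of_fixed (hm : ¬ p ∣ m) (hpM : (p : AlgInt) ∈ M) {k : ℕ}
    (hk : σ (zetaP p) = zetaP p ^ k) {s : ℤ} {b c : ℂ} (hb : b ∈ cS p m) (hc : c ∈ cS p m)
    (hbI : ¬ MemLocalIdeal M b) (hcI : ¬ MemLocalIdeal M c)
    (hfix : σ (pi1 p ^ s * (b / c)) = pi1 p ^ s * (b / c)) :
    (orderOf ((k : ℕ) : ZMod p) : ℤ) ∣ s := by
  have hm0 : m ≠ 0 := fun h => hm (h ▸ dvd_zero p)
  obtain ⟨u, hu, hu', huk⟩ := aut_pi1 (m := m) hpM hk
  haveI := BlockChar.charP_res (M := M) hpM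
  have hkne : ((k : ℕ) : ZMod p) ≠ 0 := by
    intro h
    rw [ZMod.natCast_eq_zero_iff] at h
    obtain ⟨j, rfl⟩ := h
    rw [pow_mul, isPrimitiveRoot_zetaP.pow_eq_one, one_pow,
      map_eq_one_iff _ σ.injective] at hk
    exact zetaP_ne_one hk
  have huI : ¬ MemLocalIdeal M u := fun h => by
    have := (memI_natCast_iff hpM k).1 ((memI_iff_of_sub huk).1 h)
    exact hkne ((ZMod.natCast_eq_zero_iff k p).2 this)
  set z := b / c with hzdef
  have hzR : MemLocalRing M z := memR_div hm0 hb hc hcI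
  have hzI : ¬ MemLocalIdeal M z := fun h => hbI (by
    have := memI_mul_right h (memR_of_mem_cS (p := p) hm0 hc)
    rwa [hzdef, div_mul_cancel₀ _ (ne_zero_of_not_memI hcI)] at this)
  obtain ⟨hsR, hsI⟩ := aut_congr hσ hm hpM (div_mem (cS_le_cL hb) (cS_le_cL hc)) hzR
  rw [map_mul, map_zpow₀, hu', mul_zpow, mul_assoc] at hfix
  have he : u ^ s * σ z = z :=
    mul_left_cancel₀ (zpow_ne_zero s (pi1_ne_zero (p := p))) hfix
  have hres : BlockChar.res M u = ((k : ℕ) : Res M) := by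
    have h1 : BlockChar.res M ((k : ℕ) : ℂ) = ((k : ℕ) : Res M) := by
      rw [BlockChar.res_of_mem (memR_natCast k)]
      exact map_natCast (residue M) k
    rw [← h1, BlockChar.res_eq_iff (memR_of_mem_cS hm0 hu) (memR_natCast k)]
    exact huk
  have hz0 : BlockChar.res M z ≠ 0 := by rwa [Ne, BlockChar.res_eq_zero_iff hzR]
  have hpow : ∀ n : ℕ, BlockChar.res M (u ^ n) = ((k : ℕ) : Res M) ^ n := fun n => by
    induction n with
    | zero => rw [pow_zero, pow_zero, BlockChar.res_one]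
    | succ n ih =>
      rw [pow_succ, BlockChar.res_mul (memR_pow (memR_of_mem_cS hm0 hu) n) (memR_of_mem_cS hm0 hu),
        ih, hres, ← pow_succ]
  have hsz : BlockChar.res M (σ z) = BlockChar.res M z :=
    (BlockChar.res_eq_iff hsR hzR).2 hsI
  have hk1 : ((k : ℕ) : Res M) ^ s.natAbs = 1 := by
    rcases Int.natAbs_eq s with hs | hs
    · rw [hs, zpow_natCast] at he
      have h1 := congrArg (BlockChar.res M) he
      rw [BlockChar.res_mul (memR_pow (memR_of_mem_cS hm0 hu) _) hsR, hpow, hsz] at h1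
      exact (mul_eq_right₀ hz0).1 h1
    · rw [hs, zpow_neg, zpow_natCast, inv_mul_eq_iff_eq_mul₀
        (pow_ne_zero _ (ne_zero_of_not_memI huI))] at he
      have h1 := congrArg (BlockChar.res M) he
      rw [BlockChar.res_mul (memR_pow (memR_of_mem_cS hm0 hu) _) hzR, hpow, hsz] at h1
      exact (mul_eq_right₀ hz0).1 h1.symm
  rw [Int.natCast_dvd, orderOf_dvd_iff_pow_eq_one]
  refine (ZMod.castHom (dvd_refl p) (Res M)).injective ?_
  rw [map_pow, map_natCast, map_one]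
  exact hk1

/-- A fixed element of the ideal is divisible by `p`, when the action on the `p`-th roots is
transitive. -/
theorem memR_div_p_of_fixed (hm : ¬ p ∣ m) (hpM : (p : AlgInt) ∈ M) {k : ℕ}
    (hk : σ (zetaP p) = zetaP p ^ k) (hord : orderOf ((k : ℕ) : ZMod p) = p - 1)
    {z : ℂ} (hz : z ∈ cL p m) (hI : MemLocalIdeal M z) (hfix : σ z = z) :
    MemLocalRing M (z / p) := by
  have hm0 : m ≠ 0 := fun h => hm (h ▸ dvd_zero p)
  by_cases h0 : z = 0
  · rw [h0, zero_div]; exact memR_zero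
  obtain ⟨s, b, hb, c, hc, hbI, hcI, he⟩ := exists_zpow_unit hm hpM hz h0
  rw [he] at hfix
  have hd := orderOf_dvd_of_fixed hσ hm hpM hk hb hc hbI hcI hfix
  rw [hord] at hd
  have hp1 := hp.out.two_le
  have hs : 1 ≤ s := by
    by_contra hs
    have h1 := memI_mul_right hI (memR_of_mem_cS (p := p) hm0 hc)
    rw [he, mul_assoc, div_mul_cancel₀ _ (ne_zero_of_not_memI hcI)] at h1
    rcases eq_or_lt_of_le (show s ≤ 0 by omega) with h | h
    · rw [h, zpow_zero, one_mul] at h1; exact hbI h1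
    · have h2 := memI_mul_left (memI_memR (memI_pi1_zpow (p := p) hpM (s := -s) (by omega))) h1
      rw [← mul_assoc, ← zpow_add₀ pi1_ne_zero, neg_add_cancel, zpow_zero, one_mul] at h2
      exact hbI h2
  obtain ⟨n, hn⟩ : ∃ n : ℕ, s = ((p - 1 + n : ℕ) : ℤ) :=
    ⟨s.toNat - (p - 1), by have := Int.le_of_dvd (by omega) hd; omega⟩
  obtain ⟨u, hu, huI, hpu⟩ := exists_p_eq (m := m) hm0 hpM
  rw [he, hn, zpow_natCast, pow_add, hpu]
  have := pi1_ne_zero (p := p)
  have := ne_zero_of_not_memI huI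
  have : pi1 p ^ (p - 1) * pi1 p ^ n * (b / c) / (pi1 p ^ (p - 1) * u) =
      pi1 p ^ n * b / (c * u) := by
    field_simp
  rw [this]
  exact memR_div hm0 (mul_mem (pow_mem pi1_mem n) hb) (mul_mem hc hu)
    (not_memI_mul (memR_of_mem_cS hm0 hc) (memR_of_mem_cS hm0 hu) hcI huI)

end aut

theorem aut_eq_on_cL {σ τ : ℂ ≃+* ℂ} (hcop : ∀ z : ℂ, z ^ m = 1 → σ z = τ z)
    (hz : σ (zetaP p) = τ (zetaP p)) {a : ℂ} (ha : a ∈ cL p m) : σ a = τ a := by
  refine RingHom.eqOn_field_closure (f := σ.toRingHom) (g := τ.toRingHom) ?_ ha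
  rintro z (h | h)
  · exact hcop z h
  · obtain ⟨k, -, rfl⟩ := isPrimitiveRoot_zetaP.eq_pow_of_pow_eq_one h
    show σ _ = τ _
    rw [map_pow, map_pow, hz]

theorem cS_mono {m' : ℕ} (h : m ∣ m') {a : ℂ} (ha : a ∈ cS p m) : a ∈ cS p m' := by
  refine Subring.closure_mono (fun z hz => ?_) ha
  refine hz.imp (fun h' => ?_) id
  obtain ⟨j, rfl⟩ := h
  rw [pow_mul, h', one_pow]

theorem cL_mono {m' : ℕ} (h : m ∣ m') {a : ℂ} (ha : a ∈ cL p m) : a ∈ cL p m' := by
  refine Subfield.closure_mono (fun z hz => ?_) ha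
  refine hz.imp (fun h' => ?_) id
  obtain ⟨j, rfl⟩ := h
  rw [pow_mul, h', one_pow]

end Cfsg.Agent.Chars2.Cyc
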