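import Cfsg.Agent.Chars2.BrauerLocal
import Cfsg.Agent.Chars2.Clifford
import Cfsg.Agent.Chars.Glauberman
import Cfsg.Agent.Chars.Transport
import Cfsg.Agent.Blocks.Brauer

/-!
Dade's lemma: an invariant character over a normal subgroup of `p`-power index is detected on a
`p`-elementary subgroup.
-/

set_option autoImplicit false
set_option linter.style.haveILetI false
set_option linter.unusedSectionVars false

namespace Cfsg.Agent.Chars2

open Cfsg Cfsg.Agent
open scoped ComplexConjugate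

universe u

variable {G : Type u} [Group G] [Fintype G]

theorem isCharacter_comp_hom {H : Type*} [Group H] {χ : G → ℂ} (h : IsCharacter G χ) (f : H →* G) :
    IsCharacter H (fun x => χ (f x)) := by
  obtain ⟨d, ρ, rfl⟩ := h
  exact ⟨d, ρ.comp f, rfl⟩

theorem card_sup_inf (E N : Subgroup G) [N.Normal] :
    Nat.card G * Nat.card (E ⊓ N : Subgroup G) = (E ⊔ N).index * (Nat.card E * Nat.card N) := by
  have h1 : N.relIndex (E ⊔ N) = N.relIndex E := Subgroup.relIndex_sup_right _ _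
  have h2 := Subgroup.card_mul_index (N.subgroupOf (E ⊔ N))
  have h3 := Subgroup.card_mul_index (N.subgroupOf E)
  have h4 : Nat.card (N.subgroupOf (E ⊔ N)) = Nat.card N :=
    Nat.card_congr (Subgroup.subgroupOfEquivOfLe le_sup_right).toEquiv
  have h5 : Nat.card (N.subgroupOf E) = Nat.card (E ⊓ N : Subgroup G) := by
    rw [← Subgroup.card_map_of_injective (K := N.subgroupOf E) E.subtype_injective,
      Subgroup.subgroupOf_map_subtype, inf_comm]
  rw [show (N.subgroupOf (E ⊔ N)).index = N.relIndex E from h1, h4] at h2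
  rw [show (N.subgroupOf E).index = N.relIndex E from rfl, h5] at h3
  rw [← Subgroup.card_mul_index (E ⊔ N), ← h2, ← h3]
  ring

set_option maxHeartbeats 800000 in
/-- Dade's lemma. -/
theorem exists_elementary_invariant {p : ℕ} [hp : Fact p.Prime] (N : Subgroup G) [hN : N.Normal]
    [Fintype N] (hind : ∃ k : ℕ, N.index = p ^ k) {θ : N → ℂ} (hθ : IsIrrCharacter N θ)
    (hinv : ∀ (g : G) (n : N), θ ⟨g * n * g⁻¹, hN.conj_mem (n : G) n.2 g⟩ = θ n) :
    ∃ (E : Subgroup G) (φ : IrrCharacter (E ⊓ N : Subgroup G)) (m : ℕ),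
      IsElementary p E ∧ E ⊔ N = ⊤ ∧ ¬ p ∣ m ∧
      (∀ (g : G) (hg : g ∈ E) (x : (E ⊓ N : Subgroup G)),
        (φ : (E ⊓ N : Subgroup G) → ℂ) ⟨g * x * g⁻¹,
          ⟨E.mul_mem (E.mul_mem hg x.2.1) (E.inv_mem hg), hN.conj_mem (x : G) x.2.2 g⟩⟩ =
          (φ : (E ⊓ N : Subgroup G) → ℂ) x) ∧
      ∀ [Fintype (E ⊓ N : Subgroup G)],
        classInner (fun x : (E ⊓ N : Subgroup G) => θ ⟨(x : G), x.2.2⟩)
          (φ : (E ⊓ N : Subgroup G) → ℂ) = m := by
  classical
  obtain ⟨k, hk⟩ := hind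
  obtain ⟨m₀, T, a, f, hm₀, hf, he⟩ := brauer_local (G := G) hp.out
  choose E hE ψ hψ hf' using hf
  letI : ∀ i, Fintype (E i ⊓ N : Subgroup G) := fun i => Fintype.ofFinite _
  let θr : ∀ i, (E i ⊓ N : Subgroup G) → ℂ := fun i x => θ ⟨(x : G), x.2.2⟩
  let ψr : ∀ i, (E i ⊓ N : Subgroup G) → ℂ := fun i x => ψ i ⟨(x : G), x.2.1⟩
  have hθr : ∀ i, IsCharacter _ (θr i) := fun i =>
    isCharacter_comp_hom (Chars.isCharacter_of_isIrr hθ) (Subgroup.inclusion inf_le_right)
  have hψr : ∀ i, IsCharacter _ (ψr i) := fun i => by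
    obtain ⟨d, ρ, hρ⟩ := hψ i
    exact ⟨d, ρ.comp (Subgroup.inclusion inf_le_left), funext fun x => congrFun hρ _⟩
  choose b hb using fun i => Chars.exists_classInner_eq_nat
    (Chars.isCharacter_mul (hψr i) (hθr i)) (hθr i)
  -- the value of the sum
  have hterm : ∀ i, (Nat.card N : ℂ)⁻¹ * ∑ n : N, indFun (E i) (ψ i) n * (θ n * conj (θ n)) =
      (((E i ⊔ N).index * b i : ℕ) : ℂ) := by
    intro i
    have e1 : ∀ x : G, ∑ n : N, extendByZero (E i) (ψ i) (x⁻¹ * (n : G) * x) * (θ n * conj (θ n)) =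
        ∑ n : N, extendByZero (E i) (ψ i) (n : G) * (θ n * conj (θ n)) := by
      intro x
      refine (Fintype.sum_equiv (MulAut.conjNormal x).toEquiv _ _ fun n => ?_).symm
      have e : MulAut.conjNormal x n = (⟨x * n * x⁻¹, hN.conj_mem (n : G) n.2 x⟩ : N) :=
        Subtype.ext (MulAut.conjNormal_apply x n)
      rw [MulEquiv.toEquiv_eq_coe, EquivLike.coe_coe, e, hinv]
      congr 2
      simp [mul_assoc]
    have e2 : ∑ n : N, extendByZero (E i) (ψ i) (n : G) * (θ n * conj (θ n)) =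
        ∑ x : (E i ⊓ N : Subgroup G), ψr i x * (θr i x * conj (θr i x)) := by
      rw [← Finset.sum_filter_of_ne (p := fun n : N => (n : G) ∈ E i) fun n _ h => by
        by_contra hn
        exact h (by rw [Chars.extendByZero_of_not_mem _ _ hn, zero_mul])]
      refine (Finset.sum_bij (fun (x : (E i ⊓ N : Subgroup G)) _ => (⟨(x : G), x.2.2⟩ : N))
        (fun (x : (E i ⊓ N : Subgroup G)) _ => Finset.mem_filter.2 ⟨Finset.mem_univ _, x.2.1⟩)
        (fun x _ y _ h => Subtype.ext (congrArg (Subtype.val : N → G) h))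
        (fun n hn => ⟨⟨(n : G), (Finset.mem_filter.1 hn).2, n.2⟩, Finset.mem_univ _, rfl⟩)
        fun x _ => ?_).symm
      rw [Chars.extendByZero_of_mem (E i) (ψ i) x.2.1]
    simp only [Chars.indFun_apply, mul_assoc _ (∑ _x : G, _), Finset.sum_mul]
    rw [← Finset.mul_sum, Finset.sum_comm, Finset.sum_congr rfl fun x _ => e1 x, Finset.sum_const,
      Finset.card_univ, e2, nsmul_eq_mul, ← Nat.card_eq_fintype_card]
    have hb' := hb i
    rw [Chars.classInner_def, inv_mul_eq_iff_eq_mul₀ Chars.card_ne_zero] at hb'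
    simp only [Pi.mul_apply, mul_assoc] at hb'
    rw [hb']
    have hc := congrArg (Nat.cast : ℕ → ℂ) (card_sup_inf (E i) N)
    push_cast at hc ⊢
    field_simp [Chars.card_ne_zero]
    linear_combination (b i : ℂ) * hc
  have htot : (m₀ : ℤ) = ∑ i, a i * (((E i ⊔ N).index * b i : ℕ) : ℤ) := by
    have h1 := Chars.classInner_self_irr hθ
    rw [Chars.classInner_def] at h1
    have h2 : ((m₀ : ℤ) : ℂ) = (Nat.card N : ℂ)⁻¹ * ∑ n : N, (m₀ : ℂ) * (θ n * conj (θ n)) := by
      rw [← Finset.mul_sum, mul_left_comm, h1, mul_one]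
    have h3 : ∀ n : N, (m₀ : ℂ) = ∑ i, (a i : ℂ) * indFun (E i) (ψ i) (n : G) := fun n => by
      have h4 := congrFun he (n : G)
      simp only [Finset.sum_apply, Pi.smul_apply, smul_eq_mul] at h4
      rw [h4]
      exact Finset.sum_congr rfl fun i _ => by rw [hf' i]
    rw [Finset.sum_congr rfl fun n _ => by rw [h3 n, Finset.sum_mul], Finset.sum_comm,
      Finset.mul_sum] at h2
    rw [← Int.cast_inj (α := ℂ), h2]
    push_cast
    refine Finset.sum_congr rfl fun i _ => ?_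
    have := hterm i
    push_cast at this
    rw [← this, Finset.mul_sum, Finset.mul_sum, Finset.mul_sum]
    refine Finset.sum_congr rfl fun n _ => ?_
    ring
  obtain ⟨i, hi⟩ : ∃ i, ¬ p ∣ (E i ⊔ N).index * b i := by
    by_contra hall
    push Not at hall
    refine hm₀ ?_
    rw [htot]
    exact Finset.dvd_sum fun i _ => Dvd.dvd.mul_left (Int.natCast_dvd_natCast.2 (hall i)) _
  have htop : E i ⊔ N = ⊤ := by
    rw [← Subgroup.index_eq_one]
    have h := (Subgroup.index_dvd_of_le (le_sup_right : N ≤ E i ⊔ N))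
    rw [hk] at h
    obtain ⟨j, -, hj⟩ := (Nat.dvd_prime_pow hp.out).1 h
    rcases j with _ | j
    · rw [hj, pow_zero]
    · exact absurd (Dvd.dvd.mul_right (hj ▸ dvd_pow_self p (Nat.succ_ne_zero j)) _) hi
  set D := E i ⊓ N
  -- the conjugation action of a Sylow subgroup
  obtain ⟨z, hzc, hzp, l, hl⟩ := hE i
  obtain ⟨Q⟩ : Nonempty (Sylow p (E i)) := inferInstance
  set S : Subgroup G := (Q : Subgroup (E i)).map (E i).subtype
  have hSE : S ≤ E i := Subgroup.map_subtype_le _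
  have hnorm : ∀ s ∈ S, ∀ d ∈ D, s * d * s⁻¹ ∈ D := fun s hs d hd =>
    ⟨(E i).mul_mem ((E i).mul_mem (hSE hs) hd.1) ((E i).inv_mem (hSE hs)),
      hN.conj_mem d hd.2 s⟩
  let α := Chars.conjHom D S hnorm
  have hα : ∀ (s : S) (d : D), ((α s d : D) : G) = (s : G) * d * (s : G)⁻¹ := fun s d => rfl
  obtain ⟨c, hc⟩ := exists_multiplicities (hθr i)
  choose c' hc' using fun φ : IrrCharacter D => Chars.exists_classInner_eq_nat
    (Chars.isCharacter_mul (hψr i) (hθr i)) (Chars.irr_isCharacter φ)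
  have hbsum : b i = ∑ φ : IrrCharacter D, c' φ * c φ := by
    apply Nat.cast_injective (R := ℂ)
    push_cast
    rw [← hb i, show classInner (ψr i * θr i) (θr i) = classInner (ψr i * θr i)
      (∑ φ : IrrCharacter D, (c φ : ℂ) • (φ : D → ℂ)) from ?_]
    · rw [Chars.classInner_sum_right]
      refine Finset.sum_congr rfl fun φ _ => ?_
      rw [Chars.classInner_smul_right, map_natCast, ← hc' φ, mul_comm]
    · congr 1
      funext x
      rw [apply_eq_sum (Chars.isClassFunction_of_isCharacter (hθr i)) x, Finset.sum_apply]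
      simp only [hc, Pi.smul_apply, smul_eq_mul]
      convert rfl
  have hinvθ : ∀ (s : S) (d : D), θr i (α s d) = θr i d := fun s d => hinv (s : G) ⟨(d : G), d.2.2⟩
  have hinvψ : ∀ (s : S) (d : D), ψr i (α s d) = ψr i d := fun s d => by
    have h := Chars.isClassFunction_of_isCharacter (hψ i) ⟨(d : G), d.2.1⟩ ⟨(s : G), hSE s.2⟩
    exact h
  letI := Chars.irrAction α
  have hact : ∀ (s : S) (φ : IrrCharacter D) (d : D),
      ((s • φ : IrrCharacter D) : D → ℂ) d = (φ : D → ℂ) (α s⁻¹ d) := fun s φ d => rfl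
  have hmove : ∀ (F : D → ℂ), (∀ (s : S) d, F (α s d) = F d) → ∀ (s : S) (φ : IrrCharacter D),
      classInner F ((s • φ : IrrCharacter D) : D → ℂ) = classInner F (φ : D → ℂ) := by
    intro F hF s φ
    rw [← Chars.classInner_comp_equiv (α s⁻¹) F (φ : D → ℂ)]
    congr 1
    · funext d; exact (hF s⁻¹ d).symm
  have hcinv : ∀ (s : S) φ, c (s • φ) = c φ := fun s φ => Nat.cast_injective (R := ℂ) (by
    rw [← hc, ← hc]; exact hmove _ hinvθ s φ)
  have hcinv' : ∀ (s : S) φ, c' (s • φ) = c' φ := fun s φ => Nat.cast_injective (R := ℂ) (by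
    rw [← hc', ← hc']
    exact hmove _ (fun s d => by rw [Pi.mul_apply, hinvθ, hinvψ]; rfl) s φ)
  have hSp : IsPGroup p S := Q.2.map _
  have hfix := Blocks.sum_eq_sum_fixed hSp (A := ZMod p) (fun x => by
    rw [nsmul_eq_mul, CharP.cast_eq_zero, zero_mul])
    (fun φ : IrrCharacter D => ((c' φ * c φ : ℕ) : ZMod p)) fun s φ => by rw [hcinv, hcinv']
  obtain ⟨φ, hφf, hφc⟩ : ∃ φ : IrrCharacter D, φ ∈ MulAction.fixedPoints S (IrrCharacter D) ∧
      ¬ p ∣ c φ := by
    by_contra hall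
    push Not at hall
    refine hi (Dvd.dvd.mul_left ?_ _)
    rw [← ZMod.natCast_eq_zero_iff, hbsum, Nat.cast_sum, hfix]
    refine Finset.sum_eq_zero fun φ hφ => ?_
    rw [ZMod.natCast_eq_zero_iff]
    exact Dvd.dvd.mul_left (hall φ (Finset.mem_filter.1 hφ).2) _
  refine ⟨E i, φ, c φ, hE i, htop, hφc, ?_, fun {F} => ?_⟩
  · intro g hg x
    -- decompose g
    haveI : (Subgroup.zpowers z).Normal := ⟨fun y hy e => by
      obtain ⟨j, rfl⟩ := Subgroup.mem_zpowers_iff.1 hy
      rwa [Subgroup.mem_center_iff.1 (Subgroup.zpow_mem _ hzc j) e, mul_inv_cancel_right]⟩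
    have hsup : Subgroup.zpowers z ⊔ (Q : Subgroup (E i)) = ⊤ := by
      rw [← Subgroup.index_eq_one]
      refine Nat.eq_one_of_dvd_coprimes ?_
        (Subgroup.index_dvd_of_le (le_sup_left : Subgroup.zpowers z ≤ _))
        (Subgroup.index_dvd_of_le (le_sup_right : (Q : Subgroup (E i)) ≤ _))
      rw [hl]
      exact (hp.out.coprime_iff_not_dvd.2 Q.not_dvd_index).pow_left l
    obtain ⟨y, hy, q, hq, hgq⟩ := Subgroup.mem_sup_of_normal_left.1
      (hsup ▸ Subgroup.mem_top (⟨g, hg⟩ : E i))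
    have hgeq : g = (y : G) * (q : G) := (congrArg Subtype.val hgq).symm
    obtain ⟨j, rfl⟩ := Subgroup.mem_zpowers_iff.1 hy
    let s : S := ⟨(q : G), ⟨q, hq, rfl⟩⟩
    have hs := congrFun (congrArg Subtype.val (hφf s⁻¹)) x
    rw [hact, inv_inv] at hs
    rw [← hs]
    refine congrArg (φ : D → ℂ) (Subtype.ext ?_)
    rw [hα]
    show g * (x : G) * g⁻¹ = (q : G) * x * (q : G)⁻¹
    have hcom := congrArg Subtype.val
      (Subgroup.mem_center_iff.1 (Subgroup.zpow_mem _ hzc j)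
        (q * (⟨(x : G), x.2.1⟩ : E i) * q⁻¹))
    simp only [Subgroup.coe_mul, InvMemClass.coe_inv] at hcom
    rw [hgeq, mul_inv_rev]
    calc ((z ^ j : E i) : G) * (q : G) * x * ((q : G)⁻¹ * ((z ^ j : E i) : G)⁻¹)
        = ((z ^ j : E i) : G) * ((q : G) * x * (q : G)⁻¹) * ((z ^ j : E i) : G)⁻¹ := by group
      _ = ((q : G) * x * (q : G)⁻¹) * ((z ^ j : E i) : G) * ((z ^ j : E i) : G)⁻¹ := by rw [hcom]
      _ = _ := by group
  · have h := hc φ
    convert h using 3

end Cfsg.Agent.Chars2
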