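import Cfsg.Agent.Chars2.BlockSquares
import Cfsg.Agent.Blocks.FirstMain
import Cfsg.Agent.BlockChar.LocalBlock
import Cfsg.Agent.BlockChar.Exact
import Cfsg.Agent.BlockChar.PairDict

/-!
When the block induced from `P C_G(P)` has defect group `P`.
-/

set_option autoImplicit false
set_option linter.unusedSectionVars false
set_option linter.style.haveILetI false
set_option maxHeartbeats 1000000

namespace Cfsg.Agent.Chars2

open Cfsg Cfsg.Agent Cfsg.Agent.Blocks Cfsg.Agent.BlockChar
open scoped ComplexConjugate MonoidAlgebra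

universe u

variable {G : Type u} [Group G] [Fintype G] {p : ℕ} [Fact p.Prime] {M : Ideal AlgInt}
  [M.IsMaximal]

theorem card_mul_blockCoeff_one {X : Type u} [Group X] [Fintype X] (B : Set (IrrCharacter X)) :
    (Nat.card X : ℂ) * blockCoeff B 1 =
      ((∑ χ ∈ bf B, charDegree (χ : X → ℂ) ^ 2 : ℕ) : ℂ) := by
  classical
  rw [Blocks.blockCoeff_eq_sum, Finset.sum_apply, Finset.mul_sum, Nat.cast_sum, filter_eq_bf]
  refine Finset.sum_congr rfl fun χ _ => ?_
  rw [eFun, (Blocks.charDegree_eq χ.2).1, map_natCast]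
  have := Chars.card_ne_zero (G := X)
  push_cast
  field_simp

/-- The criterion. -/
theorem defect_group_iff (hpM : (p : AlgInt) ∈ M) {P H : Subgroup G} [Fintype H] (hP : IsPGroup p P)
    (hH : H = P ⊔ Subgroup.centralizer (P : Set G)) {b : Set (IrrCharacter H)}
    (hb : IsPBlock M b) (hbP : IsDefectGroup p M b (P.subgroupOf H))
    {B : Set (IrrCharacter G)} (hind : IsInducedBlock M H b B) {T : Subgroup G}
    (hT : ∀ g : G, g ∈ T ↔ (g ∈ Subgroup.normalizer (P : Set G) ∧ ∀ θ ∈ b,
      ∀ θ' : IrrCharacter H, (∀ h h' : H, (h' : G) = g * h * g⁻¹ →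
        (θ' : H → ℂ) h' = (θ : H → ℂ) h) → θ' ∈ b)) :
    IsDefectGroup p M B P ↔ ¬ p ∣ H.relIndex T := by
  classical
  haveI := charP_res (p := p) hpM
  set C := Subgroup.centralizer (P : Set G) with hC
  have hPH : P ≤ H := hH ▸ le_sup_left
  have hCH : C ≤ H := hH ▸ le_sup_right
  have hHN : H ≤ Subgroup.normalizer (P : Set G) :=
    hH ▸ sup_le Subgroup.le_normalizer (centralizer_le_normalizer P)
  set f := idemS M b with hf
  have hfH := isBlk_idemS (G := G) hpM hb
  obtain ⟨e, he, hfe, hce⟩ := exists_pair_under hpM hP hPH hCH hHN hfH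
  have hHs : H ≤ stab P e := hH ▸ sup_le he.le_stab he.centralizer_le_stab
  have heH : IsBlk H e := isBlk_of_stable he hPH hCH hHN fun x hx => (hHs hx).2
  have hef : e = f :=
    (existsUnique_blk_above hCH hP hPH hHN he.blk).unique ⟨heH, he.blk.idem⟩ ⟨hfH, hce⟩
  rw [hef] at he hfe hHs
  have hBf : OfBlock (idemG M B) P f :=
    (induced_iff_pair hpM hPH hCH hb hind.2.1 he hfe).mp hind
  have hnH : ∀ g ∈ Subgroup.normalizer (P : Set G), g ∈ Subgroup.normalizer (H : Set G) := by
    intro g hg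
    refine mem_normalizer_of_conjS_eq ?_
    have h1 := conjS_eq_self_of_mem_normalizer hg
    have h2 := conjS_eq_self_of_mem_normalizer (normalizer_le_normalizer_centralizer P hg)
    unfold conjS at h1 h2 ⊢
    rw [hH, Subgroup.map_sup, h1, h2]
  have hTeq : T = stab P f := by
    ext g
    rw [hT, mem_stab]
    refine and_congr_right fun hg => ?_
    have hst : StabilizesBlock H b g ↔ cj g f = f :=
      (stabilizesBlock_iff hpM hb g).trans (and_iff_right (hnH g hg))
    rw [← hst]
    constructor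
    · intro h
      refine ⟨hnH g hg, fun θ hθ => ?_⟩
      let θ' : IrrCharacter H := irrEquiv (normEquiv (hnH g hg)).symm θ
      have hval : ∀ h h' : H, (h' : G) = g * h * g⁻¹ → (θ' : H → ℂ) h' = (θ : H → ℂ) h := by
        intro k k' hk
        have : k' = normEquiv (hnH g hg) k := Subtype.ext (by rw [coe_normEquiv]; exact hk)
        rw [this, irrEquiv_apply, MulEquiv.symm_apply_apply]
      exact ⟨θ', h θ hθ θ' hval, hval⟩
    · rintro ⟨-, h⟩ θ hθ θ' hθ'
      obtain ⟨χ', hχ', hc⟩ := h θ hθ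
      have : θ' = χ' := Subtype.ext (funext fun k' => by
        have hk : (k' : G) = g * (((normEquiv (hnH g hg)).symm k' : H) : G) * g⁻¹ := by
          rw [← coe_normEquiv (hnH g hg), MulEquiv.apply_symm_apply]
        rw [hθ' _ k' hk, hc _ k' hk])
      rw [this]; exact hχ'
  have hHT : H ≤ T := hTeq ▸ hHs
  have hTN : T ≤ Subgroup.normalizer (P : Set G) := hTeq ▸ stab_le_normalizer P f
  have hbD := (isDefectGroup_subgroupOf_iff hpM hPH hb).mp hbP
  have hBb := isBlk_idemG (G := G) hpM hind.2.1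
  constructor
  · intro hBP
    have hmax := isMaxPair_of_isDef hBb ((isDefectGroup_iff_idemG hpM hind.2.1 P).mp hBP) he hBf
    have hfT : IsBlk T f := hTeq ▸ he.isBlk_stab
    have hPT : P ≤ T := hPH.trans hHT
    obtain ⟨D, hD⟩ := exists_isDef (p := p) hfT
    have hbr : br P f ≠ 0 := by rw [br_eq_self he.blk.supp]; exact he.blk.ne_zero
    obtain ⟨y, hy, hle⟩ := hD.maximal P hPT hP hbr
    have hD' := hD.conj hfT hy
    obtain ⟨g, hstep⟩ := exists_nstep_of_br he hD'.pgroup hle (hTeq ▸ hD'.le) hD'.ne_zero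
    have hDP : conjS y D = P := hmax.max _ _ hstep
    rw [hDP] at hD'
    -- compare the coefficients at the identity
    letI : Fintype T := Fintype.ofFinite _
    obtain ⟨E, hE, hEf, hcoef⟩ := exists_block_ext hpM hHT (fun x hx => hnH x (hTN hx)) hb
      (by exact hfT)
    have h1 : blockCoeff E 1 = blockCoeff b 1 := by
      rw [hcoef, show ((1 : T) : G) = ((1 : H) : G) from rfl, subgroupBlockCoeff_coe]
    have hdE := card_defectGroup hpM hE ((isDefectGroup_subgroupOf_iff hpM hPT hE).mpr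
      (by rw [hEf]; exact hD'))
    have hdb := card_defectGroup hpM hb hbP
    rw [Nat.card_congr (Subgroup.subgroupOfEquivOfLe hPT).toEquiv] at hdE
    rw [Nat.card_congr (Subgroup.subgroupOfEquivOfLe hPH).toEquiv] at hdb
    have hdd : blockDefect p E = blockDefect p b :=
      Nat.pow_right_injective (Fact.out : p.Prime).two_le (hdE.symm.trans hdb)
    have hkey : Nat.card H * (∑ χ ∈ bf E, charDegree (χ : T → ℂ) ^ 2) =
        Nat.card T * (∑ χ ∈ bf b, charDegree (χ : H → ℂ) ^ 2) := by
      have h2 : ((Nat.card H * (∑ χ ∈ bf E, charDegree (χ : T → ℂ) ^ 2) : ℕ) : ℂ) =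
          ((Nat.card T * (∑ χ ∈ bf b, charDegree (χ : H → ℂ) ^ 2) : ℕ) : ℂ) := by
        rw [Nat.cast_mul, Nat.cast_mul, ← card_mul_blockCoeff_one, ← card_mul_blockCoeff_one, h1]
        ring
      exact_mod_cast h2
    have hpos : ∀ {X : Subgroup G} [Fintype X] {B' : Set (IrrCharacter X)}, IsPBlock M B' →
        ∑ χ ∈ bf B', charDegree (χ : X → ℂ) ^ 2 ≠ 0 := fun {X} _ {B'} hB' => by
      obtain ⟨χ, hχ⟩ := block_nonempty hB'
      exact (Finset.sum_pos (fun ψ _ => pow_pos (Blocks.charDegree_eq ψ.2).2 2)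
        ⟨χ, mem_bf.2 hχ⟩).ne'
    have hfac := congrArg (fun n : ℕ => n.factorization p) hkey
    simp only [Nat.factorization_mul Nat.card_pos.ne' (hpos hE),
      Nat.factorization_mul Nat.card_pos.ne' (hpos hb), Finsupp.add_apply,
      factorization_sum_sq hpM hE, factorization_sum_sq hpM hb] at hfac
    rw [hdd] at hfac
    have hle1 := blockDefect_le (p := p) b
    have hle2 := blockDefect_le (p := p) E
    have hmul : Nat.card H * H.relIndex T = Nat.card T := by
      rw [Subgroup.relIndex, ← Nat.card_congr (Subgroup.subgroupOfEquivOfLe hHT).toEquiv,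
        Subgroup.card_mul_index]
    have hr0 : H.relIndex T ≠ 0 := by
      intro h0
      rw [h0, mul_zero] at hmul
      exact Nat.card_pos.ne' hmul.symm
    have hfm := congrArg (fun n : ℕ => n.factorization p) hmul
    simp only [Nat.factorization_mul Nat.card_pos.ne' hr0, Finsupp.add_apply] at hfm
    intro hdvd
    have := (Fact.out : p.Prime).factorization_pos_of_dvd hr0 hdvd
    omega
  · intro hndvd
    refine (isDefectGroup_iff_idemG hpM hind.2.1 P).mpr
      (IsMaxPair.isDef ⟨he, fun R g hs => ?_⟩ hBb hBf)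
    have hRT : R ≤ T := fun x hx => hTeq ▸ ⟨hs.norm hx, hs.stable x hx⟩
    have hne : br R f ≠ 0 := pair_ne_zero_of_nstep hs
    have hne' : br (R ⊓ H) f ≠ 0 := fun h0 => hne (by
      rw [← br_br (inf_le_left : R ⊓ H ≤ R) f, h0, map_zero])
    obtain ⟨y, -, hle⟩ := hbD.maximal (R ⊓ H) inf_le_right (hs.right.pgroup.to_le inf_le_left) hne'
    have hPR : P ≤ R ⊓ H := le_inf hs.le hPH
    have hRH : R ⊓ H = P := (Subgroup.eq_of_le_of_card_ge hPR
      ((Subgroup.card_le_of_le hle).trans (le_of_eq (card_conjS y P)))).symm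
    haveI hnorm : (H.subgroupOf T).Normal :=
      (Subgroup.normal_subgroupOf_iff_le_normalizer hHT).2 fun x hx => hnH x (hTN hx)
    have hRle : R ≤ H := by
      intro x hx
      obtain ⟨j, hj⟩ := hs.right.pgroup ⟨x, hx⟩
      have hxp : x ^ p ^ j = 1 := congrArg Subtype.val hj
      set π := QuotientGroup.mk' (H.subgroupOf T)
      set q := π ⟨x, hRT hx⟩
      have hq : q ^ p ^ j = 1 := by
        rw [← map_pow, show (⟨x, hRT hx⟩ : T) ^ p ^ j = 1 from Subtype.ext hxp, map_one]
      obtain ⟨i, -, hi⟩ := (Nat.dvd_prime_pow (Fact.out : p.Prime)).1 (orderOf_dvd_of_pow_eq_one hq)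
      have hdiv : orderOf q ∣ H.relIndex T := orderOf_dvd_natCard q
      rcases Nat.eq_zero_or_pos i with h0 | h0
      · rw [h0, pow_zero, orderOf_eq_one_iff] at hi
        exact Subgroup.mem_subgroupOf.1 ((QuotientGroup.eq_one_iff _).1 hi)
      · exact absurd ((dvd_pow_self p h0.ne').trans (hi ▸ hdiv)) hndvd
    rw [← hRH, inf_eq_left.2 hRle]

end Cfsg.Agent.Chars2
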