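import Cfsg.Agent.Chars2.StableLattice
import Mathlib.RingTheory.RootsOfUnity.PrimitiveRoots

/-!
Tools for reductions of matrix representations: lifts of residues by roots of unity, orthogonality
of matrix coefficients, eigenprojections of an endomorphism of finite order up to a scalar.
-/

set_option autoImplicit false
set_option linter.unusedSectionVars false

namespace Cfsg.Agent.Chars2.Cyc

open Cfsg Cfsg.Agent Cfsg.Agent.Blocks Matrix

universe u

section lift

variable {p : ℕ} [hp : Fact p.Prime] {M : Ideal AlgInt} [M.IsMaximal]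

/-- Every residue is that of zero or of a root of unity of order prime to `p`. -/
theorem exists_root_lift (hpM : (p : AlgInt) ∈ M) (a : Res M) :
    ∃ (d : ℕ) (w : ℂ), ¬ p ∣ d ∧ (w = 0 ∨ w ^ d = 1) ∧ MemLocalRing M w ∧
      BlockChar.res M w = a := by
  obtain ⟨z, rfl⟩ := BlockChar.res_surjective a
  by_cases hz : z ∈ M
  · refine ⟨1, 0, hp.out.not_dvd_one, Or.inl rfl, memR_zero, ?_⟩
    rw [BlockChar.res_zero, eq_comm, BlockChar.res_eq_zero_iff (memR_of_algInt z)]
    exact (memI_algInt_iff z).2 hz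
  obtain ⟨d, hd, hpd, hdM⟩ := exists_pow_sub_one_mem hpM hz
  have hw := Complex.isPrimitiveRoot_exp d hd.ne'
  set w := Complex.exp (2 * Real.pi * Complex.I / d)
  have h1 := congrArg (Polynomial.eval (z : ℂ)) (X_pow_sub_C_eq_prod hw hd (one_pow d))
  simp only [Polynomial.eval_sub, Polynomial.eval_pow, Polynomial.eval_X, Polynomial.eval_C,
    Polynomial.eval_prod, mul_one] at h1
  have h2 : MemLocalIdeal M (∏ i ∈ Finset.range d, ((z : ℂ) - w ^ i)) := by
    rw [← h1]
    simpa using (memI_algInt_iff (z ^ d - 1)).2 hdM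
  have hwR : ∀ i, MemLocalRing M (w ^ i) := fun i => memR_pow
    (memR_of_isIntegral (IsIntegral.of_pow hd (by rw [hw.pow_eq_one]; exact isIntegral_one))) i
  have key : ∀ s : Finset ℕ, MemLocalIdeal M (∏ i ∈ s, ((z : ℂ) - w ^ i)) →
      ∃ i ∈ s, MemLocalIdeal M ((z : ℂ) - w ^ i) := by
    intro s
    induction s using Finset.induction_on with
    | empty => intro h; exact absurd (by simpa using h) (not_memI_one (M := M))
    | insert a s ha ih =>
      intro h
      rw [Finset.prod_insert ha] at h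
      rcases memI_or_of_mul (memR_sub (memR_of_algInt z) (hwR a))
        (memR_prod _ _ fun i _ => memR_sub (memR_of_algInt z) (hwR i)) h with h | h
      · exact ⟨a, Finset.mem_insert_self a s, h⟩
      · obtain ⟨i, hi, hiI⟩ := ih h
        exact ⟨i, Finset.mem_insert_of_mem hi, hiI⟩
  obtain ⟨i, -, hi⟩ := key _ h2
  refine ⟨d, w ^ i, hpd, Or.inr ?_, hwR i, ((BlockChar.res_eq_iff (memR_of_algInt z) (hwR i)).2 hi).symm⟩
  rw [← pow_mul, mul_comm, pow_mul, hw.pow_eq_one, one_pow]

end lift

section resMat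

variable {M : Ideal AlgInt} [M.IsMaximal] {n : ℕ}

/-- Entrywise reduction. -/
noncomputable def resMat (M : Ideal AlgInt) [M.IsMaximal] {n : ℕ}
    (A : Matrix (Fin n) (Fin n) ℂ) : Matrix (Fin n) (Fin n) (Res M) := A.map (BlockChar.res M)

theorem resMat_apply (A : Matrix (Fin n) (Fin n) ℂ) (i j : Fin n) :
    resMat M A i j = BlockChar.res M (A i j) := rfl

theorem resMat_one : resMat M (1 : Matrix (Fin n) (Fin n) ℂ) = 1 := by
  ext i j
  by_cases h : i = j <;> simp [resMat_apply, Matrix.one_apply, h, BlockChar.res_zero,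
    BlockChar.res_one]

theorem memR_mul_entries {A B : Matrix (Fin n) (Fin n) ℂ} (hA : ∀ i j, MemLocalRing M (A i j))
    (hB : ∀ i j, MemLocalRing M (B i j)) (i j : Fin n) : MemLocalRing M ((A * B) i j) := by
  rw [Matrix.mul_apply]
  exact memR_sum _ _ fun k _ => memR_mul (hA i k) (hB k j)

theorem resMat_mul {A B : Matrix (Fin n) (Fin n) ℂ} (hA : ∀ i j, MemLocalRing M (A i j))
    (hB : ∀ i j, MemLocalRing M (B i j)) : resMat M (A * B) = resMat M A * resMat M B := by
  ext i j
  rw [resMat_apply, Matrix.mul_apply, BlockChar.res_sum _ _ fun k _ => memR_mul (hA i k) (hB k j),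
    Matrix.mul_apply]
  exact Finset.sum_congr rfl fun k _ => BlockChar.res_mul (hA i k) (hB k j)

theorem resMat_smul {c : ℂ} {A : Matrix (Fin n) (Fin n) ℂ} (hc : MemLocalRing M c)
    (hA : ∀ i j, MemLocalRing M (A i j)) :
    resMat M (c • A) = BlockChar.res M c • resMat M A := by
  ext i j
  simp [resMat_apply, BlockChar.res_mul hc (hA i j)]

theorem resMat_sum {ι : Type*} (s : Finset ι) (A : ι → Matrix (Fin n) (Fin n) ℂ)
    (hA : ∀ x ∈ s, ∀ i j, MemLocalRing M (A x i j)) :
    resMat M (∑ x ∈ s, A x) = ∑ x ∈ s, resMat M (A x) := by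
  ext i j
  rw [resMat_apply, Matrix.sum_apply, BlockChar.res_sum _ _ fun x hx => hA x hx i j,
    Matrix.sum_apply]
  rfl

theorem memR_trace {A : Matrix (Fin n) (Fin n) ℂ} (hA : ∀ i j, MemLocalRing M (A i j)) :
    MemLocalRing M A.trace := memR_sum _ _ fun i _ => hA i i

theorem res_trace {A : Matrix (Fin n) (Fin n) ℂ} (hA : ∀ i j, MemLocalRing M (A i j)) :
    BlockChar.res M A.trace = (resMat M A).trace := by
  simp only [Matrix.trace, Matrix.diag_apply]
  rw [BlockChar.res_sum _ _ fun i _ => hA i i]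
  rfl

end resMat

section schur

variable {G : Type u} [Group G] [Fintype G]

/-- Matrix coefficients of representations with different characters are orthogonal. -/
theorem coeff_orth_ne {n n' : ℕ} (ρ : G →* Matrix (Fin n) (Fin n) ℂ)
    (ρ' : G →* Matrix (Fin n') (Fin n') ℂ) (h : IsIrrCharacter G fun g => (ρ g).trace)
    (h' : IsIrrCharacter G fun g => (ρ' g).trace)
    (hne : (fun g => (ρ g).trace) ≠ fun g => (ρ' g).trace)
    (z : Matrix (Fin n') (Fin n') ℂ) : ∑ g, (z * ρ' g⁻¹).trace • ρ g = 0 := by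
  classical
  haveI : (toRep ρ).IsIrreducible :=
    Chars.isIrreducible_of_character (toRep ρ) (toRep_character ρ ▸ h)
  haveI : (toRep ρ').IsIrreducible :=
    Chars.isIrreducible_of_character (toRep ρ') (toRep_character ρ' ▸ h')
  have key : ∀ b c, ∑ g, ρ g * (Matrix.single b c (1 : ℂ) : Matrix (Fin n) (Fin n') ℂ) * ρ' g⁻¹
      = 0 := by
    intro b c
    set S := ∑ g, ρ g * (Matrix.single b c (1 : ℂ) : Matrix (Fin n) (Fin n') ℂ) * ρ' g⁻¹
    have hS : ∀ x, S * ρ' x = ρ x * S := fun x => by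
      simp only [S, Matrix.sum_mul, Matrix.mul_sum]
      refine Fintype.sum_equiv (Equiv.mulLeft x⁻¹) _ _ fun g => ?_
      simp only [Equiv.coe_mulLeft, _root_.mul_inv_rev, inv_inv, map_mul, Matrix.mul_assoc]
      rw [← Matrix.mul_assoc (ρ x), ← map_mul ρ x x⁻¹, mul_inv_cancel, map_one, Matrix.one_mul]
    let f : (toRep ρ').IntertwiningMap (toRep ρ) :=
      ⟨Matrix.toLin' S, fun g => by
        show Matrix.toLin' S ∘ₗ Matrix.toLin' (ρ' g) = Matrix.toLin' (ρ g) ∘ₗ Matrix.toLin' S
        rw [← Matrix.toLin'_mul, ← Matrix.toLin'_mul, hS]⟩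
    rcases Representation.IsIrreducible.bijective_or_eq_zero f with hb | hz
    · exfalso
      refine hne ?_
      have e := f.ofBijective hb
      have hc : (toRep ρ').character = (toRep ρ).character := funext fun g => by
        show LinearMap.trace ℂ _ (toRep ρ' g) = LinearMap.trace ℂ _ (toRep ρ g)
        rw [← e.conj_apply_self g, LinearMap.trace_conj']
      rw [toRep_character, toRep_character] at hc
      exact hc.symm
    · apply Matrix.toLin'.injective
      rw [map_zero]
      exact congrArg (fun x : (toRep ρ').IntertwiningMap (toRep ρ) => x.toLinearMap) hz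
  ext a b
  simp only [Matrix.sum_apply, Matrix.smul_apply, smul_eq_mul, Matrix.zero_apply, Matrix.trace,
    Matrix.diag_apply, Matrix.mul_apply, Finset.sum_mul]
  rw [Finset.sum_comm]
  refine Finset.sum_eq_zero fun c _ => ?_
  rw [Finset.sum_comm]
  refine Finset.sum_eq_zero fun d _ => ?_
  have h1 := congrFun (congrFun (key b d) a) c
  simp only [Matrix.sum_apply, Matrix.zero_apply] at h1
  calc ∑ g, z c d * ρ' g⁻¹ d c * ρ g a b
      = z c d * ∑ g, (ρ g * (Matrix.single b d (1 : ℂ) : Matrix (Fin n) (Fin n') ℂ) * ρ' g⁻¹) a c := by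
        rw [Finset.mul_sum]
        refine Finset.sum_congr rfl fun g _ => ?_
        rw [Matrix.mul_apply, Finset.sum_eq_single d]
        · rw [Matrix.mul_single_apply_same]; ring
        · intro x _ hx; rw [Matrix.mul_single_apply_of_ne _ _ _ _ _ hx, zero_mul]
        · simp
    _ = 0 := by rw [h1, mul_zero]

/-- Matrix coefficients of an irreducible representation. -/
theorem coeff_orth_self {n : ℕ} (ρ : G →* Matrix (Fin n) (Fin n) ℂ)
    (h : IsIrrCharacter G fun g => (ρ g).trace) (z : Matrix (Fin n) (Fin n) ℂ) :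
    ∑ g, (z * ρ g⁻¹).trace • ρ g = ((Nat.card G : ℂ) / n) • z := by
  classical
  have hn : (n : ℂ) ≠ 0 := by
    have := Chars.irr_apply_one_ne_zero h
    simpa using this
  have key : ∀ b d, ∑ g, ρ g * Matrix.single b d (1 : ℂ) * ρ g⁻¹ =
      if b = d then ((Nat.card G : ℂ) / n) • (1 : Matrix (Fin n) (Fin n) ℂ) else 0 := by
    intro b d
    set S := ∑ g, ρ g * Matrix.single b d (1 : ℂ) * ρ g⁻¹
    obtain ⟨c, hc⟩ := matrix_scalar_of_commute ρ h S fun x => by
      simp only [S, Matrix.sum_mul, Matrix.mul_sum]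
      refine Fintype.sum_equiv (Equiv.mulLeft x⁻¹) _ _ fun g => ?_
      simp only [Equiv.coe_mulLeft, _root_.mul_inv_rev, inv_inv, map_mul, Matrix.mul_assoc]
      rw [← Matrix.mul_assoc (ρ x), ← map_mul ρ x x⁻¹, mul_inv_cancel, map_one, Matrix.one_mul]
    have h1 := congrArg Matrix.trace hc
    simp only [S, Matrix.trace_sum, Matrix.trace_smul, Matrix.trace_one, Fintype.card_fin,
      smul_eq_mul] at h1
    rw [Finset.sum_congr rfl fun g _ => (Matrix.trace_mul_comm _ _).trans (by
      rw [← mul_assoc, ← map_mul, inv_mul_cancel, map_one, one_mul]),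
      Finset.sum_const, Finset.card_univ, ← Nat.card_eq_fintype_card] at h1
    rw [hc]
    split_ifs with hbd
    · subst hbd
      rw [Matrix.trace_single_eq_same, nsmul_eq_mul, mul_one] at h1
      congr 1
      field_simp
      linear_combination -h1
    · rw [Matrix.trace_single_eq_of_ne b d (1 : ℂ) hbd, smul_zero] at h1
      rw [(mul_eq_zero.1 h1.symm).resolve_right hn, zero_smul]
  ext a b
  simp only [Matrix.sum_apply, Matrix.smul_apply, smul_eq_mul, Matrix.trace,
    Matrix.diag_apply, Matrix.mul_apply, Finset.sum_mul]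
  rw [Finset.sum_comm]
  calc ∑ c, ∑ g, ∑ d, z c d * ρ g⁻¹ d c * ρ g a b
      = ∑ c, ∑ d, z c d * (∑ g, ρ g * Matrix.single b d (1 : ℂ) * ρ g⁻¹) a c := by
        refine Finset.sum_congr rfl fun c _ => ?_
        rw [Finset.sum_comm]
        refine Finset.sum_congr rfl fun d _ => ?_
        rw [Matrix.sum_apply, Finset.mul_sum]
        refine Finset.sum_congr rfl fun g _ => ?_
        rw [Matrix.mul_apply (M := ρ g * Matrix.single b d (1 : ℂ)), Finset.sum_eq_single d]
        · rw [Matrix.mul_single_apply_same]; ring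
        · intro x _ hx; rw [Matrix.mul_single_apply_of_ne _ _ _ _ _ hx, zero_mul]
        · simp
    _ = _ := by
        rw [Finset.sum_eq_single a, Finset.sum_eq_single b]
        · rw [key, if_pos rfl, Matrix.smul_apply, Matrix.one_apply_eq, smul_eq_mul, mul_one,
            mul_comm]
        · intro d _ hd; rw [key, if_neg (Ne.symm hd), Matrix.zero_apply, mul_zero]
        · simp
        · intro c _ hc
          refine Finset.sum_eq_zero fun d _ => ?_
          rw [key]
          split_ifs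
          · rw [Matrix.smul_apply, Matrix.one_apply_ne (Ne.symm hc), smul_zero, mul_zero]
          · rw [Matrix.zero_apply, mul_zero]
        · simp

/-- Matrix coefficients of an equivalent representation. -/
theorem coeff_orth_intertwine {n : ℕ} (ρ ρ' : G →* Matrix (Fin n) (Fin n) ℂ)
    (h : IsIrrCharacter G fun g => (ρ g).trace) {P : Matrix (Fin n) (Fin n) ℂ}
    (hP : IsUnit P.det) (hint : ∀ g, P * ρ' g = ρ g * P) (z : Matrix (Fin n) (Fin n) ℂ) :
    (∑ g, (z * ρ' g⁻¹).trace • ρ g) = ((Nat.card G : ℂ) / n) • (P * z * P⁻¹) := by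
  rw [← coeff_orth_self ρ h]
  refine Finset.sum_congr rfl fun g _ => ?_
  congr 1
  have h1 : ρ' g⁻¹ = P⁻¹ * ρ g⁻¹ * P := by
    rw [mul_assoc, ← hint, ← mul_assoc, Matrix.nonsing_inv_mul _ hP, one_mul]
  rw [h1, ← mul_assoc, ← mul_assoc, Matrix.trace_mul_comm, ← mul_assoc, ← mul_assoc]

end schur

section eigen

variable {F : Type*} [Field F] {A : Type*} [Ring A] [Algebra F A]

/-- The eigenprojections of an element of finite order up to a scalar. -/
theorem exists_eigenprojections (T : A) {h : ℕ} (hh : 0 < h) {c α ω : F}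
    (hT : T ^ h = c • 1) (hα : α ^ h = c) (hc : c ≠ 0) (hω : IsPrimitiveRoot ω h)
    (hhF : (h : F) ≠ 0) :
    ∃ P : Fin h → A, ∑ r, P r = 1 ∧
      (∀ r, T * P r = (α * ω ^ (r : ℕ)) • P r) ∧
      (∀ r, P r * T = (α * ω ^ (r : ℕ)) • P r) ∧ (∀ r, P r * P r = P r) ∧
      ∀ r s, r ≠ s → P r * P s = 0 ∧
      ∀ X, Commute X T → Commute X (P r) := by
  classical
  have hα0 : α ≠ 0 := fun e => hc (by rw [← hα, e, zero_pow hh.ne'])
  have hω0 : ω ≠ 0 := hω.ne_zero hh.ne'
  let lam : Fin h → F := fun r => α * ω ^ (r : ℕ)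
  have hlam0 : ∀ r, lam r ≠ 0 := fun r => mul_ne_zero hα0 (pow_ne_zero _ hω0)
  have hlamh : ∀ r, (lam r)⁻¹ ^ h * c = 1 := fun r => by
    simp only [lam, inv_pow, mul_pow, ← pow_mul]
    rw [mul_comm (r : ℕ) h, pow_mul, hω.pow_eq_one, one_pow, mul_one, hα, inv_mul_cancel₀ hc]
  let P : Fin h → A := fun r =>
    (h : F)⁻¹ • ∑ j ∈ Finset.range h, ((lam r)⁻¹) ^ j • T ^ j
  have hTP : ∀ r, T * P r = lam r • P r := by
    intro r
    simp only [P, mul_smul_comm, Finset.mul_sum, smul_comm (lam r), Finset.smul_sum (r := lam r)]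
    congr 1
    have h0 : ∀ j, T * T ^ j = T ^ (j + 1) := fun j => (pow_succ' T j).symm
    simp only [h0]
    have hsum : ∑ j ∈ Finset.range h, (lam r)⁻¹ ^ (j + 1) • T ^ (j + 1) =
        ∑ j ∈ Finset.range h, (lam r)⁻¹ ^ j • T ^ j := by
      have e1 := Finset.sum_range_succ' (fun j => (lam r)⁻¹ ^ j • T ^ j) h
      have e2 := Finset.sum_range_succ (fun j => (lam r)⁻¹ ^ j • T ^ j) h
      rw [e2] at e1
      simp only [pow_zero, one_smul, hT, smul_smul, hlamh] at e1
      exact (add_right_cancel e1).symm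
    calc ∑ j ∈ Finset.range h, (lam r)⁻¹ ^ j • T ^ (j + 1)
        = lam r • ∑ j ∈ Finset.range h, (lam r)⁻¹ ^ (j + 1) • T ^ (j + 1) := by
          rw [Finset.smul_sum]
          refine Finset.sum_congr rfl fun j _ => ?_
          rw [smul_smul, pow_succ' (lam r)⁻¹, mul_inv_cancel_left₀ (hlam0 r)]
      _ = _ := by
          rw [hsum, Finset.smul_sum]
          exact Finset.sum_congr rfl fun j _ => smul_comm _ _ _
  have hcomm : ∀ r X, Commute X T → Commute X (P r) := fun r X hX =>
    (Commute.sum_right _ _ _ fun j _ => (hX.pow_right j).smul_right _).smul_right _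
  have hPT : ∀ r, P r * T = lam r • P r := fun r => by
    rw [← (hcomm r T (Commute.refl T)).eq]; exact hTP r
  have hpow : ∀ r (j : ℕ), T ^ j * P r = (lam r) ^ j • P r := by
    intro r j
    induction j with
    | zero => simp
    | succ j ih => rw [pow_succ, mul_assoc, hTP, mul_smul_comm, ih, smul_smul, pow_succ']
  have hPP : ∀ r s, P s * P r = ((h : F)⁻¹ * ∑ j ∈ Finset.range h, ((lam s)⁻¹ * lam r) ^ j) • P r := by
    intro r s
    conv_lhs => arg 1; simp only [P]
    rw [smul_mul_assoc, Finset.sum_mul, ← smul_smul, Finset.sum_smul]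
    congr 1
    refine Finset.sum_congr rfl fun j _ => ?_
    rw [smul_mul_assoc, hpow, smul_smul, ← mul_pow]
  refine ⟨P, ?_, hTP, hPT, fun r => ?_, fun r s hrs => ⟨?_, hcomm r⟩⟩
  · simp only [P, ← Finset.smul_sum]
    rw [Finset.sum_comm, Finset.sum_eq_single 0]
    · simp only [pow_zero, one_smul, Finset.sum_const, Finset.card_univ, Fintype.card_fin]
      rw [← Nat.cast_smul_eq_nsmul F, smul_smul, inv_mul_cancel₀ hhF, one_smul]
    · intro j hj hj0
      rw [← Finset.sum_smul, Fin.sum_univ_eq_sum_range (fun r => (α * ω ^ r)⁻¹ ^ j) h]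
      have : ∑ r ∈ Finset.range h, (α * ω ^ r)⁻¹ ^ j = 0 := by
        have e : ∀ r : ℕ, (α * ω ^ r)⁻¹ ^ j = α⁻¹ ^ j * ((ω⁻¹) ^ j) ^ r := fun r => by
          rw [mul_inv, mul_pow, ← inv_pow, ← pow_mul, ← pow_mul, mul_comm r j]
        simp only [e, ← Finset.mul_sum]
        refine mul_eq_zero_of_right _ ?_
        have hne : (ω⁻¹) ^ j ≠ 1 :=
          hω.inv.pow_ne_one_of_pos_of_lt hj0 (Finset.mem_range.1 hj)
        rw [geom_sum_eq hne, ← pow_mul, mul_comm j h, pow_mul, hω.inv.pow_eq_one, one_pow,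
          sub_self, zero_div]
      rw [this, zero_smul]
    · intro h0; exact absurd (Finset.mem_range.2 hh) h0
  · rw [hPP, inv_mul_cancel₀ (hlam0 r)]
    simp [inv_mul_cancel₀ hhF]
  · rw [hPP]
    have e : (lam r)⁻¹ * lam s ≠ 1 := by
      intro e
      rw [inv_mul_eq_one₀ (hlam0 r)] at e
      exact hrs (Fin.ext (hω.pow_inj r.isLt s.isLt (mul_left_cancel₀ hα0 e)))
    rw [geom_sum_eq e, mul_pow, hlamh' hlamh r s, sub_self, zero_div, mul_zero, zero_smul]
where
  hlamh' : ∀ {c : F} {h : ℕ} {lam : Fin h → F}, (∀ r, (lam r)⁻¹ ^ h * c = 1) →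
      ∀ r s, (lam r)⁻¹ ^ h * lam s ^ h = 1 := by
    intro c h lam hl r s
    have h1 : (lam s)⁻¹ ^ h * c = 1 := hl s
    have h2 : lam s ^ h = c := by
      rw [inv_pow] at h1
      exact eq_of_inv_mul_eq_one h1
    rw [h2, hl r]

end eigen

end Cfsg.Agent.Chars2.Cyc
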