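import Cfsg.Agent.Chars2.GaloisPerm
import Cfsg.Agent.Chars2.RootLift
import Mathlib.Dynamics.PeriodicPts.Lemmas

/-!
Stable representations of the members of an orbit of an automorphism fixing the roots of unity of
order prime to `p`: reduction, eigenprojections and twisted averages.
-/

set_option autoImplicit false
set_option linter.unusedSectionVars false
set_option synthInstance.maxHeartbeats 200000

namespace Cfsg.Agent.Chars2.Cyc

open Cfsg Cfsg.Agent Cfsg.Agent.Blocks Matrix Function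

universe u

section helpers

variable {n : ℕ}

theorem mapE_iterate_apply (σ : ℂ ≃+* ℂ) (q : ℕ) (A : Matrix (Fin n) (Fin n) ℂ) (i j : Fin n) :
    (mapE σ)^[q] A i j = (⇑σ)^[q] (A i j) := by
  induction q generalizing A with
  | zero => rfl
  | succ q ih => rw [iterate_succ_apply, ih, mapE_apply, ← iterate_succ_apply]

theorem twPow_add (σ : ℂ ≃+* ℂ) (T : Matrix (Fin n) (Fin n) ℂ) (a b : ℕ) :
    twPow σ T (a + b) = twPow σ T a * (mapE σ)^[a] (twPow σ T b) := by
  induction a with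
  | zero => simp [twPow]
  | succ a ih =>
    rw [add_right_comm, twPow, ih, map_mul, ← mul_assoc, iterate_succ_apply']
    rfl

theorem iterate_mem_cL {p m : ℕ} [Fact p.Prime] {σ : ℂ ≃+* ℂ} (r : ℕ) {z : ℂ}
    (hz : z ∈ cL p m) : (⇑σ)^[r] z ∈ cL p m := by
  rw [← powAut_apply]; exact aut_mem_cL hz

theorem iterate_congr_memR {p m : ℕ} [Fact p.Prime] {M : Ideal AlgInt} [M.IsMaximal]
    (hm : ¬ p ∣ m) (hpM : (p : AlgInt) ∈ M) {σ : ℂ ≃+* ℂ} (hσ : ∀ z : ℂ, z ^ m = 1 → σ z = z)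
    (r : ℕ) {z : ℂ} (hz : z ∈ cL p m) (hR : MemLocalRing M z) :
    MemLocalRing M ((⇑σ)^[r] z) ∧ MemLocalIdeal M ((⇑σ)^[r] z - z) := by
  rw [← powAut_apply]
  exact aut_congr (powAut_fix hσ r) hm hpM hz hR

theorem iterate_eq_of_agree {p m : ℕ} [Fact p.Prime] {σ τ : ℂ ≃+* ℂ}
    (h : ∀ z : ℂ, z ^ m = 1 → σ z = τ z) (hz : σ (zetaP p) = τ (zetaP p)) (r : ℕ) {a : ℂ}
    (ha : a ∈ cL p m) : (⇑σ)^[r] a = (⇑τ)^[r] a := by
  induction r with
  | zero => rfl
  | succ r ih =>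
    rw [iterate_succ_apply', iterate_succ_apply', ← ih]
    exact aut_eq_on_cL h hz (iterate_mem_cL r ha)

theorem res_natCast {M : Ideal AlgInt} [M.IsMaximal] (a : ℕ) :
    BlockChar.res M (a : ℂ) = (a : Res M) := by
  rw [BlockChar.res_of_mem (memR_natCast a)]
  exact map_natCast (residue M) a

end helpers

variable {G : Type u} [Group G]

/-- An integral representation of an irreducible character with an integral semilinear
intertwiner. -/
structure StableRep (p m h : ℕ) (M : Ideal AlgInt) (τ : ℂ ≃+* ℂ) (χ : G → ℂ) where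
  /-- The degree. -/
  n : ℕ
  /-- The representation. -/
  rep : G →* Matrix (Fin n) (Fin n) ℂ
  /-- The intertwiner. -/
  T : Matrix (Fin n) (Fin n) ℂ
  /-- The scalar. -/
  c : ℂ
  n_pos : 0 < n
  deg : χ 1 = n
  tr : ∀ g, (rep g).trace = χ g
  rep_mem : ∀ g i j, rep g i j ∈ cL p m ∧ MemLocalRing M (rep g i j)
  T_mem : ∀ i j, T i j ∈ cL p m ∧ MemLocalRing M (T i j)
  intertwine : ∀ g, T * mapE τ (rep g) = rep g * T
  c_unit : IsUnitR M c
  c_mem : c ∈ cL p m
  twPow_eq : twPow τ T h = c • 1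

variable {p m h : ℕ} [hp : Fact p.Prime] {M : Ideal AlgInt} [M.IsMaximal] {τ : ℂ ≃+* ℂ}
  {χ : G → ℂ}

theorem exists_stableRep [Finite G] (hm : ¬ p ∣ m) (hpM : (p : AlgInt) ∈ M)
    (hexp : Nat.card G ∣ p * m) (hχ : IsIrrCharacter G χ)
    (hτ : ∀ z : ℂ, z ^ m = 1 → τ z = z) {k : ℕ} (hk : τ (zetaP p) = zetaP p ^ k)
    (hh : orderOf ((k : ℕ) : ZMod p) = h) (hh0 : 0 < h) (hfix : ∀ g, τ (χ g) = χ g) :
    Nonempty (StableRep p m h M τ χ) := by
  obtain ⟨n, ρ, T, c, h1, h2, h3, h4, h5, h6, h7, h8, h9⟩ :=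
    exists_stable_rep hm hpM hexp hχ hτ hk hh hh0 hfix
  exact ⟨⟨n, ρ, T, c, h1, h2, h3, h4, h5, h6, h7, h8, h9⟩⟩

namespace StableRep

variable (s : StableRep p m h M τ χ)

/-- The reduced representation. -/
noncomputable def resRep : G →* Matrix (Fin s.n) (Fin s.n) (Res M) where
  toFun g := resMat M (s.rep g)
  map_one' := by rw [map_one, resMat_one]
  map_mul' a b := by
    rw [map_mul, resMat_mul (fun i j => (s.rep_mem a i j).2) (fun i j => (s.rep_mem b i j).2)]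

theorem resRep_apply (g : G) : s.resRep g = resMat M (s.rep g) := rfl

theorem trace_resRep (g : G) : (s.resRep g).trace = BlockChar.res M (χ g) := by
  rw [resRep_apply, ← res_trace fun i j => (s.rep_mem g i j).2, s.tr]

theorem twPow_mem (hm : ¬ p ∣ m) (hpM : (p : AlgInt) ∈ M)
    (hτ : ∀ z : ℂ, z ^ m = 1 → τ z = z) (q : ℕ) :
    (∀ a b, twPow τ s.T q a b ∈ cL p m ∧ MemLocalRing M (twPow τ s.T q a b)) ∧
      resMat M (twPow τ s.T q) = resMat M s.T ^ q := by
  induction q with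
  | zero =>
    refine ⟨fun a b => ?_, by rw [twPow, pow_zero, resMat_one]⟩
    simp only [twPow, Matrix.one_apply]
    split_ifs <;> first | exact ⟨one_mem _, memR_one⟩ | exact ⟨zero_mem _, memR_zero⟩
  | succ q ih =>
    have h1 : ∀ a b, MemLocalRing M (mapE τ (twPow τ s.T q) a b) := fun a b =>
      (aut_congr hτ hm hpM (ih.1 a b).1 (ih.1 a b).2).1
    refine ⟨fun a b => ⟨mul_mem_entries _ (fun x y => (s.T_mem x y).1)
      (fun x y => aut_mem_cL (ih.1 x y).1) a b,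
      memR_mul_entries (fun x y => (s.T_mem x y).2) h1 a b⟩, ?_⟩
    rw [twPow, resMat_mul (fun x y => (s.T_mem x y).2) h1, pow_succ', ← ih.2]
    congr 1
    ext a b
    rw [resMat_apply, resMat_apply, BlockChar.res_eq_iff (h1 a b) (ih.1 a b).2]
    exact (aut_congr hτ hm hpM (ih.1 a b).1 (ih.1 a b).2).2

theorem commute_resT (hm : ¬ p ∣ m) (hpM : (p : AlgInt) ∈ M)
    (hτ : ∀ z : ℂ, z ^ m = 1 → τ z = z) (g : G) : Commute (s.resRep g) (resMat M s.T) := by
  have h1 : ∀ a b, MemLocalRing M (mapE τ (s.rep g) a b) := fun a b =>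
    (aut_congr hτ hm hpM (s.rep_mem g a b).1 (s.rep_mem g a b).2).1
  have h2 : resMat M (mapE τ (s.rep g)) = s.resRep g := by
    ext a b
    rw [resMat_apply, resRep_apply, resMat_apply, BlockChar.res_eq_iff (h1 a b) (s.rep_mem g a b).2]
    exact (aut_congr hτ hm hpM (s.rep_mem g a b).1 (s.rep_mem g a b).2).2
  show s.resRep g * resMat M s.T = resMat M s.T * s.resRep g
  conv_rhs => rw [← h2, ← resMat_mul (fun x y => (s.T_mem x y).2) h1, s.intertwine]
  rw [resRep_apply, resMat_mul (fun x y => (s.rep_mem g x y).2) (fun x y => (s.T_mem x y).2)]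

/-- The eigenprojections of the reduced intertwiner. -/
theorem exists_proj (hm : ¬ p ∣ m) (hpM : (p : AlgInt) ∈ M)
    (hτ : ∀ z : ℂ, z ^ m = 1 → τ z = z) {k : ℕ} (hk : orderOf ((k : ℕ) : ZMod p) = h)
    (hh0 : 0 < h) (hhp : ¬ p ∣ h) :
    ∃ P : Fin h → Matrix (Fin s.n) (Fin s.n) (Res M), ∑ r, P r = 1 ∧ (∀ r, P r * P r = P r) ∧
      (∀ r t, r ≠ t → P r * P t = 0) ∧ (∀ r g, Commute (s.resRep g) (P r)) ∧
      ∀ Z, (∀ r, Commute Z (P r)) → Commute Z (resMat M s.T) := by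
  haveI := BlockChar.charP_res (M := M) hpM
  obtain ⟨α, hα⟩ := IsAlgClosed.exists_pow_nat_eq (BlockChar.res M s.c) hh0
  have hom : IsPrimitiveRoot ((k : ℕ) : Res M) h := by
    have h1 : IsPrimitiveRoot ((k : ℕ) : ZMod p) h := hk ▸ IsPrimitiveRoot.orderOf _
    have h2 := h1.map_of_injective (f := ZMod.castHom (dvd_refl p) (Res M))
      (ZMod.castHom (dvd_refl p) (Res M)).injective
    simpa using h2
  have hhF : ((h : ℕ) : Res M) ≠ 0 := fun e => hhp ((CharP.cast_eq_zero_iff (Res M) p _).1 e)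
  have hT : resMat M s.T ^ h = BlockChar.res M s.c • 1 := by
    rw [← (s.twPow_mem hm hpM hτ h).2, s.twPow_eq, resMat_smul s.c_unit.1 (fun a b => by
      rw [Matrix.one_apply]; split_ifs <;> first | exact memR_one | exact memR_zero), resMat_one]
  obtain ⟨P, hP1, hP2, hP3, hP4, hP5⟩ := exists_eigenprojections (resMat M s.T) hh0 hT hα
    (fun e => s.c_unit.2 ((BlockChar.res_eq_zero_iff s.c_unit.1).1 e)) hom hhF
  refine ⟨P, hP1, hP4, fun r t hrt => (hP5 r t hrt).1, fun r g => ?_, fun Z hZ => ?_⟩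
  · by_cases hs : ∃ t, r ≠ t
    · obtain ⟨t, ht⟩ := hs
      exact (hP5 r t ht).2 _ (s.commute_resT hm hpM hτ g)
    · push Not at hs
      have : P r = 1 := by
        rw [← hP1, Finset.sum_eq_single r (fun b _ hb => absurd (hs b).symm hb)
          (fun hr => absurd (Finset.mem_univ r) hr)]
      rw [this]; exact Commute.one_right _
  · have e : resMat M s.T = ∑ r : Fin h, (α * ((k : ℕ) : Res M) ^ (r : ℕ)) • P r := by
      conv_lhs => rw [← mul_one (resMat M s.T), ← hP1, Finset.mul_sum]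
      exact Finset.sum_congr rfl fun r _ => hP2 r
    rw [e]
    exact Commute.sum_right _ _ _ fun r _ => (hZ r).smul_right _

theorem exists_inv (hm : ¬ p ∣ m) (hpM : (p : AlgInt) ∈ M)
    (hτ : ∀ z : ℂ, z ^ m = 1 → τ z = z) {q : ℕ} (hq : q ≤ h) :
    ∃ Y : Matrix (Fin s.n) (Fin s.n) ℂ, twPow τ s.T q * Y = 1 ∧ ∀ a b, MemLocalRing M (Y a b) := by
  refine ⟨s.c⁻¹ • (mapE τ)^[q] (twPow τ s.T (h - q)), ?_, fun a b => ?_⟩
  · rw [mul_smul_comm, ← twPow_add, Nat.add_sub_cancel' hq, s.twPow_eq, smul_smul,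
      inv_mul_cancel₀ (ne_zero_of_not_memI s.c_unit.2), one_smul]
  · rw [Matrix.smul_apply, smul_eq_mul, mapE_iterate_apply]
    have h2 := (s.twPow_mem hm hpM hτ (h - q)).1 a b
    exact memR_mul s.c_unit.inv.1 (iterate_congr_memR hm hpM hτ q h2.1 h2.2).1

theorem isUnit_det_twPow (hm : ¬ p ∣ m) (hpM : (p : AlgInt) ∈ M)
    (hτ : ∀ z : ℂ, z ^ m = 1 → τ z = z) {q : ℕ} (hq : q ≤ h) :
    IsUnit (twPow τ s.T q).det := by
  obtain ⟨Y, hY, -⟩ := s.exists_inv hm hpM hτ hq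
  exact (Matrix.isUnit_iff_isUnit_det _).1 (IsUnit.of_mul_eq_one Y hY)

/-- The twisted average of a lift reduces to the given matrix. -/
theorem res_average (hm : ¬ p ∣ m) (hpM : (p : AlgInt) ∈ M)
    (hτ : ∀ z : ℂ, z ^ m = 1 → τ z = z) (hh0 : 0 < h) (hhp : ¬ p ∣ h)
    {Z : Matrix (Fin s.n) (Fin s.n) ℂ} (hZ : ∀ a b, MemLocalRing M (Z a b))
    (hc : Commute (resMat M Z) (resMat M s.T)) :
    resMat M ((h : ℂ)⁻¹ • ∑ q ∈ Finset.range h, twPow τ s.T q * Z * (twPow τ s.T q)⁻¹) =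
      resMat M Z := by
  have hterm : ∀ q ∈ Finset.range h,
      (∀ a b, MemLocalRing M ((twPow τ s.T q * Z * (twPow τ s.T q)⁻¹) a b)) ∧
      resMat M (twPow τ s.T q * Z * (twPow τ s.T q)⁻¹) = resMat M Z := by
    intro q hq
    obtain ⟨Y, hY, hYR⟩ := s.exists_inv hm hpM hτ (Finset.mem_range.1 hq).le
    rw [Matrix.inv_eq_right_inv hY]
    have hPR : ∀ a b, MemLocalRing M (twPow τ s.T q a b) := fun a b =>
      ((s.twPow_mem hm hpM hτ q).1 a b).2
    refine ⟨memR_mul_entries (memR_mul_entries hPR hZ) hYR, ?_⟩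
    have hcq : resMat M (twPow τ s.T q) * resMat M Z = resMat M Z * resMat M (twPow τ s.T q) := by
      rw [(s.twPow_mem hm hpM hτ q).2]
      exact ((hc.pow_right q).eq).symm
    rw [resMat_mul (memR_mul_entries hPR hZ) hYR, resMat_mul hPR hZ, hcq, mul_assoc,
      ← resMat_mul hPR hYR, hY, resMat_one, mul_one]
  have hinv : MemLocalRing M (h : ℂ)⁻¹ := memR_inv_natCast hpM hhp
  rw [resMat_smul hinv (fun a b => by
      rw [Matrix.sum_apply]; exact memR_sum _ _ fun q hq => (hterm q hq).1 a b),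
    resMat_sum _ _ fun q hq => (hterm q hq).1,
    Finset.sum_congr rfl fun q hq => (hterm q hq).2, Finset.sum_const, Finset.card_range,
    ← Nat.cast_smul_eq_nsmul (Res M), smul_smul]
  have h1 : BlockChar.res M ((h : ℂ) * (h : ℂ)⁻¹) = 1 := by
    rw [mul_inv_cancel₀ (Nat.cast_ne_zero.2 hh0.ne'), BlockChar.res_one]
  rw [BlockChar.res_mul (memR_natCast _) hinv, res_natCast, mul_comm] at h1
  rw [h1, one_smul]

end StableRep

variable [Fintype G]

/-- The twisted coefficient sums of two stable representations. -/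
theorem sum_twist_coeff (hm : ¬ p ∣ m) (hpM : (p : AlgInt) ∈ M) {σ : ℂ ≃+* ℂ}
    (hσ : ∀ z : ℂ, z ^ m = 1 → σ z = z) {σ' : ℂ ≃+* ℂ}
    (hagree : ∀ z : ℂ, z ^ m = 1 → σ' z = σ z) (hζ : σ' (zetaP p) = σ (zetaP p))
    {i j : IrrCharacter G} {ti hi tj hj : ℕ}
    (si : StableRep p m hi M (powAut σ ti) (i : G → ℂ))
    (sj : StableRep p m hj M (powAut σ tj) (j : G → ℂ))
    {Z : Matrix (Fin si.n) (Fin si.n) ℂ} (hZfix : ∀ a b, σ' (Z a b) = Z a b) (r : ℕ) :
    ((gal σ)^[r] i ≠ j → ∑ g, (⇑σ')^[r] ((Z * si.rep g⁻¹).trace) • sj.rep g = 0) ∧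
    ∀ q, r = ti * q → q ≤ hi →
      ∑ g, (⇑σ')^[r] ((Z * si.rep g⁻¹).trace) • si.rep g =
        ((Nat.card G : ℂ) / (si.n : ℂ)) • (twPow (powAut σ ti) si.T q * Z *
          (twPow (powAut σ ti) si.T q)⁻¹) := by
  let ρ' : G →* Matrix (Fin si.n) (Fin si.n) ℂ := (mapE (powAut σ r)).toMonoidHom.comp si.rep
  have hρ'e : ∀ g a b, ρ' g a b = (⇑σ)^[r] (si.rep g a b) := fun g a b => powAut_apply σ r _
  have htr' : (fun g => (ρ' g).trace) = (((gal σ)^[r] i : IrrCharacter G) : G → ℂ) := by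
    funext g
    rw [gal_iterate, ← si.tr g, ← powAut_apply, Matrix.trace, Matrix.trace, map_sum]
    rfl
  have hsw : ∀ g, (⇑σ')^[r] ((Z * si.rep g⁻¹).trace) = (Z * ρ' g⁻¹).trace := fun g => by
    rw [← powAut_apply, Matrix.trace, Matrix.trace, map_sum]
    refine Finset.sum_congr rfl fun a _ => ?_
    rw [Matrix.diag_apply, Matrix.diag_apply, Matrix.mul_apply, Matrix.mul_apply, map_sum]
    refine Finset.sum_congr rfl fun b _ => ?_
    rw [map_mul, powAut_apply, powAut_apply, Function.iterate_fixed (hZfix a b) r, hρ'e,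
      iterate_eq_of_agree hagree hζ r (si.rep_mem g⁻¹ b a).1]
  simp only [hsw]
  refine ⟨fun hne => ?_, fun q hq hqh => ?_⟩
  · refine coeff_orth_ne sj.rep ρ' ?_ ?_ (fun he => hne ?_) Z
    · rw [funext sj.tr]; exact j.2
    · rw [htr']; exact ((gal σ)^[r] i).2
    · rw [htr', funext sj.tr] at he
      exact (Subtype.ext he).symm
  · refine coeff_orth_intertwine si.rep ρ' (by rw [funext si.tr]; exact i.2)
      (si.isUnit_det_twPow hm hpM (powAut_fix hσ _) hqh) (fun g => ?_) Z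
    have e : ρ' g = (mapE (powAut σ ti))^[q] (si.rep g) := by
      ext a b
      rw [hρ'e, mapE_iterate_apply, hq, Function.iterate_mul]
      exact congrArg (fun F : ℂ → ℂ => F^[q] (si.rep g a b))
        (funext fun z => (powAut_apply σ _ z).symm)
    rw [e]
    exact twPow_intertwine (powAut σ ti) si.rep si.intertwine q g

end Cfsg.Agent.Chars2.Cyc
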