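import Cfsg.Agent.Chars2.GaloisPerm
import Cfsg.Agent.Chars2.OrbitRep
import Cfsg.Agent.BlockChar.CentralDefectGroup
import Cfsg.Agent.BlockChar.SubsectionHeight
import Cfsg.Agent.Blocks.FirstMain

/-!
When `p` divides the group order only once: the blocks of the centralizer of an element of order
`p` and the decomposition numbers along that element.
-/

set_option autoImplicit false
set_option linter.unusedSectionVars false
set_option linter.style.haveILetI false

namespace Cfsg.Agent.Chars2.Cyc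

open Cfsg Cfsg.Agent Cfsg.Agent.Blocks Cfsg.Agent.BlockChar
open scoped ComplexConjugate

universe u

variable {G : Type u} [Group G] [Fintype G]

/-- The data: an element `x` of order `p`, an automorphism raising the roots of unity to the power
`K`, with `K` a primitive root modulo `p` and `1` modulo `m`. -/
structure Once (M : Ideal AlgInt) (p m K : ℕ) (x : G) (σ : ℂ ≃+* ℂ) (H : Subgroup G) : Prop where
  hpM : (p : AlgInt) ∈ M
  hm : ¬ p ∣ m
  card : Nat.card G = p * m
  hx : orderOf x = p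
  hH : H = Subgroup.centralizer ({x} : Set G)
  root : ∀ z : ℂ, z ^ (p * m) = 1 → σ z = z ^ K
  hKm : K ≡ 1 [MOD m]
  ord : orderOf ((K : ℕ) : ZMod p) = p - 1

theorem exists_once {p : ℕ} [hp : Fact p.Prime] {M : Ideal AlgInt} (hpM : (p : AlgInt) ∈ M)
    (hdiv : p ∣ Nat.card G) (hsq : ¬ p ^ 2 ∣ Nat.card G) {x : G} (hx : orderOf x = p) :
    ∃ (K : ℕ) (σ : ℂ ≃+* ℂ),
      Once M p (Nat.card G / p) K x σ (Subgroup.centralizer ({x} : Set G)) := by
  set m := Nat.card G / p with hm'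
  have hc : Nat.card G = p * m := (Nat.mul_div_cancel' hdiv).symm
  have hm : ¬ p ∣ m := fun h => hsq (by rw [sq, hc]; exact Nat.mul_dvd_mul_left p h)
  have hcop : p.Coprime m := hp.out.coprime_iff_not_dvd.2 hm
  obtain ⟨γ, hγ⟩ := IsCyclic.exists_generator (α := (ZMod p)ˣ)
  have hγo : orderOf γ = p - 1 := by
    rw [orderOf_eq_card_of_forall_mem_zpowers hγ, Nat.card_eq_fintype_card, ZMod.card_units]
  obtain ⟨K, hK1, hK2⟩ := Nat.chineseRemainder hcop ((γ : ZMod p).val) 1
  have hKp : ((K : ℕ) : ZMod p) = (γ : ZMod p) := by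
    rw [(ZMod.natCast_eq_natCast_iff _ _ _).2 hK1, ZMod.natCast_val, ZMod.cast_id]
  have hKcop : K.Coprime (p * m) := by
    refine Nat.Coprime.mul_right ?_ ?_
    · refine (hp.out.coprime_iff_not_dvd.2 fun h => ?_).symm
      rw [← ZMod.natCast_eq_zero_iff, hKp] at h
      exact γ.ne_zero h
    · rw [Nat.coprime_iff_gcd_eq_one, Nat.gcd_comm, Nat.gcd_rec, hK2, ← Nat.gcd_rec]
      exact Nat.gcd_one_right _
  obtain ⟨σ, hσ⟩ := OddChar.exists_aut_pow (N := p * m) (by rw [← hc]; exact Nat.card_pos.ne') hKcop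
  exact ⟨K, σ, hpM, hm, hc, hx, rfl, hσ, hK2, by rw [hKp, orderOf_units, hγo]⟩

variable {p m K : ℕ} [hp : Fact p.Prime] {M : Ideal AlgInt} [M.IsMaximal] {x : G}
  {σ : ℂ ≃+* ℂ} {H : Subgroup G}

namespace Once

theorem hm0 (S : Once M p m K x σ H) : m ≠ 0 := fun h => S.hm (h ▸ dvd_zero p)

theorem hexp (S : Once M p m K x σ H) : Nat.card G ∣ p * m := S.card ▸ dvd_rfl

theorem hdiv (S : Once M p m K x σ H) : p ∣ Nat.card G := S.card ▸ dvd_mul_right p m

theorem hcardH (S : Once M p m K x σ H) : Nat.card H ∣ p * m :=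
  (Subgroup.card_subgroup_dvd_card H).trans S.hexp

theorem hσ (S : Once M p m K x σ H) : ∀ z : ℂ, z ^ m = 1 → σ z = z := fun z hz => by
  rw [S.root z (by rw [mul_comm, pow_mul, hz, one_pow]),
    pow_eq_pow_mod K hz, S.hKm, ← pow_eq_pow_mod 1 hz, pow_one]

theorem hk (S : Once M p m K x σ H) : σ (zetaP p) = zetaP p ^ K :=
  S.root _ (by rw [pow_mul, isPrimitiveRoot_zetaP.pow_eq_one, one_pow])

theorem hKpow (S : Once M p m K x σ H) : ((K : ℕ) : ZMod p) ^ (p - 1) = 1 :=
  S.ord ▸ pow_orderOf_eq_one _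

theorem vG (S : Once M p m K x σ H) : (Nat.card G).factorization p = 1 := by
  rw [S.card, Nat.factorization_mul hp.out.ne_zero S.hm0, Finsupp.add_apply,
    hp.out.factorization_self, Nat.factorization_eq_zero_of_not_dvd S.hm, add_zero]

theorem hu (S : Once M p m K x σ H) : ∃ k : ℕ, orderOf x = p ^ k := ⟨1, by rw [pow_one, S.hx]⟩

theorem mem (S : Once M p m K x σ H) : x ∈ H :=
  S.hH ▸ Subgroup.mem_centralizer_singleton_iff.2 rfl

theorem comm (S : Once M p m K x σ H) (c : H) : Commute x (c : G) :=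
  (Subgroup.mem_centralizer_singleton_iff.1
    (S.hH ▸ c.2 : (c : G) ∈ Subgroup.centralizer ({x} : Set G))).symm

/-- The values under the automorphism. -/
theorem map_value (S : Once M p m K x σ H) {J : Type*} [Group J] [Finite J]
    (hJ : Nat.card J ∣ p * m) {χ : J → ℂ} (hχ : IsCharacter J χ) (g : J) :
    σ (χ g) = χ (g ^ K) := by
  obtain ⟨n, ρ, rfl⟩ := hχ
  obtain ⟨z, hz, hc, -, -⟩ := Chars.exists_eigenvalues ρ g
  rw [show ρ.character g = ∑ i, z i by simpa using hc 1, hc K, map_sum]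
  refine Finset.sum_congr rfl fun i _ => S.root _ ?_
  obtain ⟨j, hj⟩ := (orderOf_dvd_natCard g).trans hJ
  rw [hj, pow_mul, hz i, one_pow]

theorem reg_pow (S : Once M p m K x σ H) {J : Type*} [Group J] [Finite J]
    (hJ : Nat.card J ∣ p * m) {g : J} (hg : ¬ p ∣ orderOf g) : g ^ K = g := by
  have h : orderOf g ∣ m := (Nat.Coprime.dvd_of_dvd_mul_left
    (Nat.Coprime.symm (hp.out.coprime_iff_not_dvd.2 hg)) ((orderOf_dvd_natCard g).trans hJ))
  rw [← pow_mod_orderOf, S.hKm.of_dvd h, pow_mod_orderOf, pow_one]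

theorem map_reg (S : Once M p m K x σ H) {J : Type*} [Group J] [Finite J]
    (hJ : Nat.card J ∣ p * m) {χ : J → ℂ} (hχ : IsCharacter J χ) {g : J}
    (hg : ¬ p ∣ orderOf g) : σ (χ g) = χ g := by rw [S.map_value hJ hχ, S.reg_pow hJ hg]

theorem gal_value (S : Once M p m K x σ H) (χ : IrrCharacter G) (r : ℕ) (g : G) :
    ((gal σ)^[r] χ : G → ℂ) g = (χ : G → ℂ) (g ^ K ^ r) := by
  induction r generalizing g χ with
  | zero => simp
  | succ r ih =>
    rw [Function.iterate_succ_apply, ih, gal_apply,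
      S.map_value S.hexp (Chars.irr_isCharacter χ), ← pow_mul, ← pow_succ]

theorem gal_reg (S : Once M p m K x σ H) (χ : IrrCharacter G) (r : ℕ) {g : G}
    (hg : ¬ p ∣ orderOf g) : ((gal σ)^[r] χ : G → ℂ) g = (χ : G → ℂ) g := by
  induction r generalizing χ with
  | zero => rfl
  | succ r ih =>
    rw [Function.iterate_succ_apply, ih, gal_apply, S.map_reg S.hexp (Chars.irr_isCharacter χ) hg]

theorem mul_pow_reg (S : Once M p m K x σ H) {c : H} (hc : ¬ p ∣ orderOf c) (i r : ℕ) :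
    (x ^ i * (c : G)) ^ K ^ r = x ^ (i * K ^ r) * (c : G) := by
  rw [((S.comm c).pow_left i).mul_pow, ← pow_mul]
  congr 1
  induction r with
  | zero => rw [pow_zero, pow_one]
  | succ r ih =>
    rw [pow_succ, pow_mul, ih, S.reg_pow S.hexp (by rwa [Subgroup.orderOf_coe])]

/-- The subgroup generated by `x`, inside the centralizer. -/
theorem card_D (S : Once M p m K x σ H) :
    Nat.card ((Subgroup.zpowers x).subgroupOf H) = p := by
  rw [Nat.card_congr (Subgroup.subgroupOfEquivOfLe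
    (Subgroup.zpowers_le.2 S.mem)).toEquiv, Nat.card_zpowers, S.hx]

theorem pgroup_D (S : Once M p m K x σ H) :
    IsPGroup p ((Subgroup.zpowers x).subgroupOf H) :=
  IsPGroup.of_card (n := 1) (by rw [S.card_D, pow_one])

theorem D_le_center (S : Once M p m K x σ H) :
    (Subgroup.zpowers x).subgroupOf H ≤ Subgroup.center H := by
  intro d hd
  obtain ⟨j, hj⟩ := Subgroup.mem_zpowers_iff.1 (Subgroup.mem_subgroupOf.1 hd)
  refine Subgroup.mem_center_iff.2 fun c => Subtype.ext ?_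
  show (c : G) * d = d * c
  rw [← hj]
  exact ((S.comm c).zpow_left j).symm.eq

theorem D_sup (S : Once M p m K x σ H) :
    (Subgroup.zpowers x).subgroupOf H ⊔
      Subgroup.centralizer (((Subgroup.zpowers x).subgroupOf H : Subgroup H) : Set H) = ⊤ := by
  refine eq_top_iff.2 (le_trans (le_of_eq ?_) le_sup_right)
  refine (eq_top_iff.2 fun c _ => Subgroup.mem_centralizer_iff.2 fun d hd => ?_).symm
  exact (Subgroup.mem_center_iff.1 (S.D_le_center hd) c).symm

variable [Fintype H]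

theorem isDefectGroup_D (S : Once M p m K x σ H) {b : Set (IrrCharacter H)}
    (hb : IsPBlock M b) : IsDefectGroup p M b ((Subgroup.zpowers x).subgroupOf H) := by
  obtain ⟨D, hD⟩ := exists_isDefectGroup S.hpM hb
  have hn : ((Subgroup.zpowers x).subgroupOf H).Normal := ⟨fun d hd c => by
    rwa [Subgroup.mem_center_iff.1 (S.D_le_center hd) c, mul_inv_cancel_right]⟩
  have hle := le_defect_of_normal S.hpM hb hD hn S.pgroup_D
  refine Subgroup.eq_of_le_of_card_ge hle ?_ ▸ hD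
  rw [S.card_D, card_defectGroup S.hpM hb hD]
  refine (Nat.pow_le_pow_right hp.out.pos ((blockDefect_le b).trans ?_)).trans_eq (pow_one p)
  rw [← S.vG]
  exact (Nat.factorization_le_iff_dvd Nat.card_pos.ne' Nat.card_pos.ne').2
    (Subgroup.card_subgroup_dvd_card H) p

/-- Each block of the centralizer has a member trivial at `x`. -/
theorem exists_trivial (S : Once M p m K x σ H) {b : Set (IrrCharacter H)} (hb : IsPBlock M b) :
    ∃ θ ∈ b, (θ : H → ℂ) ⟨x, S.mem⟩ = (θ : H → ℂ) 1 := by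
  haveI : Fintype ((Subgroup.zpowers x).subgroupOf H) := Fintype.ofFinite _
  obtain ⟨θ, hθ, h⟩ := central_block_structure S.hpM S.pgroup_D S.D_sup hb (S.isDefectGroup_D hb)
  exact ⟨θ, hθ, h _ (Subgroup.mem_subgroupOf.2 (Subgroup.mem_zpowers x))⟩

theorem trivial_on_D (S : Once M p m K x σ H) {θ : IrrCharacter H}
    (hθ : (θ : H → ℂ) ⟨x, S.mem⟩ = (θ : H → ℂ) 1) :
    ∀ d ∈ (Subgroup.zpowers x).subgroupOf H, (θ : H → ℂ) d = (θ : H → ℂ) 1 := by
  intro d hd
  obtain ⟨j, hj⟩ := Subgroup.mem_zpowers_iff.1 (Subgroup.mem_subgroupOf.1 hd)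
  have hd' : d = (⟨x, S.mem⟩ : H) ^ j :=
    Subtype.ext (by rw [Subgroup.coe_zpow]; exact hj.symm)
  rw [hd']
  exact (Chars.mem_charKer (Chars.irr_isCharacter θ)).1
    (Subgroup.zpow_mem _ ((Chars.mem_charKer (Chars.irr_isCharacter θ)).2 hθ) j)

/-- The characters of a block of the centralizer. -/
theorem block_loc (S : Once M p m K x σ H) {b : Set (IrrCharacter H)} (hb : IsPBlock M b)
    {θ : IrrCharacter H} (hθ : θ ∈ b) (hθx : (θ : H → ℂ) ⟨x, S.mem⟩ = (θ : H → ℂ) 1) :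
    (∀ φ ∈ b, ∀ s : H, ¬ p ∣ orderOf s → (φ : H → ℂ) s = (θ : H → ℂ) s) ∧ Nat.card b = p ∧
      ∀ φ ∈ b, (φ : H → ℂ) ⟨x, S.mem⟩ = (φ : H → ℂ) 1 → φ = θ := by
  classical
  haveI : Fintype ((Subgroup.zpowers x).subgroupOf H) := Fintype.ofFinite _
  obtain ⟨ζ, h1, -, hinj, hsurj⟩ := central_block_regular S.hpM S.pgroup_D S.D_sup hb
    (S.isDefectGroup_D hb) hθ (S.trivial_on_D hθx)
  have hcomm : ∀ a c : ((Subgroup.zpowers x).subgroupOf H : Subgroup H), a * c = c * a := fun a c =>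
    Subtype.ext ((Subgroup.mem_center_iff.1 (S.D_le_center a.2) c.1).symm)
  have hone : ∀ η : IrrCharacter ((Subgroup.zpowers x).subgroupOf H : Subgroup H),
      (η : ((Subgroup.zpowers x).subgroupOf H : Subgroup H) → ℂ) 1 = 1 := fun η =>
    Chars.irr_apply_one_of_comm hcomm η.2
  refine ⟨fun φ hφ s hs => ?_, ?_, fun φ hφ hφx => ?_⟩
  · have := h1 φ hφ 1 s hs
    rwa [OneMemClass.coe_one, one_mul, hone, one_mul] at this
  · have hbij : Function.Bijective (fun φ : b => ζ φ.1) :=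
      ⟨fun a c h => Subtype.ext (hinj a.2 c.2 h), fun η => by
        obtain ⟨φ, hφ, e⟩ := hsurj η; exact ⟨⟨φ, hφ⟩, e⟩⟩
    rw [Nat.card_congr (Equiv.ofBijective _ hbij), Chars.card_irr_eq_card_conjClasses,
      ← Nat.card_congr (Equiv.ofBijective (ConjClasses.mk :
        ((Subgroup.zpowers x).subgroupOf H : Subgroup H) → ConjClasses _)
        ⟨fun a c h => ?_, ConjClasses.mk_surjective⟩), S.card_D]
    obtain ⟨e, he⟩ := isConj_iff.1 (ConjClasses.mk_eq_mk_iff_isConj.1 h)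
    rwa [hcomm e a, mul_inv_cancel_right] at he
  · refine hinj hφ hθ (Subtype.ext (funext fun d => ?_))
    have key : ∀ ψ ∈ b, (ψ : H → ℂ) ⟨x, S.mem⟩ = (ψ : H → ℂ) 1 →
        (ζ ψ : ((Subgroup.zpowers x).subgroupOf H : Subgroup H) → ℂ) d = 1 := fun ψ hψ hψx => by
      have h := h1 ψ hψ d 1 (by rw [orderOf_one]; exact hp.out.not_dvd_one)
      rw [mul_one, S.trivial_on_D hψx d d.2] at h
      have h' := h1 ψ hψ 1 1 (by rw [orderOf_one]; exact hp.out.not_dvd_one)
      rw [mul_one, OneMemClass.coe_one, hone, one_mul] at h'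
      rw [h'] at h
      exact mul_right_cancel₀ (Chars.irr_apply_one_ne_zero θ.2) (by rw [one_mul]; exact h.symm)
    rw [key φ hφ hφx, key θ hθ hθx]

end Once

/-- The decomposition number of `χ` along `x` in the block `b`. -/
noncomputable def dB (x : G) {H : Subgroup G} [Fintype H] (b : Set (IrrCharacter H))
    (χ : IrrCharacter G) : ℂ :=
  ∑ φ ∈ bf b, classInner (fun c : H => (χ : G → ℂ) (x * (c : G))) (φ : H → ℂ)

variable [Fintype H]

theorem secPart_eq_dB (S : Once M p m K x σ H) {b : Set (IrrCharacter H)} (hb : IsPBlock M b)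
    {θ : IrrCharacter H} (hθ : θ ∈ b) (hθx : (θ : H → ℂ) ⟨x, S.mem⟩ = (θ : H → ℂ) 1)
    (χ : IrrCharacter G) {s : H} (hs : ¬ p ∣ orderOf s) :
    secPart x b χ s = dB x b χ * (θ : H → ℂ) s := by
  rw [secPart, blockPart, finsum_mem_bf, dB, Finset.sum_mul]
  refine Finset.sum_congr rfl fun φ hφ => ?_
  rw [(S.block_loc hb hθ hθx).1 φ (mem_bf.1 hφ) s hs]
  congr 1
  exact congrArg (fun i => @classInner _ _ i _ _) (Subsingleton.elim _ _)

theorem dB_mem (S : Once M p m K x σ H) (b : Set (IrrCharacter H)) (χ : IrrCharacter G) :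
    dB x b χ ∈ cS p 1 := by
  refine sum_mem fun φ _ => ?_
  have hc : ∀ c : H, (⟨x, S.mem⟩ : H) * c = c * ⟨x, S.mem⟩ := fun c => Subtype.ext (S.comm c).eq
  obtain ⟨ζ, hζ, hφ⟩ := exists_central_scalar (k := 1) S.hpM
    (z := (⟨x, S.mem⟩ : H)) (by
      refine Subtype.ext ?_
      show x ^ p ^ 1 = 1
      exact orderOf_dvd_iff_pow_eq_one.1 (by rw [pow_one, S.hx])) hc φ
  rw [pow_one] at hζ
  obtain ⟨n, hn⟩ := Chars.exists_classInner_eq_nat
    (Chars.isCharacter_restrict (Chars.irr_isCharacter χ) H) (Chars.irr_isCharacter φ)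
  have hζ0 : ζ ≠ 0 := fun h => by simp [h, zero_pow hp.out.ne_zero] at hζ
  have he : classInner (fun c : H => (χ : G → ℂ) (x * (c : G))) (φ : H → ℂ) = (n : ℂ) * ζ := by
    rw [← hn, Chars.classInner_def, Chars.classInner_def, mul_assoc, Finset.sum_mul]
    congr 1
    refine Fintype.sum_equiv (Equiv.mulLeft (⟨x, S.mem⟩ : H)) _ _ fun c => ?_
    show (χ : G → ℂ) (x * (c : G)) * conj ((φ : H → ℂ) c) =
      (χ : G → ℂ) (x * (c : G)) * conj ((φ : H → ℂ) ((⟨x, S.mem⟩ : H) * c)) * ζ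
    rw [hφ, map_mul, ← Complex.inv_eq_conj (Complex.norm_eq_one_of_pow_eq_one hζ hp.out.ne_zero)]
    field_simp
  rw [he]
  exact mul_mem (natCast_mem _ _) (Subring.subset_closure (Or.inr hζ))

theorem map_blockCoeff (S : Once M p m K x σ H) {b : Set (IrrCharacter H)} (hb : IsPBlock M b)
    (c : H) : σ (blockCoeff b c) = blockCoeff b c := by
  classical
  by_cases hc : p ∣ orderOf c
  · rw [blockCoeff_eq_zero_of_dvd S.hpM hb hc, map_zero]
  have hcinv : ¬ p ∣ orderOf c⁻¹ := by rwa [orderOf_inv]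
  simp only [blockCoeff, finsum_mem_bf, map_mul, map_inv₀, map_natCast, map_sum]
  congr 1
  refine Finset.sum_congr rfl fun φ _ => ?_
  rw [← Chars.char_inv_eq_conj (Chars.irr_isCharacter φ),
    S.map_reg S.hcardH (Chars.irr_isCharacter φ) hcinv,
    S.map_reg S.hcardH (Chars.irr_isCharacter φ)
      (show ¬ p ∣ orderOf (1 : H) by rw [orderOf_one]; exact hp.out.not_dvd_one)]

/-- The part at the identity as a sum over the regular elements. -/
theorem dB_mul_one (S : Once M p m K x σ H) {b : Set (IrrCharacter H)} (hb : IsPBlock M b)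
    {θ : IrrCharacter H} (hθ : θ ∈ b) (hθx : (θ : H → ℂ) ⟨x, S.mem⟩ = (θ : H → ℂ) 1)
    (χ : IrrCharacter G) :
    dB x b χ * (θ : H → ℂ) 1 =
      ∑ c ∈ regs p H, blockCoeff b c * (χ : G → ℂ) (x * (c : G)) := by
  have h1 : ¬ p ∣ orderOf (1 : H) := by rw [orderOf_one]; exact hp.out.not_dvd_one
  rw [← secPart_eq_dB S hb hθ hθx χ h1, secPart_eq_coeff S.hH]
  simp only [mul_one]
  refine (Finset.sum_subset (Finset.subset_univ _) fun c _ hc => ?_).symm
  rw [blockCoeff_eq_zero_of_dvd S.hpM hb (not_not.1 fun h => hc (mem_regs.2 h)), zero_mul]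

/-- The automorphism acts on the decomposition numbers. -/
theorem map_dB (S : Once M p m K x σ H) {b : Set (IrrCharacter H)} (hb : IsPBlock M b)
    (χ : IrrCharacter G) : σ (dB x b χ) = dB x b (gal σ χ) := by
  obtain ⟨θ, hθ, hθx⟩ := S.exists_trivial hb
  have h1 : σ ((θ : H → ℂ) 1) = (θ : H → ℂ) 1 := by
    obtain ⟨n, -, hn⟩ := Chars.exists_irr_apply_one_eq θ.2
    rw [hn, map_natCast]
  refine mul_right_cancel₀ (Chars.irr_apply_one_ne_zero θ.2) ?_
  rw [dB_mul_one S hb hθ hθx]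
  conv_lhs => rw [← h1, ← map_mul, dB_mul_one S hb hθ hθx, map_sum]
  exact Finset.sum_congr rfl fun c _ => by rw [map_mul, map_blockCoeff S hb, gal_apply]

theorem iterate_dB (S : Once M p m K x σ H) {b : Set (IrrCharacter H)} (hb : IsPBlock M b)
    (χ : IrrCharacter G) (r : ℕ) : (⇑σ)^[r] (dB x b χ) = dB x b ((gal σ)^[r] χ) := by
  induction r with
  | zero => rfl
  | succ r ih => rw [Function.iterate_succ_apply', ih, map_dB S hb, Function.iterate_succ_apply']

theorem dB_eq_zero (S : Once M p m K x σ H) {b : Set (IrrCharacter H)}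
    {B : Set (IrrCharacter G)} (hind : IsInducedBlock M H b B) {χ : IrrCharacter G}
    (hχ : χ ∉ B) : dB x b χ = 0 := by
  obtain ⟨θ, hθ, hθx⟩ := S.exists_trivial hind.1
  have h1 : ¬ p ∣ orderOf (1 : H) := by rw [orderOf_one]; exact hp.out.not_dvd_one
  have h := secPart_eq_zero S.hH S.hu S.hpM hind hχ h1
  rw [secPart_eq_dB S hind.1 hθ hθx χ h1] at h
  exact (mul_eq_zero.1 h).resolve_right (Chars.irr_apply_one_ne_zero θ.2)

/-- The decomposition numbers are orthogonal. -/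
theorem sum_dB (S : Once M p m K x σ H) {b b' : Set (IrrCharacter H)}
    {B : Set (IrrCharacter G)} (hind : IsInducedBlock M H b B) (hb' : IsPBlock M b')
    [Decidable (b = b')] :
    ∑ χ ∈ bf B, dB x b χ * conj (dB x b' χ) = if b = b' then (p : ℂ) else 0 := by
  classical
  obtain ⟨θ, hθ, hθx⟩ := S.exists_trivial hind.1
  obtain ⟨θ', hθ', hθx'⟩ := S.exists_trivial hb'
  have h1 : ¬ p ∣ orderOf (1 : H) := by rw [orderOf_one]; exact hp.out.not_dvd_one
  have h := sum_sec_block S.hH S.hu S.hpM hind hb' h1 h1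
  simp only [secPart_eq_dB S hind.1 hθ hθx _ h1, secPart_eq_dB S hb' hθ' hθx' _ h1, map_mul] at h
  have hne : (θ : H → ℂ) 1 * conj ((θ' : H → ℂ) 1) ≠ 0 :=
    mul_ne_zero (Chars.irr_apply_one_ne_zero θ.2)
      ((map_ne_zero _).2 (Chars.irr_apply_one_ne_zero θ'.2))
  refine mul_right_cancel₀ hne ?_
  rw [Finset.sum_mul]
  refine ((Finset.sum_congr rfl fun χ _ => by ring).trans h).trans ?_
  obtain ⟨h2, h3, -⟩ := S.block_loc hind.1 hθ hθx
  split_ifs with e
  · subst e
    rw [(S.block_loc hind.1 hθ hθx).2.2 θ' hθ' hθx', kerB,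
      Finset.sum_congr rfl fun φ hφ => by rw [h2 φ (mem_bf.1 hφ) 1 h1], Finset.sum_const, nsmul_eq_mul]
    congr 1
    rw [bf, ← h3, Nat.card_coe_set_eq, Set.ncard_eq_toFinset_card']
    simp
  · ring

/-- The values on the section. -/
theorem value_section (S : Once M p m K x σ H) {B : Set (IrrCharacter G)} (hB : IsPBlock M B)
    {χ : IrrCharacter G} (hχ : χ ∈ B) {s : H} (hs : ¬ p ∣ orderOf s)
    [DecidablePred fun b => IsInducedBlock M H b B]
    (θ : Set (IrrCharacter H) → IrrCharacter H)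
    (hθ : ∀ b, IsPBlock M b → θ b ∈ b ∧ (θ b : H → ℂ) ⟨x, S.mem⟩ = (θ b : H → ℂ) 1) :
    (χ : G → ℂ) (x * (s : G)) =
      ∑ b ∈ (blockFinset M H).filter (fun b => IsInducedBlock M H b B),
        dB x b χ * (θ b : H → ℂ) s := by
  rw [← sum_sec_eq S.hH S.hu S.hpM χ s, Finset.sum_filter]
  refine Finset.sum_congr rfl fun b hb => ?_
  obtain ⟨h1, h2⟩ := hθ b (mem_blockFinset.1 hb)
  rw [secPart_eq_dB S (mem_blockFinset.1 hb) h1 h2 χ hs]
  split_ifs with hind
  · rfl
  · obtain ⟨B', hB'⟩ := induced_defined_sec S.hH S.hu S.hpM (mem_blockFinset.1 hb)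
    rw [dB_eq_zero S hB' fun h => hind ?_, zero_mul]
    rwa [← blocks_eq_of_inter hB'.2.1 hB h hχ]

theorem conj_ppart_of_mul (S : Once M p m K x σ H) {i : ℕ} (hi : ¬ p ∣ i) {c : H}
    (hc : ¬ p ∣ orderOf c) : ppart p (x ^ i * (c : G)) = x ^ i := by
  refine ppart_mul ((S.comm c).pow_left i) ⟨1, ?_⟩ (by rwa [Subgroup.orderOf_coe])
  rw [orderOf_pow, S.hx, (hp.out.coprime_iff_not_dvd.2 hi).gcd_eq_one, Nat.div_one, pow_one]

/-- Powers of `x` not conjugate to `x` give orthogonal decomposition numbers. -/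
theorem sum_dB_orth (S : Once M p m K x σ H) {b b' : Set (IrrCharacter H)} (hb : IsPBlock M b)
    (hb' : IsPBlock M b') {B : Set (IrrCharacter G)} (hB : IsPBlock M B) (r : ℕ)
    (hne : ¬ IsConj (x ^ K ^ r) x) :
    ∑ χ ∈ bf B, dB x b ((gal σ)^[r] χ) * conj (dB x b' χ) = 0 := by
  classical
  obtain ⟨θ, hθ, hθx⟩ := S.exists_trivial hb
  obtain ⟨θ', hθ', hθx'⟩ := S.exists_trivial hb'
  have hKr : ¬ p ∣ K ^ r := by
    intro h
    rw [← ZMod.natCast_eq_zero_iff, Nat.cast_pow] at h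
    have := eq_zero_of_pow_eq_zero h
    have h1 := S.hKpow
    rw [this, zero_pow (by have := hp.out.two_le; omega)] at h1
    exact zero_ne_one h1
  refine mul_right_cancel₀ (mul_ne_zero (Chars.irr_apply_one_ne_zero θ.2)
    ((map_ne_zero conj).2 (Chars.irr_apply_one_ne_zero θ'.2))) ?_
  rw [zero_mul, Finset.sum_mul]
  calc _ = ∑ χ ∈ bf B, ∑ c ∈ regs p H, ∑ c' ∈ regs p H, blockCoeff b c * conj (blockCoeff b' c') *
        ((χ : G → ℂ) (x ^ K ^ r * (c : G)) * conj ((χ : G → ℂ) (x * (c' : G)))) := by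
        refine Finset.sum_congr rfl fun χ _ => ?_
        rw [mul_mul_mul_comm, ← map_mul, dB_mul_one S hb hθ hθx, dB_mul_one S hb' hθ' hθx', map_sum,
          Finset.sum_mul_sum]
        refine Finset.sum_congr rfl fun c hc => Finset.sum_congr rfl fun c' _ => ?_
        have := S.gal_value χ r (x * (c : G))
        rw [show x * (c : G) = x ^ 1 * (c : G) by rw [pow_one], S.mul_pow_reg (mem_regs.1 hc),
          one_mul] at this
        rw [pow_one] at this
        rw [this, map_mul]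
        ring
    _ = 0 := by
        rw [Finset.sum_comm]
        refine Finset.sum_eq_zero fun c hc => ?_
        rw [Finset.sum_comm]
        refine Finset.sum_eq_zero fun c' hc' => ?_
        rw [← Finset.mul_sum, ← filter_eq_bf, block_orth S.hpM hB, mul_zero]
        rw [conj_ppart_of_mul S hKr (mem_regs.1 hc), show x * (c' : G) = x ^ 1 * (c' : G) by
          rw [pow_one], conj_ppart_of_mul S hp.out.not_dvd_one (mem_regs.1 hc'), pow_one]
        exact hne

/-- Conjugation by an element normalising the subgroup generated by `x`. -/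
theorem dB_conj (S : Once M p m K x σ H) {n : G} (hn : n ∈ Subgroup.normalizer (H : Set G))
    {r : ℕ} (hxr : n⁻¹ * x * n = x ^ K ^ r) {b : Set (IrrCharacter H)} (hb : IsPBlock M b)
    {θ θ' : IrrCharacter H} (hθ : θ ∈ b) (hθ' : θ' ∈ mapSet (normEquiv hn) b)
    (χ : IrrCharacter G) :
    dB x (mapSet (normEquiv hn) b) χ = dB x b ((gal σ)^[r] χ) ∧
      (θ' : H → ℂ) 1 = (θ : H → ℂ) 1 := by
  have hb' := isPBlock_mapSet (normEquiv hn) hb
  obtain ⟨θ₁, h11, h12⟩ := S.exists_trivial hb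
  obtain ⟨θ₂, h21, h22⟩ := S.exists_trivial hb'
  have hone : ¬ p ∣ orderOf (1 : H) := by rw [orderOf_one]; exact hp.out.not_dvd_one
  have hd : ∀ φ ∈ mapSet (normEquiv hn) b, (φ : H → ℂ) 1 = (θ₁ : H → ℂ) 1 := fun φ hφ => by
    have := (S.block_loc hb h11 h12).1 _ hφ 1 hone
    rwa [irrEquiv_apply, map_one] at this
  refine ⟨?_, by rw [hd θ' hθ', (S.block_loc hb h11 h12).1 θ hθ 1 hone]⟩
  refine mul_right_cancel₀ (Chars.irr_apply_one_ne_zero θ₁.2) ?_
  conv_lhs => rw [← hd θ₂ h21, dB_mul_one S hb' h21 h22]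
  rw [dB_mul_one S hb h11 h12]
  symm
  refine Finset.sum_equiv (normEquiv hn).toEquiv (fun c => ?_) fun c hc => ?_
  · simp only [mem_regs]
    rw [show (normEquiv hn).toEquiv c = normEquiv hn c from rfl, MulEquiv.orderOf_eq]
  · show _ = blockCoeff (mapSet (normEquiv hn) b) (normEquiv hn c) *
      (χ : G → ℂ) (x * ((normEquiv hn c : H) : G))
    rw [blockCoeff_mapSet, coe_normEquiv, S.gal_value χ r,
      show x * (c : G) = x ^ 1 * (c : G) by rw [pow_one], S.mul_pow_reg (mem_regs.1 hc), one_mul,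
      ← hxr]
    congr 1
    rw [← Chars.isClassFunction_irr χ (n⁻¹ * x * n * (c : G)) n]
    congr 1
    group

end Cfsg.Agent.Chars2.Cyc
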