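import Cfsg.Agent.Chars2.DefectOneBlocks
import Cfsg.Agent.BlockChar.RankBounds
import Mathlib.FieldTheory.Finite.Basic

/-!
When `p` divides the group order only once: the blocks of the centralizer inducing a block of
positive defect, and the dichotomy for the decomposition numbers along the powers of `x`.
-/

set_option autoImplicit false
set_option linter.unusedSectionVars false
set_option linter.style.haveILetI false

namespace Cfsg.Agent.Chars2.Cyc

open Cfsg Cfsg.Agent Cfsg.Agent.Blocks Cfsg.Agent.BlockChar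
open scoped ComplexConjugate Pointwise

universe u

variable {G : Type u} [Group G] [Fintype G]

theorem first_main_at {p : ℕ} [Fact p.Prime] {M : Ideal AlgInt} [M.IsMaximal]
    (hpM : (p : AlgInt) ∈ M) {B : Set (IrrCharacter G)} (hB : IsPBlock M B) {P L : Subgroup G}
    (hP : IsDefectGroup p M B P) (hL : L = P ⊔ Subgroup.centralizer (P : Set G)) :
    (∃ b : Set (IrrCharacter ↥L), IsInducedBlock M L b B) ∧
      ∀ b b' : Set (IrrCharacter ↥L), IsInducedBlock M L b B → IsInducedBlock M L b' B →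
        ∃ n, ∃ hn : n ∈ Subgroup.normalizer (L : Set G),
          n ∈ Subgroup.normalizer (P : Set G) ∧ mapSet (normEquiv hn) b' = b := by
  subst hL
  obtain ⟨⟨b, -, hb⟩, h⟩ := extended_first_main hpM hB hP
  exact ⟨⟨b, hb⟩, h⟩

variable {p m K : ℕ} [hp : Fact p.Prime] {M : Ideal AlgInt} [M.IsMaximal] {x : G}
  {σ : ℂ ≃+* ℂ} {H : Subgroup G}

namespace Once

theorem centralizer_zpowers (S : Once M p m K x σ H) :
    Subgroup.centralizer ((Subgroup.zpowers x : Subgroup G) : Set G) = H := by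
  rw [Subgroup.zpowers_eq_closure, Subgroup.centralizer_closure, S.hH]

theorem exists_pow_K (S : Once M p m K x σ H) {a : ZMod p} (ha : a ≠ 0) :
    ∃ r < p - 1, ((K : ℕ) : ZMod p) ^ r = a := by
  have hp1 : 0 < p - 1 := by have := hp.out.two_le; omega
  haveI : NeZero (p - 1) := ⟨hp1.ne'⟩
  have h : IsPrimitiveRoot ((K : ℕ) : ZMod p) (p - 1) := by
    rw [← S.ord]; exact IsPrimitiveRoot.orderOf _
  exact h.eq_pow_of_pow_eq_one (ZMod.pow_card_sub_one_eq_one ha)

theorem pow_eq_pow_iff' (S : Once M p m K x σ H) {i j : ℕ} :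
    x ^ i = x ^ j ↔ (i : ZMod p) = (j : ZMod p) := by
  rw [pow_eq_pow_iff_modEq, S.hx, ZMod.natCast_eq_natCast_iff]

theorem exists_pow_of_mem (S : Once M p m K x σ H) {y : G} (hy : y ∈ Subgroup.zpowers x)
    (hy1 : y ≠ 1) : ∃ r < p - 1, y = x ^ K ^ r := by
  classical
  rw [mem_zpowers_iff_mem_range_orderOf] at hy
  obtain ⟨i, hi, rfl⟩ := Finset.mem_image.1 hy
  have hi0 : (i : ZMod p) ≠ 0 := fun h => hy1 (by
    show x ^ i = 1
    rw [← pow_zero x, S.pow_eq_pow_iff', h, Nat.cast_zero])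
  obtain ⟨r, hr, he⟩ := S.exists_pow_K hi0
  exact ⟨r, hr, by show x ^ i = _; rw [S.pow_eq_pow_iff', Nat.cast_pow, he]⟩

theorem pow_ne_one (S : Once M p m K x σ H) (r : ℕ) : x ^ K ^ r ≠ 1 := by
  rw [← pow_zero x, Ne, S.pow_eq_pow_iff', Nat.cast_zero, Nat.cast_pow]
  refine pow_ne_zero r fun h => ?_
  have h1 := S.hKpow
  rw [h, zero_pow (by have := hp.out.two_le; omega)] at h1
  exact zero_ne_one h1

theorem zpowers_pow (S : Once M p m K x σ H) (r : ℕ) :
    Subgroup.zpowers (x ^ K ^ r) = Subgroup.zpowers x := by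
  refine Subgroup.eq_of_le_of_card_ge (Subgroup.zpowers_le.2 (Subgroup.pow_mem _
    (Subgroup.mem_zpowers x) _)) ?_
  rw [Nat.card_zpowers, Nat.card_zpowers, S.hx,
    orderOf_eq_prime (by rw [← pow_mul, pow_eq_one_iff_modEq, S.hx]; exact
      (Nat.modEq_zero_iff_dvd.2 (dvd_mul_left p _))) (S.pow_ne_one r)]

theorem mem_normalizer_of_conj (S : Once M p m K x σ H) {n : G} {r : ℕ}
    (h : n⁻¹ * x * n = x ^ K ^ r) :
    n ∈ Subgroup.normalizer ((Subgroup.zpowers x : Subgroup G) : Set G) := by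
  refine mem_normalizer_of_conjS_eq ?_
  show (Subgroup.zpowers x).map (MulAut.conj n).toMonoidHom = _
  conv_lhs => rw [← S.zpowers_pow r, MonoidHom.map_zpowers, ← h]
  simp [mul_assoc]

theorem mem_normalizer_H (S : Once M p m K x σ H) {n : G}
    (hn : n ∈ Subgroup.normalizer ((Subgroup.zpowers x : Subgroup G) : Set G)) :
    n ∈ Subgroup.normalizer (H : Set G) := by
  refine mem_normalizer_of_conjS_eq ?_
  rw [← S.centralizer_zpowers, conjS_centralizer, conjS_eq_self_of_mem_normalizer hn]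

theorem exists_conj_pow (S : Once M p m K x σ H) {n : G}
    (hn : n ∈ Subgroup.normalizer ((Subgroup.zpowers x : Subgroup G) : Set G)) :
    ∃ r < p - 1, n⁻¹ * x * n = x ^ K ^ r := by
  refine S.exists_pow_of_mem ?_ fun h => ?_
  · exact (Subgroup.mem_normalizer_iff.1 hn (n⁻¹ * x * n)).2
      (by simp [mul_assoc])
  · have : x = 1 := by simpa [mul_assoc] using congrArg (fun y => n * y * n⁻¹) h
    exact hp.out.ne_one (by rw [← S.hx, this, orderOf_one])

theorem exists_conj_of_order (S : Once M p m K x σ H) {y : G} (hy : orderOf y = p) :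
    ∃ a : G, a * y * a⁻¹ ∈ Subgroup.zpowers x := by
  classical
  have hcard : ∀ z : G, orderOf z = p →
      Nat.card (Subgroup.zpowers z) = p ^ (Nat.card G).factorization p := fun z hz => by
    rw [S.vG, pow_one, Nat.card_zpowers, hz]
  let P : Sylow p G := Sylow.ofCard _ (hcard y hy)
  let Q : Sylow p G := Sylow.ofCard _ (hcard x S.hx)
  obtain ⟨a, ha⟩ := MulAction.exists_smul_eq G P Q
  refine ⟨a, ?_⟩
  have h1 : MulAut.conj a • (P : Subgroup G) = (Q : Subgroup G) := by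
    rw [← ha]; rfl
  simp only [P, Q, Sylow.coe_ofCard] at h1
  rw [← h1]
  exact Subgroup.smul_mem_pointwise_smul y (MulAut.conj a) _ (Subgroup.mem_zpowers y)

/-- The `p`-singular elements up to conjugation. -/
theorem exists_singular_form (S : Once M p m K x σ H) {g : G} (hg : p ∣ orderOf g) :
    ∃ (a : G) (j : ℕ) (s : H), ¬ p ∣ orderOf s ∧ g = a * (x ^ K ^ j * (s : G)) * a⁻¹ := by
  obtain ⟨y, hy1, hy2, ⟨k, hk⟩, hy4⟩ := isPPart_ppart (p := p) g
  have hne : ppart p g ≠ 1 := fun h => ppart_one_iff.1 h hg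
  have hord : orderOf (ppart p g) = p := by
    have h1 : p ^ k ∣ Nat.card G := hk ▸ orderOf_dvd_natCard _
    have h2 := (Nat.Prime.pow_dvd_iff_le_factorization hp.out Nat.card_pos.ne').1 h1
    rw [S.vG] at h2
    interval_cases k
    · exact absurd (orderOf_eq_one_iff.1 (by rw [hk, pow_zero])) hne
    · rw [hk, pow_one]
  obtain ⟨a, ha⟩ := S.exists_conj_of_order hord
  obtain ⟨j, -, hj⟩ := S.exists_pow_of_mem ha (by
    intro h; exact hne (conj_eq_one_iff.1 h))
  have hc : Commute (x ^ K ^ j) (a * y * a⁻¹) := by rw [← hj]; exact hy2.map (MulAut.conj a)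
  have hmem : a * y * a⁻¹ ∈ H := by
    rw [← S.centralizer_zpowers, Subgroup.mem_centralizer_iff]
    intro w hw
    rw [SetLike.mem_coe, ← S.zpowers_pow j] at hw
    obtain ⟨i, rfl⟩ := hw
    exact (hc.zpow_left i).eq
  refine ⟨a⁻¹, j, ⟨_, hmem⟩, ?_, ?_⟩
  · rw [← Subgroup.orderOf_coe]
    show ¬ p ∣ orderOf ((MulAut.conj a) y)
    rwa [MulEquiv.orderOf_eq]
  · rw [← hj]
    show g = a⁻¹ * (a * ppart p g * a⁻¹ * (a * y * a⁻¹)) * a⁻¹⁻¹
    conv_lhs => rw [← hy1]
    group

theorem isDefectGroup_zpowers (S : Once M p m K x σ H) {B : Set (IrrCharacter G)}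
    (hB : IsPBlock M B) (hd : 0 < blockDefect p B) :
    blockDefect p B = 1 ∧ IsDefectGroup p M B (Subgroup.zpowers x) := by
  have h1 : blockDefect p B = 1 := by
    have := blockDefect_le (p := p) B
    rw [S.vG] at this
    omega
  refine ⟨h1, ?_⟩
  obtain ⟨D, hD⟩ := exists_isDefectGroup S.hpM hB
  have hc : Nat.card D = p := by rw [card_defectGroup S.hpM hB hD, h1, pow_one]
  obtain ⟨y, hy, hy1⟩ : ∃ y ∈ D, y ≠ 1 := by
    by_contra h
    push Not at h
    rw [(Subgroup.eq_bot_iff_forall D).2 h, Subgroup.card_bot] at hc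
    exact hp.out.ne_one hc.symm
  have hyo : orderOf y = p := by
    have := Subgroup.orderOf_dvd_natCard D hy
    rw [hc] at this
    exact ((Nat.dvd_prime hp.out).1 this).resolve_left (fun h => hy1 (orderOf_eq_one_iff.1 h))
  obtain ⟨a, ha⟩ := S.exists_conj_of_order hyo
  have hDy : Subgroup.zpowers y = D := Subgroup.eq_of_le_of_card_ge (Subgroup.zpowers_le.2 hy)
    (by rw [hc, Nat.card_zpowers, hyo])
  have := isDefectGroup_conj hD a
  convert this using 1
  rw [conjSub, ← hDy, MonoidHom.map_zpowers]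
  refine (Subgroup.eq_of_le_of_card_ge (Subgroup.zpowers_le.2 ha) ?_).symm
  rw [Nat.card_zpowers, Nat.card_zpowers, S.hx]
  show p ≤ orderOf ((MulAut.conj a) y)
  rw [MulEquiv.orderOf_eq, hyo]

theorem sup_eq_H (S : Once M p m K x σ H) :
    H = Subgroup.zpowers x ⊔
      Subgroup.centralizer ((Subgroup.zpowers x : Subgroup G) : Set G) := by
  rw [S.centralizer_zpowers, sup_eq_right.2 (Subgroup.zpowers_le.2 S.mem)]

variable [Fintype H]

/-- Every character of a block of positive defect has degree prime to `p`. -/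
theorem degree_not_dvd (S : Once M p m K x σ H) {B : Set (IrrCharacter G)} (hB : IsPBlock M B)
    (hd : 0 < blockDefect p B) {χ : IrrCharacter G} (hχ : χ ∈ B) :
    ¬ p ∣ charDegree (χ : G → ℂ) := by
  obtain ⟨h1, -⟩ := S.isDefectGroup_zpowers hB hd
  have hsum := sum_height_sq S.hpM hB
  rw [h1] at hsum
  have h0 : blockHeight p B (χ : G → ℂ) = 0 := by
    by_contra hne
    obtain ⟨η, hη, hη0⟩ := exists_height_zero (p := p) hB
    have hne' : η ≠ χ := fun e => hne (e ▸ hη0)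
    have h2 : p ^ (2 * blockHeight p B (η : G → ℂ)) + p ^ (2 * blockHeight p B (χ : G → ℂ)) ≤
        ∑ ψ ∈ bf B, p ^ (2 * blockHeight p B (ψ : G → ℂ)) := by
      classical
      rw [← Finset.sum_pair (f := fun ψ : IrrCharacter G => p ^ (2 * blockHeight p B (ψ : G → ℂ))) hne']
      exact Finset.sum_le_sum_of_subset (by
        intro ψ hψ
        rcases Finset.mem_insert.1 hψ with rfl | hψ
        · exact mem_bf.2 hη
        · rw [Finset.mem_singleton.1 hψ]; exact mem_bf.2 hχ)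
    rw [hη0, mul_zero, pow_zero] at h2
    have h3 : p ^ (2 * 1) ≤ p ^ (2 * blockHeight p B (χ : G → ℂ)) :=
      Nat.pow_le_pow_right hp.out.pos (by omega)
    have h4 : 4 ≤ p ^ (2 * 1) :=
      le_trans (le_of_eq (by norm_num)) (Nat.pow_le_pow_left hp.out.two_le (2 * 1))
    omega
  intro hdvd
  have h2 := degree_eq_height S.hpM hB hχ
  rw [h0, h1, S.vG] at h2
  have h3 := hp.out.factorization_pos_of_dvd (charDegree_eq χ.2).2.ne' hdvd
  omega

theorem exists_induced (S : Once M p m K x σ H) {B : Set (IrrCharacter G)} (hB : IsPBlock M B)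
    (hd : 0 < blockDefect p B) : ∃ b : Set (IrrCharacter H), IsInducedBlock M H b B :=
  (first_main_at S.hpM hB (S.isDefectGroup_zpowers hB hd).2 S.sup_eq_H).1

/-- The decomposition numbers of the other blocks inducing `B`. -/
theorem induced_conj (S : Once M p m K x σ H) {B : Set (IrrCharacter G)}
    (hd : 0 < blockDefect p B) {b₀ b : Set (IrrCharacter H)} (hind₀ : IsInducedBlock M H b₀ B)
    (hind : IsInducedBlock M H b B) {θ₀ θ : IrrCharacter H} (hθ₀ : θ₀ ∈ b₀) (hθ : θ ∈ b) :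
    ∃ r < p - 1, (∀ χ, dB x b χ = dB x b₀ ((gal σ)^[r] χ)) ∧
      (θ : H → ℂ) 1 = (θ₀ : H → ℂ) 1 := by
  obtain ⟨n, hn, hnP, rfl⟩ :=
    (first_main_at S.hpM hind₀.2.1 (S.isDefectGroup_zpowers hind₀.2.1 hd).2 S.sup_eq_H).2
      b b₀ hind hind₀
  obtain ⟨r, hr, hxr⟩ := S.exists_conj_pow hnP
  exact ⟨r, hr, fun χ => (dB_conj S hn hxr hind₀.1 hθ₀ hθ χ).1,
    (dB_conj S hn hxr hind₀.1 hθ₀ hθ (oneChar G)).2⟩

/-- Either a power map fixes the decomposition numbers or moves them to orthogonal ones. -/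
theorem dichotomy (S : Once M p m K x σ H) {B : Set (IrrCharacter G)} {b₀ : Set (IrrCharacter H)}
    (hind : IsInducedBlock M H b₀ B) (r : ℕ) :
    ((∀ χ, dB x b₀ ((gal σ)^[r] χ) = dB x b₀ χ) ∧
      ∃ n, ∃ hn : n ∈ Subgroup.normalizer (H : Set G),
        n⁻¹ * x * n = x ^ K ^ r ∧ mapSet (normEquiv hn) b₀ = b₀) ∨
    ((∑ χ ∈ bf B, dB x b₀ ((gal σ)^[r] χ) * conj (dB x b₀ χ) = 0) ∧
      ∀ n, ∀ hn : n ∈ Subgroup.normalizer (H : Set G),
        n⁻¹ * x * n = x ^ K ^ r → mapSet (normEquiv hn) b₀ ≠ b₀) := by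
  classical
  obtain ⟨θ₀, hθ₀, hθ₀x⟩ := S.exists_trivial hind.1
  by_cases hex : ∃ n, ∃ hn : n ∈ Subgroup.normalizer (H : Set G),
      n⁻¹ * x * n = x ^ K ^ r ∧ mapSet (normEquiv hn) b₀ = b₀
  · refine Or.inl ⟨fun χ => ?_, hex⟩
    obtain ⟨n, hn, hxr, he⟩ := hex
    have := (dB_conj S hn hxr hind.1 hθ₀ (θ' := θ₀) (by rw [he]; exact hθ₀) χ).1
    rw [he] at this
    exact this.symm
  push Not at hex
  refine Or.inr ⟨?_, hex⟩
  by_cases hc : IsConj (x ^ K ^ r) x
  · obtain ⟨c, hc⟩ := isConj_iff.1 hc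
    have hxr : c⁻¹ * x * c = x ^ K ^ r := by
      rw [mul_assoc, inv_mul_eq_iff_eq_mul, ← mul_inv_eq_iff_eq_mul.1 hc]
    have hn := S.mem_normalizer_H (S.mem_normalizer_of_conj hxr)
    have hb' := isPBlock_mapSet (M := M) (normEquiv hn) hind.1
    obtain ⟨θ', hθ'⟩ := block_nonempty hb'
    have h0 := congrArg conj (sum_dB S hind hb')
    rw [if_neg fun e => hex c hn hxr e.symm, map_sum, map_zero] at h0
    rw [← h0]
    refine Finset.sum_congr rfl fun χ _ => ?_
    rw [map_mul, Complex.conj_conj, (dB_conj S hn hxr hind.1 hθ₀ hθ' χ).1, mul_comm]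
  · exact sum_dB_orth S hind.1 hind.1 hind.2.1 r hc

end Once

end Cfsg.Agent.Chars2.Cyc
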