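import Cfsg.Agent.Chars2.DefectOneLocal
import Cfsg.Agent.Chars2.BlockGraph
import Cfsg.Agent.Chars.GaloisValues

/-!
The structure of a block of positive defect when `p` divides the group order only once.
-/

set_option autoImplicit false
set_option linter.unusedSectionVars false
set_option linter.style.haveILetI false

namespace Cfsg.Agent.Chars2.Cyc

open Cfsg Cfsg.Agent Cfsg.Agent.Blocks Cfsg.Agent.BlockChar Function
open scoped ComplexConjugate

universe u

variable {G : Type u} [Group G] [Fintype G]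

/-- The exceptional family `Y`, its size `t`, the signs `W`, and what they satisfy. -/
structure OneShape (M : Ideal AlgInt) (p : ℕ) (x : G) (σ : ℂ ≃+* ℂ) {H : Subgroup G} [Fintype H]
    (B : Set (IrrCharacter G)) (b₀ : Set (IrrCharacter H)) (c : ℕ) where
  /-- The size of the exceptional family. -/
  t : ℕ
  /-- The exceptional family. -/
  Y : Set (IrrCharacter G)
  /-- The signs. -/
  W : IrrCharacter G → ℤ
  t_pos : 0 < t
  t_dvd : t ∣ p - 1
  period : ∀ r : ℕ, (∀ χ, dB x b₀ ((gal σ)^[r] χ) = dB x b₀ χ) ↔ t ∣ r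
  Y_sub : Y ⊆ B
  card_Y : Nat.card Y = t
  card_X : Nat.card (B \ Y : Set (IrrCharacter G)) = (p - 1) / t
  orbit : ∀ θ ∈ Y, ∀ ψ, (∃ r, (gal σ)^[r] θ = ψ) ↔ ψ ∈ Y
  fixed : ∀ χ ∈ B, χ ∉ Y → gal σ χ = χ
  sign : ∀ χ ∈ B, W χ = 1 ∨ W χ = -1
  sign_Y : ∀ θ ∈ Y, ∀ θ' ∈ Y, W θ = W θ'
  dB_X : ∀ χ ∈ B, χ ∉ Y → dB x b₀ χ = (W χ : ℂ)
  degree_X : ∀ χ ∈ B, χ ∉ Y → (charDegree (χ : G → ℂ) : ℤ) ≡ (c : ℤ) * W χ [ZMOD p]
  degree_Y : ∀ θ ∈ Y,
    (charDegree (θ : G → ℂ) : ℤ) ≡ -((((p - 1) / t : ℕ) : ℤ) * c * W θ) [ZMOD p]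
  relation : ∀ g : G, ¬ p ∣ orderOf g → ∀ θ ∈ Y,
    (∑ᶠ χ ∈ B \ Y, (W χ : ℂ) * (χ : G → ℂ) g) + (W θ : ℂ) * (θ : G → ℂ) g = 0
  rank : blockRank p B = (p - 1) / t
  fixed_t : ∀ χ ∈ B, (gal σ)^[t] χ = χ
  dB_Y : ∀ θ ∈ Y, ∑ j ∈ Finset.range t, dB x b₀ ((gal σ)^[j] θ) = (W θ : ℂ)

variable {p m K : ℕ} [hp : Fact p.Prime] {M : Ideal AlgInt} [M.IsMaximal] {x : G}
  {σ : ℂ ≃+* ℂ} {H : Subgroup G}

theorem sum_range_periodic {β : Type*} [AddCommMonoid β] {f : ℕ → β} {a : ℕ}
    (hf : ∀ i, f (i + a) = f i) (q : ℕ) :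
    ∑ i ∈ Finset.range (q * a), f i = q • ∑ i ∈ Finset.range a, f i := by
  induction q with
  | zero => simp
  | succ q ih =>
    rw [add_mul, one_mul, Finset.sum_range_add, ih, succ_nsmul]
    congr 1
    refine Finset.sum_congr rfl fun i _ => ?_
    clear ih
    induction q with
    | zero => rw [zero_mul, zero_add]
    | succ q ihq => rw [add_mul, one_mul, add_right_comm, hf, ihq]

namespace Once

theorem period_dvd (S : Once M p m K x σ H) (χ : IrrCharacter G) :
    minimalPeriod (gal σ) χ ∣ p - 1 :=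
  IsPeriodicPt.minimalPeriod_dvd (gal_iterate_fix S.hm S.hexp S.hσ S.hk S.hKpow χ)

theorem period_pos (S : Once M p m K x σ H) (χ : IrrCharacter G) :
    0 < minimalPeriod (gal σ) χ :=
  Nat.pos_of_dvd_of_pos (S.period_dvd χ) (by have := hp.out.two_le; omega)

theorem period_gal (S : Once M p m K x σ H) (χ : IrrCharacter G) :
    minimalPeriod (gal σ) (gal σ χ) = minimalPeriod (gal σ) χ :=
  minimalPeriod_apply (mem_periodicPts.2 ⟨p - 1, by have := hp.out.two_le; omega,
    gal_iterate_fix S.hm S.hexp S.hσ S.hk S.hKpow χ⟩)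

theorem iterate_mem_block (S : Once M p m K x σ H) {B : Set (IrrCharacter G)} (hB : IsPBlock M B)
    (r : ℕ) {χ : IrrCharacter G} : (gal σ)^[r] χ ∈ B ↔ χ ∈ B := by
  induction r generalizing χ with
  | zero => rfl
  | succ r ih =>
    rw [iterate_succ_apply, ih, gal_mem_block S.hm S.hpM S.hexp S.hσ hB]

theorem value_one_congr (S : Once M p m K x σ H) (χ : IrrCharacter G) :
    MemLocalIdeal M ((χ : G → ℂ) x - (χ : G → ℂ) 1) := by
  obtain ⟨n, ρ, hρ⟩ := Chars.irr_isCharacter χ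
  rw [← hρ]
  obtain ⟨z, hz, hc, -, -⟩ := Chars.exists_eigenvalues ρ x
  have h1 : ρ.character x = ∑ i, z i := by simpa using hc 1
  have h0 : ρ.character 1 = ∑ _i : Fin (Module.finrank ℂ (Fin n → ℂ)), (1 : ℂ) := by
    simpa using hc 0
  rw [h1, h0, ← Finset.sum_sub_distrib]
  refine memI_sum _ _ fun i _ => ?_
  obtain ⟨j, -, hj⟩ := isPrimitiveRoot_zetaP.eq_pow_of_pow_eq_one
    (show z i ^ p = 1 by rw [← S.hx]; exact hz i)
  rw [← hj]
  exact (zetaP_pow_congr S.hpM j).2

variable [Fintype H]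

/-- The decomposition numbers are congruent along an orbit. -/
theorem dB_congr (S : Once M p m K x σ H) {b : Set (IrrCharacter H)} (hb : IsPBlock M b)
    (χ : IrrCharacter G) (r : ℕ) :
    MemLocalIdeal M (dB x b ((gal σ)^[r] χ) - dB x b χ) := by
  rw [← iterate_dB S hb]
  have h : dB x b χ ∈ cS p m := cS_mono (one_dvd m) (dB_mem S b χ)
  exact (iterate_congr_memR S.hm S.hpM S.hσ r (cS_le_cL h) (memR_of_mem_cS S.hm0 h)).2

theorem dB_memR (S : Once M p m K x σ H) (b : Set (IrrCharacter H)) (χ : IrrCharacter G) :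
    MemLocalRing M (dB x b χ) := memR_of_mem_cS one_ne_zero (dB_mem S b χ)

/-- The orbit sums of the decomposition numbers are rational integers. -/
theorem exists_orbit_int (S : Once M p m K x σ H) {b : Set (IrrCharacter H)} (hb : IsPBlock M b) :
    ∃ W : IrrCharacter G → ℤ,
      (∀ χ, (W χ : ℂ) = ∑ j ∈ Finset.range (minimalPeriod (gal σ) χ), dB x b ((gal σ)^[j] χ)) ∧
      ∀ χ, W (gal σ χ) = W χ := by
  set f := gal (G := G) σ
  set F : IrrCharacter G → ℂ := fun χ =>
    ∑ j ∈ Finset.range (minimalPeriod f χ), dB x b (f^[j] χ) with hF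
  have hshift : ∀ χ, ∑ j ∈ Finset.range (minimalPeriod f χ), dB x b (f^[j + 1] χ) = F χ := by
    intro χ
    have h1 := Finset.sum_range_succ' (fun j => dB x b (f^[j] χ)) (minimalPeriod f χ)
    rw [Finset.sum_range_succ, iterate_minimalPeriod] at h1
    simp only [iterate_zero_apply] at h1
    exact (add_right_cancel h1).symm
  have hgal : ∀ χ, F (f χ) = F χ := fun χ => by
    rw [← hshift χ, hF]
    simp only [show minimalPeriod f (f χ) = minimalPeriod f χ from S.period_gal χ, iterate_succ_apply]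
  have hfix : ∀ χ, σ (F χ) = F χ := fun χ => by
    conv_rhs => rw [← hshift χ]
    rw [hF, map_sum]
    exact Finset.sum_congr rfl fun j _ => by rw [map_dB S hb, iterate_succ_apply' f]
  have hmem : ∀ χ, F χ ∈ cS p 1 := fun χ => sum_mem fun j _ => dB_mem S b _
  have hint : ∀ χ, ∃ z : ℤ, F χ = z := fun χ => by
    refine Chars.exists_int_of_fixed (isIntegral_of_mem_cS one_ne_zero (hmem χ)) fun τ => ?_
    have hprim := (isPrimitiveRoot_zetaP (p := p)).map_of_injective (f := τ) τ.injective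
    obtain ⟨a, -, ha⟩ := isPrimitiveRoot_zetaP.eq_pow_of_pow_eq_one hprim.pow_eq_one
    have ha0 : (a : ZMod p) ≠ 0 := fun h => by
      obtain ⟨q, rfl⟩ := (ZMod.natCast_eq_zero_iff a p).1 h
      rw [pow_mul, isPrimitiveRoot_zetaP.pow_eq_one, one_pow] at ha
      exact hp.out.ne_one (hprim.eq_orderOf.trans (by rw [← ha, orderOf_one]))
    obtain ⟨j, -, hj⟩ := S.exists_pow_K ha0
    have hz : τ (zetaP p) = powAut σ j (zetaP p) := by
      rw [powAut_zetaP S.hk, ← ha, pow_eq_pow_mod a isPrimitiveRoot_zetaP.pow_eq_one,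
        pow_eq_pow_mod (K ^ j) isPrimitiveRoot_zetaP.pow_eq_one,
        (ZMod.natCast_eq_natCast_iff _ _ _).1 (by rw [Nat.cast_pow, hj] : ((K ^ j : ℕ) : ZMod p) = a)]
    rw [aut_eq_on_cL (m := 1) (fun z hz => by rw [pow_one] at hz; rw [hz, map_one, map_one]) hz
      (cS_le_cL (hmem χ)), powAut_apply]
    exact iterate_fixed (hfix χ) j
  choose W hW using hint
  refine ⟨W, fun χ => (hW χ).symm, fun χ => ?_⟩
  have h := hgal χ
  rw [hW, hW] at h
  exact_mod_cast h

/-- The numbers along a period are orthogonal. -/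
theorem sum_period (S : Once M p m K x σ H) {B : Set (IrrCharacter G)} {b₀ : Set (IrrCharacter H)}
    (hind : IsInducedBlock M H b₀ B) {t : ℕ}
    (hmin : ∀ r, 0 < r → r < t → ∃ χ, dB x b₀ ((gal σ)^[r] χ) ≠ dB x b₀ χ) {r r' : ℕ}
    (hr : r < t) (hr' : r' < t) :
    ∑ χ ∈ bf B, dB x b₀ ((gal σ)^[r] χ) * conj (dB x b₀ ((gal σ)^[r'] χ)) =
      if r = r' then (p : ℂ) else 0 := by
  classical
  have key : ∀ a c, c ≤ a → a < t →
      ∑ χ ∈ bf B, dB x b₀ ((gal σ)^[a] χ) * conj (dB x b₀ ((gal σ)^[c] χ)) =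
        if a = c then (p : ℂ) else 0 := by
    intro a c hca hat
    have h1 : ∑ χ ∈ bf B, dB x b₀ ((gal σ)^[a] χ) * conj (dB x b₀ ((gal σ)^[c] χ)) =
        ∑ χ ∈ bf B, dB x b₀ ((gal σ)^[a - c] χ) * conj (dB x b₀ χ) := by
      refine Finset.sum_equiv ((gal σ) ^ c) (fun χ => ?_) fun χ _ => ?_
      · rw [Equiv.Perm.coe_pow, mem_bf, mem_bf, S.iterate_mem_block hind.2.1]
      · rw [Equiv.Perm.coe_pow, ← iterate_add_apply, Nat.sub_add_cancel hca]
    rw [h1]
    split_ifs with e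
    · subst e
      rw [Nat.sub_self]
      simp only [iterate_zero_apply]
      rw [sum_dB S hind hind.1, if_pos rfl]
    · rcases S.dichotomy hind (a - c) with ⟨h, -⟩ | ⟨h, -⟩
      · obtain ⟨χ, hχ⟩ := hmin (a - c) (by omega) (by omega)
        exact absurd (h χ) hχ
      · exact h
  rcases le_total r' r with h | h
  · exact key r r' h hr
  · have := congrArg conj (key r' r h hr')
    rw [map_sum, apply_ite conj, map_natCast, map_zero] at this
    simp only [map_mul, Complex.conj_conj] at this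
    rw [Finset.sum_congr rfl fun χ _ => mul_comm _ _, this]
    exact if_congr eq_comm rfl rfl

/-- The shape of the block. -/
theorem exists_shape (S : Once M p m K x σ H) {B : Set (IrrCharacter G)}
    (hd : 0 < blockDefect p B) {b₀ : Set (IrrCharacter H)} (hind : IsInducedBlock M H b₀ B)
    {θ₀ : IrrCharacter H} (hθ₀ : θ₀ ∈ b₀) [DecidablePred fun b => IsInducedBlock M H b B] :
    Nonempty (OneShape M p x σ B b₀
      (((blockFinset M H).filter fun b => IsInducedBlock M H b B).card *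
        charDegree (θ₀ : H → ℂ))) := by
  classical
  have hB := hind.2.1
  have hp1 : 0 < p - 1 := by have := hp.out.two_le; omega
  set f := gal (G := G) σ with hf
  set d : IrrCharacter G → ℂ := dB x b₀ with hd'
  set ns := (blockFinset M H).filter fun b => IsInducedBlock M H b B with hns
  set c := ns.card * charDegree (θ₀ : H → ℂ) with hc
  have hdeg : ∀ χ ∈ B, ¬ p ∣ charDegree (χ : G → ℂ) := fun χ hχ => S.degree_not_dvd hB hd hχ
  -- the least period
  have hPex : ∃ r, 0 < r ∧ ∀ χ, d (f^[r] χ) = d χ :=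
    ⟨p - 1, hp1, fun χ => by rw [hf, gal_iterate_fix S.hm S.hexp S.hσ S.hk S.hKpow]⟩
  set t := Nat.find hPex with ht
  obtain ⟨ht0, htper⟩ := Nat.find_spec hPex
  rw [← ht] at ht0 htper
  have hmin : ∀ r, 0 < r → r < t → ∃ χ, d (f^[r] χ) ≠ d χ := fun r h1 h2 => by
    have := Nat.find_min hPex (ht ▸ h2)
    push Not at this
    exact this h1
  have hper' : ∀ q r χ, d (f^[q * t + r] χ) = d (f^[r] χ) := by
    intro q r
    induction q with
    | zero => intro χ; rw [zero_mul, zero_add]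
    | succ q ih => intro χ; rw [show (q + 1) * t + r = t + (q * t + r) by ring, iterate_add_apply, htper, ih]
  have hmod : ∀ r χ, d (f^[r] χ) = d (f^[r % t] χ) := fun r χ => by
    conv_lhs => rw [← Nat.div_add_mod r t, mul_comm t, hper']
  have hperiod : ∀ r, (∀ χ, d (f^[r] χ) = d χ) ↔ t ∣ r := by
    intro r
    refine ⟨fun h => ?_, fun h χ => ?_⟩
    · refine Nat.dvd_of_mod_eq_zero (by_contra fun hne => ?_)
      obtain ⟨χ, hχ⟩ := hmin (r % t) (by omega) (Nat.mod_lt _ ht0)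
      exact hχ (by rw [← hmod]; exact h χ)
    · rw [hmod, Nat.eq_zero_of_dvd_of_lt (by rw [Nat.dvd_mod_iff dvd_rfl]; exact h)
        (Nat.mod_lt r ht0), iterate_zero_apply]
  have htdvd : t ∣ p - 1 := (hperiod _).1 fun χ => by
    rw [hf, gal_iterate_fix S.hm S.hexp S.hσ S.hk S.hKpow]
  -- the values on the section
  choose θ hθ1 hθ2 using fun b : {b : Set (IrrCharacter H) // IsPBlock M b} => S.exists_trivial b.2
  let θf : Set (IrrCharacter H) → IrrCharacter H := fun b =>
    if h : IsPBlock M b then θ ⟨b, h⟩ else oneChar H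
  have hθf : ∀ b, IsPBlock M b →
      θf b ∈ b ∧ (θf b : H → ℂ) ⟨x, S.mem⟩ = (θf b : H → ℂ) 1 := fun b hb => by
    simp only [θf, dif_pos hb]
    exact ⟨hθ1 ⟨b, hb⟩, hθ2 ⟨b, hb⟩⟩
  have hconj : ∀ b : Set (IrrCharacter H), ∃ r, IsInducedBlock M H b B →
      (∀ χ, dB x b χ = d (f^[r] χ)) ∧ (θf b : H → ℂ) 1 = (θ₀ : H → ℂ) 1 := fun b => by
    by_cases hb : IsInducedBlock M H b B
    · obtain ⟨r, -, h⟩ := S.induced_conj hd hind hb hθ₀ (hθf b hb.1).1
      exact ⟨r, fun _ => h⟩
    · exact ⟨0, fun h => absurd h hb⟩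
  choose rb hrb using hconj
  have hval : ∀ χ ∈ B, ∀ (j : ℕ) (s : H), ¬ p ∣ orderOf s → (χ : G → ℂ) (x ^ K ^ j * (s : G)) =
      ∑ b ∈ ns, d (f^[rb b + j] χ) * (θf b : H → ℂ) s := by
    intro χ hχ j s hs
    have h1 : (χ : G → ℂ) (x ^ K ^ j * (s : G)) = (f^[j] χ : G → ℂ) (x * (s : G)) := by
      rw [S.gal_value χ j, show x * (s : G) = x ^ 1 * (s : G) by rw [pow_one], S.mul_pow_reg hs,
        one_mul]
    rw [h1, value_section S hB ((S.iterate_mem_block hB j).2 hχ) hs θf hθf]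
    refine Finset.sum_congr rfl fun b hb => ?_
    rw [(hrb b (Finset.mem_filter.1 hb).2).1, ← iterate_add_apply]
  -- the orbits have length dividing `t`
  have hfix : ∀ χ ∈ B, f^[t] χ = χ := by
    intro χ hχ
    refine Subtype.ext (funext fun g => ?_)
    by_cases hg : p ∣ orderOf g
    · obtain ⟨a, j, s, hs, rfl⟩ := S.exists_singular_form hg
      rw [Chars.isClassFunction_irr _ (x ^ K ^ j * (s : G)) a,
        Chars.isClassFunction_irr _ (x ^ K ^ j * (s : G)) a, hval _ ((S.iterate_mem_block hB t).2 hχ)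
        j s hs, hval χ hχ j s hs]
      refine Finset.sum_congr rfl fun b _ => ?_
      rw [← iterate_add_apply, show rb b + j + t = t + (rb b + j) by ring, iterate_add_apply, htper]
    · exact S.gal_reg χ t hg
  have hpd : ∀ χ ∈ B, minimalPeriod f χ ∣ t := fun χ hχ =>
    IsPeriodicPt.minimalPeriod_dvd (hfix χ hχ)
  obtain ⟨W, hW, hWgal⟩ := S.exists_orbit_int hind.1
  have hWiter : ∀ j χ, W (f^[j] χ) = W χ := fun j χ => by
    induction j with
    | zero => rfl
    | succ j ih => rw [iterate_succ_apply', hWgal, ih]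
  -- the sum over a full period
  have hD : ∀ χ ∈ B, ∑ r ∈ Finset.range t, d (f^[r] χ) =
      (((t / minimalPeriod f χ : ℕ) : ℤ) * W χ : ℤ) := by
    intro χ hχ
    have h := sum_range_periodic (f := fun r => d (f^[r] χ)) (a := minimalPeriod f χ)
      (fun i => by rw [iterate_add_apply, iterate_minimalPeriod]) (t / minimalPeriod f χ)
    rw [Nat.div_mul_cancel (hpd χ hχ), nsmul_eq_mul] at h
    rw [h, Int.cast_mul, Int.cast_natCast, hW]
  have hsq : ∑ χ ∈ bf B, (((t / minimalPeriod f χ : ℕ) : ℤ) * W χ) ^ 2 = (t : ℤ) * p := by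
    have h : ((∑ χ ∈ bf B, (((t / minimalPeriod f χ : ℕ) : ℤ) * W χ) ^ 2 : ℤ) : ℂ) =
        (((t : ℤ) * p : ℤ) : ℂ) := by
      calc _ = ∑ χ ∈ bf B, (∑ r ∈ Finset.range t, d (f^[r] χ)) *
            conj (∑ r ∈ Finset.range t, d (f^[r] χ)) := by
            rw [Int.cast_sum]
            refine Finset.sum_congr rfl fun χ hχ => ?_
            rw [hD χ (mem_bf.1 hχ), map_intCast, Int.cast_pow, sq]
        _ = ∑ r ∈ Finset.range t, ∑ r' ∈ Finset.range t,
              ∑ χ ∈ bf B, d (f^[r] χ) * conj (d (f^[r'] χ)) := by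
            simp only [map_sum, Finset.sum_mul_sum]
            rw [Finset.sum_comm]
            exact Finset.sum_congr rfl fun r _ => Finset.sum_comm
        _ = ∑ r ∈ Finset.range t, (p : ℂ) := Finset.sum_congr rfl fun r hr => by
            rw [Finset.sum_congr rfl fun r' hr' => S.sum_period hind hmin
              (Finset.mem_range.1 hr) (Finset.mem_range.1 hr'), Finset.sum_ite_eq, if_pos hr]
        _ = _ := by simp
    exact Int.cast_injective h
  obtain ⟨R, hRB, hRinj, hRex, hRsum⟩ := exists_orbit_reps f (bf B) (fun χ => by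
    rw [mem_bf, mem_bf, hf, gal_mem_block S.hm S.hpM S.hexp S.hσ hB])
  have hRB' : ∀ i ∈ R, i ∈ B := fun i hi => mem_bf.1 (hRB i hi)
  have hperiter : ∀ j χ, minimalPeriod f (f^[j] χ) = minimalPeriod f χ := fun j χ => by
    induction j with
    | zero => rfl
    | succ j ih => rw [iterate_succ_apply', hf, S.period_gal, ← hf, ih]
  have hsqR : ∑ i ∈ R, ((t / minimalPeriod f i : ℕ) : ℤ) * W i ^ 2 = p := by
    have h := hRsum fun χ => (((((t / minimalPeriod f χ : ℕ) : ℤ) * W χ) ^ 2 : ℤ) : ℂ)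
    simp only [hWiter, hperiter, Finset.sum_const, Finset.card_range, nsmul_eq_mul] at h
    have h' : (∑ χ ∈ bf B, (((t / minimalPeriod f χ : ℕ) : ℤ) * W χ) ^ 2) =
        ∑ i ∈ R, (minimalPeriod f i : ℤ) * (((t / minimalPeriod f i : ℕ) : ℤ) * W i) ^ 2 := by
      apply Int.cast_injective (α := ℂ)
      push_cast at h ⊢
      exact h
    rw [hsq] at h'
    refine mul_left_cancel₀ (show (t : ℤ) ≠ 0 by exact_mod_cast ht0.ne') ?_
    rw [h', Finset.mul_sum]
    refine Finset.sum_congr rfl fun i hi => ?_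
    have := Nat.mul_div_cancel' (hpd i (hRB' i hi))
    set a := minimalPeriod f i
    set q := t / a
    rw [show (t : ℤ) = (a : ℤ) * q by exact_mod_cast this.symm]
    ring
  -- the congruence
  have hcongr : ∀ χ ∈ B, (p : ℤ) ∣
      (minimalPeriod f χ : ℤ) * charDegree (χ : G → ℂ) - (c : ℤ) * W χ := by
    intro χ hχ
    rw [← memI_intCast_iff (M := M) S.hpM]
    have h1 : (χ : G → ℂ) x = ∑ b ∈ ns, d (f^[rb b] χ) * (θf b : H → ℂ) 1 := by
      have h := hval χ hχ 0 1 (by rw [orderOf_one]; exact hp.out.not_dvd_one)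
      simpa using h
    have hθ0 : ∀ b ∈ ns, (θf b : H → ℂ) 1 = (charDegree (θ₀ : H → ℂ) : ℂ) := fun b hb => by
      rw [(hrb b (Finset.mem_filter.1 hb).2).2, (Blocks.charDegree_eq θ₀.2).1]
    have h2 : MemLocalIdeal M ((charDegree (χ : G → ℂ) : ℂ) - (c : ℂ) * d χ) := by
      have h3 : MemLocalIdeal M ((χ : G → ℂ) x - (c : ℂ) * d χ) := by
        rw [h1, Finset.sum_congr rfl fun b hb => by rw [hθ0 b hb], hc, Nat.cast_mul,
          show (ns.card : ℂ) * (charDegree (θ₀ : H → ℂ) : ℂ) * d χ =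
            ∑ _b ∈ ns, d χ * (charDegree (θ₀ : H → ℂ) : ℂ) by
              rw [Finset.sum_const, nsmul_eq_mul]; ring, ← Finset.sum_sub_distrib]
        refine memI_sum _ _ fun b _ => ?_
        rw [← sub_mul]
        exact memI_mul_right (S.dB_congr hind.1 χ (rb b)) (memR_natCast _)
      rw [← (Blocks.charDegree_eq χ.2).1]
      have h4 := memI_sub h3 (S.value_one_congr χ)
      rwa [sub_sub_sub_cancel_left] at h4
    push_cast
    rw [hW χ, Finset.mul_sum, show (minimalPeriod f χ : ℂ) * (charDegree (χ : G → ℂ) : ℂ) =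
      ∑ _j ∈ Finset.range (minimalPeriod f χ), (charDegree (χ : G → ℂ) : ℂ) by simp,
      ← Finset.sum_sub_distrib]
    refine memI_sum _ _ fun j _ => ?_
    have h5 := memI_sub h2 (memI_mul_left (memR_natCast (M := M) c) (S.dB_congr hind.1 χ j))
    rw [mul_sub, sub_sub_sub_cancel_right] at h5
    exact h5
  have htp : ∀ χ, ¬ p ∣ minimalPeriod f χ := fun χ h => by
    have h1 := Nat.le_of_dvd (S.period_pos χ) h
    have h2 := Nat.le_of_dvd hp1 (S.period_dvd χ)
    omega
  have hpint : Prime (p : ℤ) := Nat.prime_iff_prime_int.1 hp.out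
  have hWc : ∀ χ ∈ B, ¬ (p : ℤ) ∣ (c : ℤ) * W χ := fun χ hχ h => by
    have h1 := dvd_add (hcongr χ hχ) h
    rw [sub_add_cancel, ← Nat.cast_mul, Int.natCast_dvd_natCast, hp.out.dvd_mul] at h1
    exact h1.elim (htp χ) (hdeg χ hχ)
  have hW0 : ∀ χ ∈ B, W χ ≠ 0 := fun χ hχ h => hWc χ hχ (by rw [h, mul_zero]; exact dvd_zero _)
  have hWR : ∀ χ ∈ B, ∃ i ∈ R, W χ = W i ∧ minimalPeriod f χ = minimalPeriod f i := fun χ hχ => by
    obtain ⟨i, hi, j, -, rfl⟩ := hRex χ (mem_bf.2 hχ)
    exact ⟨i, hi, hWiter j i, hperiter j i⟩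
  have hq1 : ∀ i ∈ R, 1 ≤ t / minimalPeriod f i := fun i hi =>
    Nat.div_pos (Nat.le_of_dvd ht0 (hpd i (hRB' i hi))) (S.period_pos i)
  have hWp : ∀ χ ∈ B, W χ ^ 2 < p := by
    intro χ hχ
    obtain ⟨i, hi, hWi, -⟩ := hWR χ hχ
    rw [hWi]
    refine lt_of_le_of_ne ?_ fun h => ?_
    · refine le_trans ?_ (le_trans (Finset.single_le_sum (f := fun i =>
        ((t / minimalPeriod f i : ℕ) : ℤ) * W i ^ 2) (fun i _ => by positivity) hi) hsqR.le)
      exact le_mul_of_one_le_left (sq_nonneg _) (by exact_mod_cast hq1 i hi)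
    · obtain ⟨k, hk⟩ : (p : ℤ) ∣ W i := hpint.dvd_of_dvd_pow (n := 2) (h ▸ dvd_rfl)
      rw [hk] at h
      have : (2 : ℤ) ≤ p := by exact_mod_cast hp.out.two_le
      have hk0 : k ≠ 0 := fun e => hW0 i (hRB' i hi) (by rw [hk, e, mul_zero])
      have h' : (p : ℤ) * k ^ 2 = 1 :=
        mul_left_cancel₀ (show (p : ℤ) ≠ 0 by omega) (by linear_combination h)
      nlinarith [sq_pos_of_ne_zero hk0]
  -- all signs have one square
  have hWall : ∀ χ ∈ B, ∀ ψ ∈ B, W ψ ^ 2 = W χ ^ 2 := by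
    intro χ hχ ψ hψ
    by_contra hne
    obtain ⟨a, ha, b, hb, hab⟩ := exists_edge S.hm S.hpM S.hexp S.hdiv S.hσ S.hk S.ord hB hdeg
      (Q := {η | η ∈ B ∧ W η ^ 2 = W χ ^ 2}) (fun η h => h.1) ⟨χ, hχ, rfl⟩
      ⟨ψ, hψ, fun h => hne h.2⟩ (fun η => by
        simp only [Set.mem_setOf_eq, gal_mem_block S.hm S.hpM S.hexp S.hσ hB, hWgal])
    have h1 : (p : ℤ) ∣ (charDegree (a : G → ℂ) : ℤ) * (minimalPeriod f a : ℤ) +
        (charDegree (b : G → ℂ) : ℤ) * (minimalPeriod f b : ℤ) := by exact_mod_cast hab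
    have h2 : (p : ℤ) ∣ (c : ℤ) * (W a + W b) := by
      have := dvd_sub (dvd_sub h1 (hcongr a ha.1)) (hcongr b hb.1)
      refine Eq.subst (motive := fun z : ℤ => (p : ℤ) ∣ z) ?_ this
      ring
    have hcp : ¬ (p : ℤ) ∣ (c : ℤ) := fun h => hWc a ha.1 (h.mul_right _)
    have h3 : (p : ℤ) ∣ W a ^ 2 - W b ^ 2 := by
      rw [sq_sub_sq]
      exact ((hpint.dvd_mul.1 h2).resolve_left hcp).mul_right _
    have h4 : W a ^ 2 = W b ^ 2 := by
      have ha' := hWp a ha.1
      have hb' := hWp b hb.1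
      have := Int.eq_zero_of_abs_lt_dvd h3
        (abs_lt.2 ⟨by nlinarith [sq_nonneg (W a)], by nlinarith [sq_nonneg (W b)]⟩)
      linarith
    exact hb.2 ⟨hb.1, h4 ▸ ha.2⟩
  obtain ⟨χ₀, hχ₀⟩ := block_nonempty hB
  have hw1 : W χ₀ ^ 2 = 1 := by
    have h : (W χ₀ ^ 2) ∣ (p : ℤ) := by
      rw [← hsqR]
      exact Finset.dvd_sum fun i hi => by
        rw [hWall χ₀ hχ₀ i (hRB' i hi)]; exact dvd_mul_left _ _
    obtain ⟨w, hw⟩ : ∃ w : ℕ, W χ₀ ^ 2 = w := ⟨(W χ₀ ^ 2).toNat, by rw [Int.toNat_of_nonneg (sq_nonneg _)]⟩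
    rw [hw, Int.natCast_dvd_natCast] at h
    rcases (Nat.dvd_prime hp.out).1 h with e | e
    · rw [hw, e, Nat.cast_one]
    · exact absurd (hw.trans (by rw [e])) (hWp χ₀ hχ₀).ne
  have hsign : ∀ χ ∈ B, W χ = 1 ∨ W χ = -1 := fun χ hχ =>
    sq_eq_one_iff.1 (by rw [hWall χ₀ hχ₀ χ hχ, hw1])
  have hsumR : ∑ i ∈ R, t / minimalPeriod f i = p := by
    apply Int.natCast_inj.1
    rw [Nat.cast_sum, ← hsqR]
    exact Finset.sum_congr rfl fun i hi => by
      rw [hWall χ₀ hχ₀ i (hRB' i hi), hw1, mul_one]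
  -- a long orbit
  obtain ⟨y, hyR, hyt⟩ : ∃ y ∈ R, minimalPeriod f y = t := by
    by_contra hno
    push Not at hno
    haveI : NeZero t := ⟨ht0.ne'⟩
    have hω := Complex.isPrimitiveRoot_exp t ht0.ne'
    set ω := Complex.exp (2 * Real.pi * Complex.I / t)
    have hz : ∀ χ ∈ B, ∑ r ∈ Finset.range t, ω ^ r * d (f^[r] χ) = 0 := by
      intro χ hχ
      obtain ⟨i, hi, -, hpi⟩ := hWR χ hχ
      set a := minimalPeriod f χ with ha
      have hat : a < t := lt_of_le_of_ne (Nat.le_of_dvd ht0 (hpd χ hχ)) (by rw [hpi]; exact hno i hi)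
      have hωa : ω ^ a ≠ 1 := hω.pow_ne_one_of_pos_of_lt (S.period_pos χ).ne' hat
      -- shifting by `a` multiplies the sum by `ω ^ a`
      set F : ℕ → ℂ := fun r => ω ^ r * d (f^[r] χ)
      have hFt : ∀ r, F (r + t) = F r := fun r => by
        simp only [F, pow_add, hω.pow_eq_one, mul_one]
        rw [add_comm r t, iterate_add_apply, htper]
      have hrot : ∀ a, ∑ r ∈ Finset.range t, F (r + a) = ∑ r ∈ Finset.range t, F r := by
        intro a
        induction a with
        | zero => rfl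
        | succ a ih =>
          rw [← ih]
          have h1 := Finset.sum_range_succ' (fun r => F (r + a)) t
          rw [Finset.sum_range_succ, zero_add, add_comm t a, hFt a] at h1
          rw [add_right_cancel h1]
          exact Finset.sum_congr rfl fun r _ => by rw [add_right_comm r 1 a, add_assoc]
      have h2 : ∑ r ∈ Finset.range t, F (r + a) = ω ^ a * ∑ r ∈ Finset.range t, F r := by
        rw [Finset.mul_sum]
        refine Finset.sum_congr rfl fun r _ => ?_
        simp only [F, pow_add, iterate_add_apply, ha, iterate_minimalPeriod]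
        ring
      rw [hrot] at h2
      have h3 : (ω ^ a - 1) * ∑ r ∈ Finset.range t, F r = 0 := by linear_combination -h2
      exact (mul_eq_zero.1 h3).resolve_left (sub_ne_zero.2 hωa)
    have h : ∑ r ∈ Finset.range t, ω ^ r * ∑ χ ∈ bf B, d (f^[r] χ) * conj (d χ) = 0 := by
      calc _ = ∑ χ ∈ bf B, (∑ r ∈ Finset.range t, ω ^ r * d (f^[r] χ)) * conj (d χ) := by
            simp only [Finset.mul_sum, Finset.sum_mul]
            rw [Finset.sum_comm]
            exact Finset.sum_congr rfl fun χ _ => Finset.sum_congr rfl fun r _ => by ring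
        _ = 0 := Finset.sum_eq_zero fun χ hχ => by rw [hz χ (mem_bf.1 hχ), zero_mul]
    have h4 : ∀ r ∈ Finset.range t, ∑ χ ∈ bf B, d (f^[r] χ) * conj (d χ) =
        if r = 0 then (p : ℂ) else 0 := fun r hr => S.sum_period hind hmin (r' := 0) (Finset.mem_range.1 hr) ht0
    rw [Finset.sum_congr rfl fun r hr => by rw [h4 r hr]] at h
    simp only [mul_ite, mul_zero, Finset.sum_ite_eq', Finset.mem_range, if_pos ht0, pow_zero,
      one_mul] at h
    exact hp.out.ne_zero (by exact_mod_cast h)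
  have hyB := hRB' y hyR
  -- the relation on the regular elements
  have hrel : ∀ g : G, ¬ p ∣ orderOf g →
      ∑ i ∈ R, (W i : ℂ) * (i : G → ℂ) g = 0 := by
    intro g hg
    have h0 : ∑ χ ∈ bf B, (χ : G → ℂ) g * conj (d χ) = 0 := by
      obtain ⟨θ', hθ', hθ'x⟩ := S.exists_trivial hind.1
      refine (mul_eq_zero.1 (?_ : _ * conj ((θ' : H → ℂ) 1) = 0)).resolve_right
        ((map_ne_zero conj).2 (Chars.irr_apply_one_ne_zero θ'.2))
      rw [Finset.sum_mul]
      simp only [mul_assoc, ← map_mul, hd', dB_mul_one S hind.1 hθ' hθ'x, map_sum, Finset.mul_sum]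
      rw [Finset.sum_comm]
      refine Finset.sum_eq_zero fun e he => ?_
      simp only [map_mul]
      refine (Finset.sum_congr rfl fun χ _ => mul_left_comm _ _ _).trans ?_
      rw [← Finset.mul_sum, ← filter_eq_bf, block_orth_weak S.hpM hB hg, mul_zero]
      have hpp := conj_ppart_of_mul S hp.out.not_dvd_one (mem_regs.1 he)
      rw [pow_one] at hpp
      by_contra hnd
      rw [ppart_one_iff.2 hnd] at hpp
      exact hp.out.ne_one (by rw [← S.hx, ← hpp, orderOf_one])
    have hr0 : ∀ r, ∑ χ ∈ bf B, (χ : G → ℂ) g * conj (d (f^[r] χ)) = 0 := fun r => by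
      rw [← h0]
      refine Finset.sum_equiv (f ^ r) (fun χ => ?_) fun χ _ => ?_
      · rw [Equiv.Perm.coe_pow, mem_bf, mem_bf, S.iterate_mem_block hB]
      · rw [Equiv.Perm.coe_pow, S.gal_reg χ r hg]
    have h1 : ∑ χ ∈ bf B, (χ : G → ℂ) g * conj (∑ r ∈ Finset.range t, d (f^[r] χ)) = 0 := by
      simp only [map_sum, Finset.mul_sum]
      rw [Finset.sum_comm]
      exact Finset.sum_eq_zero fun r _ => hr0 r
    rw [Finset.sum_congr rfl fun χ hχ => by rw [hD χ (mem_bf.1 hχ), map_intCast]] at h1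
    rw [hRsum] at h1
    refine (mul_eq_zero.1 (?_ : (t : ℂ) * _ = 0)).resolve_left (Nat.cast_ne_zero.2 ht0.ne')
    rw [Finset.mul_sum, ← h1]
    refine Finset.sum_congr rfl fun i hi => ?_
    have hfreg : ∀ r (χ : IrrCharacter G), (f^[r] χ : G → ℂ) g = (χ : G → ℂ) g := fun r χ =>
      S.gal_reg χ r hg
    simp only [hWiter, hperiter, hfreg, Finset.sum_const, Finset.card_range, nsmul_eq_mul]
    have := Nat.mul_div_cancel' (hpd i (hRB' i hi))
    set a := minimalPeriod f i with ha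
    set q := t / a
    rw [show (t : ℂ) = (a : ℂ) * q by exact_mod_cast this.symm]
    push_cast
    ring
  -- counting
  set l := blockRank p B with hl
  have hpreg : ∀ χ j, pRegularPart p (f^[j] χ : G → ℂ) = pRegularPart p (χ : G → ℂ) := by
    intro χ j
    funext g
    by_cases hg : p ∣ orderOf g
    · simp [pRegularPart, IsPRegular, hg]
    · simp only [pRegularPart, IsPRegular, hg, not_false_eq_true, if_true]
      exact S.gal_reg χ j hg
  have hk : (bf B).card = ∑ i ∈ R, minimalPeriod f i := by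
    have h := hRsum fun _ => 1
    simp only [Finset.sum_const, Finset.card_range, nsmul_eq_mul, mul_one] at h
    exact_mod_cast h
  have hlR : l + 1 ≤ R.card := by
    have hspan : Submodule.span ℂ
        ((fun χ : IrrCharacter G => pRegularPart p (χ : G → ℂ)) '' B) ≤
        Submodule.span ℂ
          (((R.erase y).image fun χ : IrrCharacter G => pRegularPart p (χ : G → ℂ) : Finset (G → ℂ)) :
            Set (G → ℂ)) := by
      rw [Submodule.span_le]
      rintro _ ⟨χ, hχ, rfl⟩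
      obtain ⟨i, hi, j, -, rfl⟩ := hRex χ (mem_bf.2 hχ)
      show pRegularPart p (f^[j] i : G → ℂ) ∈ Submodule.span ℂ _
      rw [hpreg]
      by_cases hiy : i = y
      · subst hiy
        have he : pRegularPart p (i : G → ℂ) = ∑ e ∈ R.erase i,
            (-(W e : ℂ) / (W i : ℂ)) • pRegularPart p (e : G → ℂ) := by
          have hWi : (W i : ℂ) ≠ 0 := Int.cast_ne_zero.2 (hW0 i hyB)
          funext g
          rw [Finset.sum_apply]
          simp only [Pi.smul_apply, smul_eq_mul]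
          by_cases hg : p ∣ orderOf g
          · simp [pRegularPart, IsPRegular, hg]
          · simp only [pRegularPart, IsPRegular, hg, not_false_eq_true, if_true]
            have h := hrel g hg
            rw [← Finset.add_sum_erase _ _ hi] at h
            refine mul_left_cancel₀ hWi ?_
            rw [Finset.mul_sum, eq_neg_of_add_eq_zero_left h, ← Finset.sum_neg_distrib]
            refine Finset.sum_congr rfl fun e _ => ?_
            field_simp
        rw [he]
        exact Submodule.sum_mem _ fun e he => Submodule.smul_mem _ _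
          (Submodule.subset_span (Finset.mem_coe.2 (Finset.mem_image_of_mem _ he)))
      · exact Submodule.subset_span (Finset.mem_coe.2
          (Finset.mem_image_of_mem _ (Finset.mem_erase.2 ⟨hiy, hi⟩)))
    have h1 : l ≤ (R.erase y).card :=
      (Submodule.finrank_mono hspan).trans ((finrank_span_finset_le_card _).trans Finset.card_image_le)
    have h2 := Finset.card_erase_add_one hyR
    omega
  have hkl : (bf B).card ≤ l + t := by
    let V := Submodule.span ℂ ((fun χ : IrrCharacter G => pRegularPart p (χ : G → ℂ)) '' B)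
    let Φ : ((bf B) → ℂ) →ₗ[ℂ] (V × (Fin t → ℂ)) :=
      LinearMap.prod
        (∑ χ : bf B, (LinearMap.proj χ).smulRight
          (⟨_, Submodule.subset_span (Set.mem_image_of_mem _ (mem_bf.1 χ.2))⟩ : V))
        (∑ χ : bf B, (LinearMap.proj χ).smulRight (fun r : Fin t => d (f^[(r : ℕ)] χ.1)))
    have hΦ : Function.Injective Φ := by
      rw [injective_iff_map_eq_zero]
      intro cf hcf
      have h1 : ∀ g, ¬ p ∣ orderOf g → ∑ χ : bf B, cf χ * (χ.1 : G → ℂ) g = 0 := fun g hg => by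
        have := congrArg (fun v : V × (Fin t → ℂ) => (v.1 : G → ℂ) g) hcf
        simpa [Φ, Finset.sum_apply, pRegularPart, IsPRegular, hg] using this
      have h2 : ∀ r, ∑ χ : bf B, cf χ * d (f^[r] χ.1) = 0 := fun r => by
        have := congrArg (fun v : V × (Fin t → ℂ) => v.2 ⟨r % t, Nat.mod_lt r ht0⟩) hcf
        simpa [Φ, Finset.sum_apply, ← hmod] using this
      have h3 : ∑ χ : bf B, cf χ • (χ.1 : G → ℂ) = 0 := by
        funext g
        rw [Finset.sum_apply]
        simp only [Pi.smul_apply, smul_eq_mul, Pi.zero_apply]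
        by_cases hg : p ∣ orderOf g
        · obtain ⟨a, j, s, hs, rfl⟩ := S.exists_singular_form hg
          rw [Finset.sum_congr rfl fun χ _ => by
            rw [Chars.isClassFunction_irr _ (x ^ K ^ j * (s : G)) a, hval _ (mem_bf.1 χ.2) j s hs,
              Finset.mul_sum]]
          rw [Finset.sum_comm]
          refine Finset.sum_eq_zero fun b _ => ?_
          simp only [← mul_assoc, ← Finset.sum_mul, h2, zero_mul]
        · exact h1 g hg
      funext χ
      exact (linearIndependent_iff'.1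
        ((Chars.irr_linearIndependent (G := G)).comp _ Subtype.val_injective) Finset.univ cf h3 χ
        (Finset.mem_univ _))
    have := LinearMap.finrank_le_finrank_of_injective hΦ
    rw [Module.finrank_prod, Module.finrank_pi, Module.finrank_pi, Fintype.card_coe,
      Fintype.card_fin] at this
    exact this
  have hsplit : t + ∑ i ∈ R.erase y, minimalPeriod f i = (bf B).card := by
    rw [hk, ← Finset.add_sum_erase _ _ hyR, hyt]
  have hge : (R.erase y).card ≤ ∑ i ∈ R.erase y, minimalPeriod f i := by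
    rw [Finset.card_eq_sum_ones]
    exact Finset.sum_le_sum fun i _ => S.period_pos i
  have hone : ∀ i ∈ R.erase y, minimalPeriod f i = 1 := by
    have h2 := Finset.card_erase_add_one hyR
    have h3 : ∑ i ∈ R.erase y, minimalPeriod f i = ∑ i ∈ R.erase y, 1 := by
      rw [← Finset.card_eq_sum_ones]; omega
    exact fun i hi => ((Finset.sum_eq_sum_iff_of_le (fun i _ => S.period_pos i)).1 h3.symm i hi).symm
  have hh : (R.erase y).card * t = p - 1 := by
    have h := hsumR
    rw [← Finset.add_sum_erase _ _ hyR, hyt, Nat.div_self ht0,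
      Finset.sum_congr rfl fun i hi => by rw [hone i hi, Nat.div_one], Finset.sum_const,
      smul_eq_mul] at h
    omega
  have hh' : (p - 1) / t = (R.erase y).card := by rw [← hh, Nat.mul_div_cancel _ ht0]
  set Y : Set (IrrCharacter G) := {ψ | ∃ j < t, f^[j] y = ψ} with hY
  have hYmem : ∀ ψ, (∃ r, f^[r] y = ψ) ↔ ψ ∈ Y := fun ψ => by
    refine ⟨?_, fun ⟨j, _, hj⟩ => ⟨j, hj⟩⟩
    rintro ⟨r, rfl⟩
    exact ⟨r % t, Nat.mod_lt _ ht0, by rw [← hyt, iterate_mod_minimalPeriod_eq]⟩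
  have hYsub : Y ⊆ B := by
    rintro _ ⟨j, -, rfl⟩; exact (S.iterate_mem_block hB j).2 hyB
  have hcardY : Nat.card Y = t := by
    have hY' : Y = ((Finset.range t).image fun j => f^[j] y : Finset (IrrCharacter G)) := by
      ext ψ; simp [hY, eq_comm]
    rw [hY', Nat.card_coe_set_eq, Set.ncard_coe_finset, Finset.card_image_of_injOn, Finset.card_range]
    intro a ha b hb hab
    refine iterate_injOn_Iio_minimalPeriod ?_ ?_ hab
    · rw [hyt]; exact Set.mem_Iio.2 (Finset.mem_range.1 ha)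
    · rw [hyt]; exact Set.mem_Iio.2 (Finset.mem_range.1 hb)
  have hXmem : ∀ χ, χ ∈ B ∧ χ ∉ Y → χ ∈ R.erase y := by
    rintro χ ⟨hχ, hχY⟩
    obtain ⟨i, hi, j, hj, rfl⟩ := hRex χ (mem_bf.2 hχ)
    have hiy : i ≠ y := fun e => hχY ((hYmem _).1 ⟨j, by rw [e]⟩)
    have h1 := hone i (Finset.mem_erase.2 ⟨hiy, hi⟩)
    rw [h1, Nat.lt_one_iff] at hj
    subst hj
    exact Finset.mem_erase.2 ⟨hiy, hi⟩
  have hXset : (B \ Y : Set (IrrCharacter G)) = ((R.erase y : Finset (IrrCharacter G)) : Set _) := by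
    ext χ
    refine ⟨fun h => hXmem χ h, fun h => ?_⟩
    obtain ⟨hne, hi⟩ := Finset.mem_erase.1 (Finset.mem_coe.1 h)
    refine ⟨hRB' χ hi, ?_⟩
    rintro ⟨j, -, hj⟩
    exact hne (hRinj y hyR χ hi j hj).symm
  have hX1 : ∀ χ ∈ B, χ ∉ Y → minimalPeriod f χ = 1 := fun χ hχ hχY => hone χ (hXmem χ ⟨hχ, hχY⟩)
  have hWY : ∀ θ ∈ Y, W θ = W y := by rintro _ ⟨j, -, rfl⟩; exact hWiter j y
  have hYt : ∀ θ ∈ Y, minimalPeriod f θ = t := by rintro _ ⟨j, -, rfl⟩; rw [hperiter, hyt]
  refine ⟨⟨t, Y, W, ht0, htdvd, hperiod, hYsub, hcardY, ?_, ?_, ?_, hsign,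
    fun θ h θ' h' => by rw [hWY θ h, hWY θ' h'], ?_, ?_, ?_, ?_, ?_, hfix, ?_⟩⟩
  · rw [hXset, Nat.card_coe_set_eq, Set.ncard_coe_finset, hh']
  · rintro _ ⟨j, hj, rfl⟩ ψ
    rw [← hYmem]
    refine ⟨fun ⟨r, hr⟩ => ⟨r + j, by rw [iterate_add_apply]; exact hr⟩, fun ⟨r, hr⟩ => ?_⟩
    refine ⟨r + (t - j), ?_⟩
    rw [← iterate_add_apply, show r + (t - j) + j = r + t by omega, iterate_add_apply, ← hyt,
      iterate_minimalPeriod, hr]
  · intro χ hχ hχY
    have := iterate_minimalPeriod (f := f) (x := χ)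
    rwa [hX1 χ hχ hχY, iterate_one] at this
  · intro χ hχ hχY
    rw [hW, hX1 χ hχ hχY, Finset.sum_range_one, iterate_zero_apply]
  · intro χ hχ hχY
    have := hcongr χ hχ
    rw [hX1 χ hχ hχY, Nat.cast_one, one_mul] at this
    exact (Int.modEq_iff_dvd.2 this).symm
  · intro θ hθ
    have h := hcongr θ (hYsub hθ)
    rw [hYt θ hθ] at h
    rw [Int.modEq_iff_dvd]
    have h1 : ((((p - 1) / t : ℕ) : ℤ) * t) = (p : ℤ) - 1 := by
      rw [← Nat.cast_mul, Nat.div_mul_cancel htdvd, Nat.cast_sub hp.out.one_le, Nat.cast_one]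
    have h2 := dvd_sub (h.mul_left ((((p - 1) / t : ℕ) : ℤ))) (dvd_mul_right (p : ℤ) (charDegree (θ : G → ℂ) : ℤ))
    refine Eq.subst (motive := fun z : ℤ => (p : ℤ) ∣ z) ?_ h2
    linear_combination (charDegree (θ : G → ℂ) : ℤ) * h1
  · intro g hg θ hθ
    have h := hrel g hg
    rw [← Finset.add_sum_erase _ _ hyR, add_comm] at h
    rw [hXset, finsum_mem_coe_finset]
    obtain ⟨j, -, rfl⟩ := hθ
    rw [S.gal_reg y j hg, hWY _ ((hYmem _).1 ⟨j, rfl⟩)]
    exact h
  · have h2 := Finset.card_erase_add_one hyR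
    omega
  · intro θ hθ
    rw [hW, hYt θ hθ]

end Once

end Cfsg.Agent.Chars2.Cyc
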