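import Cfsg.Agent.Chars.Induced
import Cfsg.Agent.Chars2.Clifford
import Cfsg.Agent.Chars2.Correspondence
import Cfsg.Agent.Chars2.DadeLemma

/-!
Towers of inductions and restriction of induced characters.
-/

set_option autoImplicit false
set_option linter.style.haveILetI false
set_option linter.unusedSectionVars false

namespace Cfsg.Agent.Chars2

open Cfsg Cfsg.Agent
open scoped ComplexConjugate

universe u

variable {G : Type u} [Group G] [Fintype G]

/-- A character of a subgroup of a subgroup, moved into the group. -/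
noncomputable def pushFun (T : Subgroup G) (H : Subgroup T) (ψ : H → ℂ) : H.map T.subtype → ℂ :=
  fun x => ψ ((H.equivMapOfInjective T.subtype T.subtype_injective).symm x)

theorem indFun_pushFun (T : Subgroup G) [Fintype T] (H : Subgroup T) (ψ : H → ℂ) :
    indFun (H.map T.subtype) (pushFun T H ψ) = indFun T (indFun H ψ) := by
  rw [← Chars.indFun_trans (H.map T.subtype) T (Subgroup.map_subtype_le H)]
  congr 1
  funext t
  rw [Chars.indFun_apply, Chars.indFun_apply]
  have hsub : (H.map T.subtype).subgroupOf T = H :=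
    Subgroup.comap_map_eq_self_of_injective T.subtype_injective H
  congr 1
  · rw [hsub]
  · refine Finset.sum_congr rfl fun x _ => ?_
    by_cases hx : x⁻¹ * t * x ∈ H
    · have hx' : x⁻¹ * t * x ∈ (H.map T.subtype).subgroupOf T := by rw [hsub]; exact hx
      rw [Chars.extendByZero_of_mem _ _ hx, Chars.extendByZero_of_mem _ _ hx']
      refine congrArg ψ ?_
      rw [MulEquiv.symm_apply_eq]
      exact Subtype.ext rfl
    · have hx' : x⁻¹ * t * x ∉ (H.map T.subtype).subgroupOf T := by rw [hsub]; exact hx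
      rw [Chars.extendByZero_of_not_mem _ _ hx, Chars.extendByZero_of_not_mem _ _ hx']

theorem sum_product_group (T N : Subgroup G) [N.Normal] [Fintype T] [Fintype N] (htop : T ⊔ N = ⊤)
    (F : G → ℂ) :
    ∑ t : T, ∑ n : N, F ((n : G) * t) = (Nat.card (T ⊓ N : Subgroup G) : ℂ) * ∑ g : G, F g := by
  classical
  rw [Finset.sum_comm, ← Fintype.sum_prod_type' (f := fun (n : N) (t : T) => F ((n : G) * t)),
    Finset.mul_sum, ← Finset.sum_fiberwise Finset.univ (fun v : N × T => (v.1 : G) * v.2)]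
  refine Finset.sum_congr rfl fun g _ => ?_
  rw [Finset.sum_congr rfl (g := fun _ => F g) fun v hv => by rw [(Finset.mem_filter.1 hv).2],
    Finset.sum_const, nsmul_eq_mul]
  congr 2
  obtain ⟨n₀, hn₀, t₀, ht₀, rfl⟩ := Subgroup.mem_sup_of_normal_left.1
    (by rw [sup_comm, htop]; exact Subgroup.mem_top g : g ∈ N ⊔ T)
  haveI : Fintype (T ⊓ N : Subgroup G) := Fintype.ofFinite _
  rw [Nat.card_eq_fintype_card, ← Finset.card_univ]
  refine Finset.card_bij (fun v _ => ⟨(v.2 : G) * t₀⁻¹, T.mul_mem v.2.2 (T.inv_mem ht₀), ?_⟩)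
    (fun _ _ => Finset.mem_univ _) (fun v hv w hw e => ?_) (fun d _ => ?_)
  · rename_i hv
    rw [show (v.2 : G) = (v.1 : G)⁻¹ * (n₀ * t₀) by
      rw [← (Finset.mem_filter.1 hv).2]; group, mul_assoc, mul_assoc, mul_inv_cancel, mul_one]
    exact N.mul_mem (N.inv_mem v.1.2) hn₀
  · have e2 : (v.2 : G) = w.2 := mul_right_cancel (congrArg Subtype.val e)
    have e1 : (v.1 : G) * v.2 = (w.1 : G) * w.2 :=
      (Finset.mem_filter.1 hv).2.trans (Finset.mem_filter.1 hw).2.symm
    rw [e2] at e1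
    exact Prod.ext (Subtype.ext (mul_right_cancel e1)) (Subtype.ext e2)
  · refine ⟨(⟨n₀ * (d : G)⁻¹, N.mul_mem hn₀ (N.inv_mem d.2.2)⟩, ⟨(d : G) * t₀, T.mul_mem d.2.1 ht₀⟩),
      Finset.mem_filter.2 ⟨Finset.mem_univ _, by simp [mul_assoc]⟩, ?_⟩
    exact Subtype.ext (by simp)

/-- Mackey for a subgroup supplementing a normal subgroup. -/
theorem indFun_restrict_of_sup (T N : Subgroup G) [hN : N.Normal] [Fintype T] [Fintype N]
    (htop : T ⊔ N = ⊤) {η : T → ℂ} (hη : IsClassFunction T η) (n : N) :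
    indFun T η n = indFun (T.subgroupOf N)
      (fun x => η ⟨((x : N) : G), Subgroup.mem_subgroupOf.1 x.2⟩) n := by
  classical
  set η' : T.subgroupOf N → ℂ := fun x => η ⟨((x : N) : G), Subgroup.mem_subgroupOf.1 x.2⟩
  have hz : ∀ z : N, extendByZero T η (z : G) = extendByZero (T.subgroupOf N) η' z := by
    intro z
    by_cases h : (z : G) ∈ T
    · rw [Chars.extendByZero_of_mem T η h,
        Chars.extendByZero_of_mem _ η' (Subgroup.mem_subgroupOf.2 h)]
    · rw [Chars.extendByZero_of_not_mem T η h,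
        Chars.extendByZero_of_not_mem _ η' (fun h' => h (Subgroup.mem_subgroupOf.1 h'))]
  set F : G → ℂ := fun g => extendByZero T η (g⁻¹ * (n : G) * g)
  have hF : ∀ (m : N) (t : T), F ((m : G) * t) = F m := by
    intro m t
    show extendByZero T η (((m : G) * t)⁻¹ * (n : G) * ((m : G) * t)) = _
    rw [show ((m : G) * t)⁻¹ * (n : G) * ((m : G) * t) =
      (t : G)⁻¹ * ((m : G)⁻¹ * n * m) * t by group]
    show extendByZero T η ((t : G)⁻¹ * ((m : G)⁻¹ * n * m) * t) =
      extendByZero T η ((m : G)⁻¹ * n * m)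
    by_cases h : (m : G)⁻¹ * n * m ∈ T
    · rw [Chars.extendByZero_of_mem T η h,
        Chars.extendByZero_of_mem T η (T.mul_mem (T.mul_mem (T.inv_mem t.2) h) t.2)]
      have h2 := hη ⟨_, h⟩ t⁻¹
      rw [← h2]
      refine congrArg η (Subtype.ext ?_)
      simp
    · rw [Chars.extendByZero_of_not_mem T η h, Chars.extendByZero_of_not_mem T η fun h' => h ?_]
      simpa [mul_assoc] using T.mul_mem (T.mul_mem t.2 h') (T.inv_mem t.2)
  have h := sum_product_group T N htop F
  simp only [hF, Finset.sum_const, Finset.card_univ, nsmul_eq_mul] at h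
  have hc : Nat.card (T.subgroupOf N) = Nat.card (T ⊓ N : Subgroup G) := by
    rw [← Subgroup.card_map_of_injective (K := T.subgroupOf N) N.subtype_injective,
      Subgroup.subgroupOf_map_subtype]
  rw [Chars.indFun_apply, Chars.indFun_apply, hc,
    show (∑ x : G, extendByZero T η (x⁻¹ * (n : G) * x)) = ∑ g, F g from rfl,
    Finset.sum_congr rfl fun (m : N) _ => (show extendByZero (T.subgroupOf N) η' (m⁻¹ * n * m) = F m by
      rw [← hz]; rfl)]
  have hT0 : (Nat.card T : ℂ) ≠ 0 := Chars.card_ne_zero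
  have hI0 : (Nat.card (T ⊓ N : Subgroup G) : ℂ) ≠ 0 := Chars.card_ne_zero
  rw [← Nat.card_eq_fintype_card] at h
  field_simp
  linear_combination -h

theorem indFun_eq_sum (H : Subgroup G) [Fintype H] {η : H → ℂ} (c : IrrCharacter H → ℂ)
    (h : ∀ x, η x = ∑ ψ : IrrCharacter H, c ψ * (ψ : H → ℂ) x) :
    indFun H η = ∑ ψ : IrrCharacter H, c ψ • indFun H (ψ : H → ℂ) := by
  classical
  funext g
  rw [Finset.sum_apply]
  simp only [Pi.smul_apply, smul_eq_mul, Chars.indFun_apply, Finset.mul_sum]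
  rw [Finset.sum_comm (s := (Finset.univ : Finset (IrrCharacter H)))]
  refine Finset.sum_congr rfl fun x _ => ?_
  by_cases hx : x⁻¹ * g * x ∈ H
  · rw [Chars.extendByZero_of_mem _ _ hx, h, Finset.mul_sum]
    refine Finset.sum_congr rfl fun ψ _ => ?_
    rw [Chars.extendByZero_of_mem _ _ hx]
    ring
  · rw [Chars.extendByZero_of_not_mem _ _ hx, mul_zero, Finset.sum_eq_zero]
    intro ψ _
    rw [Chars.extendByZero_of_not_mem _ _ hx, mul_zero, mul_zero]

theorem irr_of_indFun_irr (H : Subgroup G) {η : H → ℂ} (hη : IsCharacter H η)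
    (h : IsIrrCharacter G (indFun H η)) : IsIrrCharacter H η := by
  classical
  haveI : Fintype H := Fintype.ofFinite H
  obtain ⟨c, hc⟩ := exists_multiplicities hη
  have hval : ∀ x, η x = ∑ ψ : IrrCharacter H, (c ψ : ℂ) * (ψ : H → ℂ) x := fun x => by
    rw [apply_eq_sum (Chars.isClassFunction_of_isCharacter hη) x]; simp only [hc]
  have hind := indFun_eq_sum H (fun ψ => (c ψ : ℂ)) hval
  choose r hr using fun ψ : IrrCharacter H =>
    exists_multiplicities (Chars.isCharacter_indFun H (Chars.irr_isCharacter ψ))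
  let χ : IrrCharacter G := ⟨_, h⟩
  have hsum : ∀ ξ : IrrCharacter G, (∑ ψ, c ψ * r ψ ξ) = if χ = ξ then 1 else 0 := by
    intro ξ
    apply Nat.cast_injective (R := ℂ)
    have h1 := Chars.classInner_irrCharacter χ ξ
    push_cast
    rw [← h1]
    show _ = classInner (indFun H η) (ξ : G → ℂ)
    rw [hind, Chars.classInner_sum_left]
    simp only [Chars.classInner_smul_left, hr]
  have hrpos : ∀ ψ, c ψ ≠ 0 → r ψ χ ≠ 0 := by
    intro ψ hψ hr0
    have h1 : indFun H (ψ : H → ℂ) 1 = 0 := by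
      rw [apply_eq_sum (Chars.isClassFunction_indFun H _) 1]
      refine Finset.sum_eq_zero fun ξ _ => ?_
      rw [hr]
      rcases eq_or_ne χ ξ with rfl | hne
      · rw [hr0, Nat.cast_zero, zero_mul]
      · have h2 := hsum ξ
        rw [if_neg hne, Finset.sum_eq_zero_iff] at h2
        rw [(Nat.mul_eq_zero.1 (h2 ψ (Finset.mem_univ _))).resolve_left hψ, Nat.cast_zero, zero_mul]
    rw [Chars.indFun_apply_one, mul_eq_zero] at h1
    exact h1.elim (Nat.cast_ne_zero.2 H.index_ne_zero_of_finite) (Chars.irr_apply_one_ne_zero ψ.2)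
  have h1 := hsum χ
  rw [if_pos rfl] at h1
  obtain ⟨ψ, -, hψ⟩ := Finset.exists_ne_zero_of_sum_ne_zero (by rw [h1]; exact one_ne_zero)
  rw [← Finset.add_sum_erase _ _ (Finset.mem_univ ψ)] at h1
  have h2 : ∑ φ ∈ Finset.univ.erase ψ, c φ * r φ χ = 0 := by omega
  have h3 : c ψ = 1 := Nat.eq_one_of_mul_eq_one_right (show c ψ * r ψ χ = 1 by omega)
  have h4 : η = (ψ : H → ℂ) := funext fun x => by
    rw [hval, Finset.sum_eq_single ψ (fun φ _ hφ => ?_) (fun hh => absurd (Finset.mem_univ _) hh),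
      h3, Nat.cast_one, one_mul]
    have h5 := Finset.sum_eq_zero_iff.1 h2 φ (Finset.mem_erase.2 ⟨hφ, Finset.mem_univ _⟩)
    rcases eq_or_ne (c φ) 0 with h6 | h6
    · rw [h6, Nat.cast_zero, zero_mul]
    · exact absurd ((Nat.mul_eq_zero.1 h5).resolve_left h6) (hrpos φ h6)
  rw [h4]
  exact ψ.2

end Cfsg.Agent.Chars2
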