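import Cfsg.Agent.Chars2.DegreeInherit
import Cfsg.Agent.Core.MinimalNormal
import Mathlib.GroupTheory.Solvable

/-!
Ito's theorem on character degrees of solvable groups.
-/

set_option autoImplicit false
set_option linter.style.haveILetI false
set_option linter.unusedSectionVars false

namespace Cfsg.Agent.Chars2

open Cfsg Cfsg.Agent

universe u

/-- A solvable group all of whose degrees are prime to `p` has a normal abelian Sylow subgroup. -/
theorem ito_solvable {p : ℕ} [hp : Fact p.Prime] : ∀ (n : ℕ) (G : Type u) [Group G] [Finite G],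
    Nat.card G ≤ n → Group.IsSolvable G →
    (∀ χ : IrrCharacter G, ¬ p ∣ charDegree (χ : G → ℂ)) →
    ∃ P : Subgroup G, P.Normal ∧ (∀ x ∈ P, ∀ y ∈ P, x * y = y * x) ∧ IsPGroup p P ∧ ¬ p ∣ P.index := by
  intro n
  induction n with
  | zero => intro G _ _ hle; exact absurd hle (not_le.2 Nat.card_pos)
  | succ n ih =>
    intro G _ _ hle hs hdeg
    haveI := hs
    by_cases hG : Nontrivial G
    swap
    · haveI : Subsingleton G := not_nontrivial_iff_subsingleton.1 hG
      refine ⟨⊥, inferInstance, fun x _ y _ => Subsingleton.elim _ _, IsPGroup.of_bot, ?_⟩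
      rw [Subgroup.index_bot, Nat.card_of_subsingleton (1 : G)]
      exact hp.out.not_dvd_one
    obtain ⟨N, hN⟩ := Core.exists_isMinNormal (G := G)
    obtain ⟨hNc, r, hr, -, hNp⟩ := Core.IsMinNormal.elementaryAbelian_of_isSolvable hN
    haveI : N.Normal := hN.1
    have hN1 : 1 < Nat.card N := (Finite.one_lt_card_iff_nontrivial).2
      ((Subgroup.nontrivial_iff_ne_bot N).2 hN.2.1)
    have hlt : Nat.card (G ⧸ N) ≤ n := by
      have h := N.card_mul_index
      rw [Subgroup.index_eq_card] at h
      have h2 : Nat.card (G ⧸ N) * 2 ≤ Nat.card G := by rw [← h, mul_comm]; exact Nat.mul_le_mul_right _ hN1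
      have h3 : 0 < Nat.card (G ⧸ N) := Nat.card_pos
      omega
    obtain ⟨Q, hQn, hQab, hQp, hQi⟩ := ih (G ⧸ N) hlt inferInstance fun θ => by
      obtain ⟨χ, hχ⟩ :=
        exists_degree_eq_of_surjective (QuotientGroup.mk' N) (QuotientGroup.mk'_surjective N) θ
      exact hχ ▸ hdeg χ
    set M := Q.comap (QuotientGroup.mk' N) with hM
    haveI : M.Normal := Subgroup.normal_comap _
    have hMi : ¬ p ∣ M.index := by
      rwa [hM, Subgroup.index_comap_of_surjective _ (QuotientGroup.mk'_surjective N)]
    by_cases hMtop : M = ⊤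
    · have hQtop : Q = ⊤ := by
        rw [← Subgroup.map_comap_eq_self_of_surjective (QuotientGroup.mk'_surjective N) Q, ← hM,
          hMtop, Subgroup.map_top_of_surjective _ (QuotientGroup.mk'_surjective N)]
      have hQG : IsPGroup p (G ⧸ N) := IsPGroup.of_equiv hQp
        ((MulEquiv.subgroupCongr hQtop).trans Subgroup.topEquiv)
      obtain ⟨k, hk⟩ := IsPGroup.iff_card.1 hQG
      rw [← Subgroup.index_eq_card] at hk
      have hone : ∀ χ : IrrCharacter G, charDegree (χ : G → ℂ) = 1 := by
        intro χ
        have hdvd : charDegree (χ : G → ℂ) ∣ p ^ k := hk ▸ charDegree_dvd_index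
          (fun a ha b hb => congrArg Subtype.val (hNc.1.1 ⟨a, ha⟩ ⟨b, hb⟩)) χ
        exact Nat.eq_one_of_dvd_coprimes ((hp.out.coprime_iff_not_dvd.2 (hdeg χ)).pow_left k)
          hdvd dvd_rfl
      have hcomm := comm_of_degree_one hone
      obtain ⟨P⟩ : Nonempty (Sylow p G) := inferInstance
      exact ⟨P, ⟨fun x hx g => by rwa [hcomm g x, mul_inv_cancel_right]⟩,
        fun x _ y _ => hcomm x y, P.2, P.not_dvd_index⟩
    · have hMlt : Nat.card M ≤ n := by
        have h1 := Subgroup.card_le_card_group M
        have h2 : Nat.card M ≠ Nat.card G := fun e => hMtop (Subgroup.eq_top_of_card_eq M e)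
        omega
      obtain ⟨P, hPn, hPab, hPp, hPi⟩ := ih M hMlt inferInstance fun θ hd => by
        obtain ⟨χ, hχ⟩ := exists_degree_dvd_of_normal θ
        exact hdeg χ (hd.trans hχ)
      haveI := hPn
      haveI : P.Characteristic := by
        haveI : (hPp.toSylow hPi : Subgroup M).Normal := by rwa [IsPGroup.toSylow_coe]
        have := Sylow.characteristic_of_normal (hPp.toSylow hPi)
        simp only [IsPGroup.toSylow_coe] at this
        exact this hPn
      refine ⟨P.map M.subtype, Core.normal_map_subtype_of_characteristic P, ?_, hPp.map _, ?_⟩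
      · rintro _ ⟨x, hx, rfl⟩ _ ⟨y, hy, rfl⟩
        rw [← map_mul, ← map_mul, hPab x hx y hy]
      · rw [Subgroup.index_map_subtype]
        exact hp.out.not_dvd_mul hPi hMi

end Cfsg.Agent.Chars2
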