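import Cfsg.Agent.Blocks.NormSum
import Cfsg.Agent.Blocks.PrincipalConst
import Cfsg.Agent.Blocks.PPart
import Cfsg.Prelude.Def_BlockRank

/-!
The principal `2`-block when a Sylow `2`-subgroup is a four-group and there is one class of
involutions.
-/

set_option autoImplicit false
set_option linter.unusedSectionVars false
set_option linter.style.haveILetI false

namespace Cfsg.Agent.Chars2

open Cfsg Cfsg.Agent Cfsg.Agent.Blocks
open scoped ComplexConjugate

universe u

variable {G : Type u} [Group G]

theorem mem_of_two_power_normalizes [Finite G] (Q : Sylow 2 G) {w : G} {j : ℕ}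
    (hw : w ^ 2 ^ j = 1) (hn : w ∈ Subgroup.normalizer ((Q : Subgroup G) : Set G)) :
    w ∈ (Q : Subgroup G) := by
  haveI : Fact (Nat.Prime 2) := ⟨Nat.prime_two⟩
  have hp : IsPGroup 2 (Subgroup.zpowers w) := by
    obtain ⟨i, -, hi⟩ := (Nat.dvd_prime_pow Nat.prime_two).1 (orderOf_dvd_of_pow_eq_one hw)
    exact IsPGroup.of_card (n := i) (by rw [Nat.card_zpowers, hi])
  have h := hp.inf_normalizer_sylow Q
  have h2 : w ∈ Subgroup.zpowers w ⊓ (Q : Subgroup G) :=
    (SetLike.ext_iff.1 h w).1 (Subgroup.mem_inf.2 ⟨Subgroup.mem_zpowers w, hn⟩)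
  exact h2.2

/-- A group with an involution central in it and a four-group Sylow `2`-subgroup has a normal
`2`-complement. -/
theorem exists_complement_of_central [Finite G] (Q : Sylow 2 G) (hQ : Nat.card Q = 4)
    (hexp : ∀ x ∈ (Q : Subgroup G), x * x = 1) (t : G) (ht : t ∈ (Q : Subgroup G)) (ht1 : t ≠ 1)
    (htc : ∀ g : G, g * t = t * g) :
    ∃ (N : Subgroup G) (_ : N.Normal), ¬ 2 ∣ Nat.card N ∧ N.index = 2 ^ 2 := by
  classical
  haveI : Fact (Nat.Prime 2) := ⟨Nat.prime_two⟩
  have hcomm : ∀ a ∈ (Q : Subgroup G), ∀ b ∈ (Q : Subgroup G), a * b = b * a := by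
    intro a ha b hb
    have h1 := hexp _ ((Q : Subgroup G).mul_mem ha hb)
    calc a * b = a * (a * b * (a * b)) * b := by rw [h1]; group
      _ = (a * a) * b * a * (b * b) := by group
      _ = b * a := by rw [hexp a ha, hexp b hb]; group
  have hN : Subgroup.normalizer ((Q : Subgroup G) : Set G) ≤
      Subgroup.centralizer ((Q : Subgroup G) : Set G) := by
    intro c hc
    rw [Subgroup.mem_centralizer_iff]
    intro a ha
    -- the elements of Q
    have hfour : ∀ x ∈ (Q : Subgroup G), a ≠ 1 → a ≠ t → x = 1 ∨ x = t ∨ x = a ∨ x = t * a := by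
      intro x hx ha1 hat
      by_contra hne
      push Not at hne
      obtain ⟨h1, h2, h3, h4⟩ := hne
      have hta1 : t * a ≠ 1 := fun h => hat (by
        rw [← mul_left_cancel (h.trans (hexp t ht).symm)])
      have hcard : ({1, t, a, t * a, x} : Finset G).card = 5 := by
        have e1 : t ≠ t * a := fun h => ha1 (by simpa using h.symm)
        have e2 : a ≠ t * a := fun h => ht1 (by simpa using h.symm)
        simp [Finset.card_insert_of_notMem, ht1.symm, Ne.symm ha1, Ne.symm hta1, Ne.symm h1,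
          Ne.symm hat, e1, Ne.symm h2, e2, Ne.symm h3, Ne.symm h4]
      have hsub : ({1, t, a, t * a, x} : Finset G) ⊆
          ((Set.toFinite ((Q : Subgroup G) : Set G)).toFinset) := by
        intro y hy
        rw [Set.Finite.mem_toFinset]
        simp only [Finset.mem_insert, Finset.mem_singleton] at hy
        rcases hy with rfl | rfl | rfl | rfl | rfl
        exacts [(Q : Subgroup G).one_mem, ht, ha, (Q : Subgroup G).mul_mem ht ha, hx]
      have h5 := Finset.card_le_card hsub
      rw [hcard, ← Set.ncard_eq_toFinset_card, ← Nat.card_coe_set_eq] at h5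
      have : Nat.card ((Q : Subgroup G) : Set G) = 4 := hQ
      omega
    by_cases ha1 : a = 1
    · subst ha1; simp
    by_cases hat : a = t
    · subst hat; exact (htc c).symm
    have hca := (Subgroup.mem_normalizer_iff.1 hc a).1 ha
    rcases hfour _ hca ha1 hat with h | h | h | h
    · exact absurd (conj_eq_one_iff.1 h) ha1
    · refine absurd ?_ hat
      calc a = c⁻¹ * (c * a * c⁻¹) * c := by group
        _ = t := by rw [h, mul_assoc, ← htc c]; group
    · exact (mul_inv_eq_iff_eq_mul.1 h).symm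
    · exfalso
      -- conjugation by c has order two on a, but its 2-part lies in Q
      have htt : t * (t * a) = a := by rw [← mul_assoc, hexp t ht, one_mul]
      have h2 : c * (t * a) * c⁻¹ = a := by
        calc c * (t * a) * c⁻¹ = (c * t * c⁻¹) * (c * a * c⁻¹) := by group
          _ = t * (t * a) := by rw [h, htc c, mul_inv_cancel_right]
          _ = a := htt
      have hsq : c ^ 2 * a = a * c ^ 2 := by
        have h3 : c ^ 2 * a * (c ^ 2)⁻¹ = a := by
          calc c ^ 2 * a * (c ^ 2)⁻¹ = c * (c * a * c⁻¹) * c⁻¹ := by simp [pow_two, mul_assoc]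
            _ = a := by rw [h, h2]
        exact mul_inv_eq_iff_eq_mul.1 h3
      set m := orderOf c / 2 ^ (orderOf c).factorization 2 with hm
      have hmodd : Odd m := by
        rw [Nat.odd_iff]
        have := Nat.not_dvd_ordCompl Nat.prime_two (orderOf_pos c).ne'
        rw [← hm] at this
        omega
      have hmQ : c ^ m ∈ (Q : Subgroup G) := by
        refine mem_of_two_power_normalizes Q (j := (orderOf c).factorization 2) ?_ (Subgroup.pow_mem _ hc m)
        rw [← pow_mul, hm, mul_comm, Nat.mul_div_cancel' (Nat.ordProj_dvd _ 2), pow_orderOf_eq_one]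
      obtain ⟨j, hj⟩ := hmodd
      have h4 : c * a = a * c := by
        have hcm : Commute (c ^ m) a := hcomm _ hmQ a ha
        have hc2 : Commute (c ^ (2 * j)) a := by rw [pow_mul]; exact (show Commute (c ^ 2) a from hsq).pow_left j
        have e : c = (c ^ (2 * j))⁻¹ * c ^ m := by rw [hj, pow_succ, inv_mul_cancel_left]
        have hc1 := hc2.inv_left.mul_left hcm
        rwa [← e] at hc1
      rw [h4, mul_inv_cancel_right] at h
      exact ht1 (by simpa using h.symm)
  refine ⟨(MonoidHom.transferSylow Q hN).ker, inferInstance, ?_, ?_⟩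
  · exact MonoidHom.not_dvd_card_ker_transferSylow Q hN
  · rw [(MonoidHom.ker_transferSylow_isComplement' Q hN).symm.index_eq_card, hQ]
    norm_num

variable [Fintype G] {M : Ideal AlgInt} [M.IsMaximal]

theorem int_value_involution (χ : IrrCharacter G) {t : G} (ht : t ^ 2 = 1) :
    ∃ z : ℤ, (χ : G → ℂ) t = (z : ℂ) := by
  obtain ⟨n, ρ, -, hρ⟩ := χ.2
  obtain ⟨z, hz, hc, -, -⟩ := Chars.exists_eigenvalues ρ t
  have hpm : ∀ i, z i = 1 ∨ z i = -1 := fun i => by
    have h1 : z i ^ 2 = 1 := by
      obtain ⟨j, hj⟩ := orderOf_dvd_of_pow_eq_one ht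
      rw [hj, pow_mul, hz i, one_pow]
    rcases mul_self_eq_one_iff.1 (show z i * z i = 1 by rw [← pow_two]; exact h1) with h | h
    · exact Or.inl h
    · exact Or.inr h
  refine ⟨∑ i, if z i = 1 then (1 : ℤ) else -1, ?_⟩
  rw [← hρ, ← pow_one t, hc 1, Int.cast_sum]
  refine Finset.sum_congr rfl fun i _ => ?_
  rcases hpm i with h | h
  · simp [h]
  · rw [h, if_neg (by norm_num)]; simp

/-- The principal block rank is three. -/
theorem blockRank_klein (h2M : ((2 : ℕ) : AlgInt) ∈ M) (P : Sylow 2 G) (hP : Nat.card P = 4)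
    (hexp : ∀ x : P, x * x = 1) (hone : ∀ s t : G, orderOf s = 2 → orderOf t = 2 → IsConj s t) :
    blockRank 2 (principalBlock M G) = 3 := by
  classical
  haveI : Fact (Nat.Prime 2) := ⟨Nat.prime_two⟩
  obtain ⟨⟨t, htP⟩, hto⟩ := exists_prime_orderOf_dvd_card' 2 (G := (P : Subgroup G)) (by rw [hP]; norm_num)
  rw [Subgroup.orderOf_mk] at hto
  have hexp' : ∀ x ∈ (P : Subgroup G), x * x = 1 := fun x hx => congrArg Subtype.val (hexp ⟨x, hx⟩)
  set C := Subgroup.centralizer ({t} : Set G) with hC
  letI : Fintype C := Fintype.ofFinite _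
  have hPC : (P : Subgroup G) ≤ C := fun x hx => by
    rw [hC, Subgroup.mem_centralizer_singleton_iff]
    have h1 := hexp' _ ((P : Subgroup G).mul_mem hx htP)
    calc x * t = x * (x * t * (x * t)) * t := by rw [h1]; group
      _ = (x * x) * t * x * (t * t) := by group
      _ = t * x := by rw [hexp' x hx, hexp' t htP]; group
  let Q : Sylow 2 C := P.subtype hPC
  have hQc : Nat.card Q = 4 := by
    rw [← hP]
    exact Nat.card_congr (Subgroup.subgroupOfEquivOfLe hPC).toEquiv
  have ht1 : t ≠ 1 := fun h => by rw [h, orderOf_one] at hto; norm_num at hto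
  obtain ⟨N, hNn, hNodd, hNidx⟩ := exists_complement_of_central Q hQc
    (fun x hx => Subtype.ext (hexp' _ hx)) ⟨t, hPC htP⟩ htP
    (fun h => ht1 (congrArg Subtype.val h))
    (fun g => Subtype.ext (Subgroup.mem_centralizer_singleton_iff.1 g.2))
  haveI := hNn
  letI : Fintype N := Fintype.ofFinite _
  set B := principalBlock M G with hB
  -- values on the singular elements
  have hsing : ∀ g : G, 2 ∣ orderOf g → ∀ χ ∈ B, (χ : G → ℂ) g = (χ : G → ℂ) t := by
    intro g hg χ hχ
    obtain ⟨y, hy, hxy, ⟨k, hk⟩, hyr⟩ := isPPart_ppart (p := 2) g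
    set x := ppart 2 g
    have hx1 : x ≠ 1 := fun h => (ppart_one_iff.1 h) hg
    obtain ⟨R, hR⟩ := IsPGroup.exists_le_sylow (P := Subgroup.zpowers x)
      (IsPGroup.of_card (n := k) (by rw [Nat.card_zpowers, hk]))
    obtain ⟨c, hc⟩ := MulAction.exists_smul_eq G R P
    have hxP : c * x * c⁻¹ ∈ (P : Subgroup G) := by
      rw [← hc, Sylow.coe_subgroup_smul]
      exact ⟨x, hR (Subgroup.mem_zpowers x), rfl⟩
    have hxo : orderOf x = 2 := by
      refine orderOf_eq_prime ?_ hx1
      have h := hexp' _ hxP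
      rw [pow_two, ← conj_eq_one_iff (a := c), ← h]; group
    obtain ⟨a, ha⟩ := isConj_iff.1 (hone x t hxo hto)
    have hmem : a * y * a⁻¹ ∈ C := by
      rw [hC, Subgroup.mem_centralizer_singleton_iff, ← ha]
      calc a * y * a⁻¹ * (a * x * a⁻¹) = a * (y * x) * a⁻¹ := by group
        _ = a * (x * y) * a⁻¹ := by rw [hxy.eq]
        _ = a * x * a⁻¹ * (a * y * a⁻¹) := by group
    have hyN : (⟨_, hmem⟩ : C) ∈ N := BlockChar.mem_of_isPRegular_of_index (p := 2) hNidx (by
      show ¬ 2 ∣ orderOf _
      rw [Subgroup.orderOf_mk, ← MulAut.conj_apply, MulEquiv.orderOf_eq]; exact hyr)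
    have hv : a * y * a⁻¹ ∈ centralizerPPrimeCore 2 t := by
      refine Subgroup.mem_map.2 ⟨⟨_, hmem⟩, ?_, rfl⟩
      exact le_sSup (s := {K : Subgroup C | K.Normal ∧ (Nat.card K).Coprime 2})
        ⟨hNn, ((Nat.prime_two.coprime_iff_not_dvd).2 hNodd).symm⟩ hyN
    have h := apply_mul_centralizerPPrimeCore h2M ⟨1, by rw [hto, pow_one]⟩ hv hχ
    rw [← h, ← Chars.isClassFunction_irr χ g a]
    congr 1
    rw [← hy, ← ha]; group
  have hv : ∀ χ : IrrCharacter G, ∃ z : ℤ, (χ : G → ℂ) t = (z : ℂ) := fun χ =>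
    int_value_involution χ (by rw [← hto, pow_orderOf_eq_one])
  choose v hv using hv
  set S := Finset.univ.filter (· ∈ B) with hS
  have hnorm : ∑ χ ∈ S, v χ * v χ = 4 := by
    have h1 := norm_sum_principal (M := M) h2M (z := t) ⟨1, by rw [hto, pow_one]⟩ (y := 1)
      (by rw [orderOf_one]; norm_num)
    have h2 := (sum_sq_principal (M := M) (G := C) h2M hNodd hNidx (y := 1)
      (by rw [orderOf_one]; norm_num)).1
    rw [h2] at h1
    simp only [OneMemClass.coe_one, mul_one] at h1
    have h3 : ((∑ χ ∈ S, v χ * v χ : ℤ) : ℂ) = ((4 : ℤ) : ℂ) := by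
      rw [Int.cast_sum]
      rw [Finset.sum_congr rfl fun χ _ => show ((v χ * v χ : ℤ) : ℂ) =
        (χ : G → ℂ) t * conj ((χ : G → ℂ) t) by rw [hv, Int.cast_mul, map_intCast]]
      rw [h1]; norm_num
    exact_mod_cast h3
  have hidxodd : ¬ 2 ∣ C.index := by
    intro h
    have h1 := P.not_dvd_index
    exact h1 (h.trans (Subgroup.index_dvd_of_le hPC))
  have hne : ∀ χ ∈ S, v χ ≠ 0 := by
    intro χ hχ h0
    have h := (Finset.mem_filter.1 hχ).2 t
    rw [centralChar, centralChar, hv χ, h0, Int.cast_zero, mul_zero, zero_div, sub_zero, mul_one,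
      div_one, memI_natCast_iff h2M] at h
    exact hidxodd h
  have hone1 : oneChar G ∈ S := Finset.mem_filter.2 ⟨Finset.mem_univ _, one_mem_principal⟩
  have hv1 : v (oneChar G) = 1 := by
    have := hv (oneChar G)
    rw [coe_oneChar] at this
    simp only at this
    exact_mod_cast this.symm
  have hsq : ∀ χ ∈ S, v χ * v χ = 1 := by
    intro χ hχ
    by_contra hc
    have hpos : ∀ ψ ∈ S, 0 ≤ v ψ * v ψ := fun ψ _ => mul_self_nonneg _
    have hne1 : χ ≠ oneChar G := fun h => hc (by rw [h, hv1]; rfl)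
    have h1 : v χ * v χ + v (oneChar G) * v (oneChar G) ≤ 4 := by
      rw [← hnorm, ← Finset.sum_pair (f := fun ψ => v ψ * v ψ) hne1]
      exact Finset.sum_le_sum_of_subset_of_nonneg (by
        intro x hx; simp only [Finset.mem_insert, Finset.mem_singleton] at hx
        rcases hx with rfl | rfl
        exacts [hχ, hone1]) fun ψ hψ _ => hpos ψ hψ
    rw [hv1] at h1
    have h0 := hne χ hχ
    rcases le_or_gt (v χ) 0 with hs | hs
    · have : v χ = -1 ∨ v χ ≤ -2 := by omega
      rcases this with h | h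
      · exact hc (by rw [h]; rfl)
      · nlinarith
    · have : v χ = 1 ∨ 2 ≤ v χ := by omega
      rcases this with h | h
      · exact hc (by rw [h]; rfl)
      · nlinarith
  have hcard : S.card = 4 := by
    rw [Finset.sum_congr rfl hsq] at hnorm
    have h4 : ((S.card : ℕ) : ℤ) = 4 := by simpa using hnorm
    exact_mod_cast h4
  -- the rank
  have himg : (fun χ : IrrCharacter G => pRegularPart 2 (χ : G → ℂ)) '' B =
      Set.range fun χ : S => pRegularPart 2 ((χ : IrrCharacter G) : G → ℂ) := by
    ext f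
    simp [hS]
  let L : (S → ℂ) →ₗ[ℂ] (G → ℂ) := Fintype.linearCombination ℂ
    (fun χ : S => pRegularPart 2 ((χ : IrrCharacter G) : G → ℂ))
  let vv : S → ℂ := fun χ => ((v χ : ℤ) : ℂ)
  have hreg : ∀ (χ : IrrCharacter G) (g : G),
      pRegularPart 2 (χ : G → ℂ) g = if 2 ∣ orderOf g then 0 else (χ : G → ℂ) g := fun χ g => by
    simp only [pRegularPart, IsPRegular]
    by_cases h : 2 ∣ orderOf g <;> simp [h]
  have hL : ∀ (c : S → ℂ) (g : G), L c g =
      if 2 ∣ orderOf g then 0 else ∑ χ : S, c χ * ((χ : IrrCharacter G) : G → ℂ) g := by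
    intro c g
    simp only [L, Fintype.linearCombination_apply, Finset.sum_apply, Pi.smul_apply, smul_eq_mul,
      hreg]
    split_ifs <;> simp
  have hvsq : ∑ χ : S, vv χ * vv χ = 4 := by
    rw [Finset.sum_coe_sort S (fun χ => ((v χ : ℤ) : ℂ) * ((v χ : ℤ) : ℂ))]
    exact_mod_cast hnorm
  have hG : ∀ g : G, (∑ χ : S, vv χ * ((χ : IrrCharacter G) : G → ℂ) g) =
      if 2 ∣ orderOf g then 4 else 0 := by
    intro g
    by_cases hg : 2 ∣ orderOf g
    · rw [if_pos hg, ← hvsq]
      exact Finset.sum_congr rfl fun χ _ => by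
        rw [hsing g hg χ.1 (Finset.mem_filter.1 χ.2).2, hv]
    · rw [if_neg hg]
      have h := block_orth_weak (M := M) h2M isPBlock_principal hg (y := t) (by rw [hto])
      rw [← h, Finset.sum_coe_sort S (fun χ => ((v χ : ℤ) : ℂ) * ((χ : G → ℂ) g))]
      exact Finset.sum_congr rfl fun χ _ => by rw [hv χ, map_intCast, mul_comm]
  have hker : LinearMap.ker L = Submodule.span ℂ {vv} := by
    refine le_antisymm (fun c hc => ?_) ((Submodule.span_singleton_le_iff_mem _ _).2 ?_)
    · rw [LinearMap.mem_ker] at hc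
      set lam := ∑ χ : S, c χ * vv χ with hlam
      refine Submodule.mem_span_singleton.2 ⟨lam / 4, ?_⟩
      have hF : ∀ g : G, ∑ χ : S, (c χ - lam / 4 * vv χ) * ((χ : IrrCharacter G) : G → ℂ) g = 0 := by
        intro g
        simp only [sub_mul, Finset.sum_sub_distrib, mul_assoc, ← Finset.mul_sum, hG g]
        by_cases hg : 2 ∣ orderOf g
        swap
        · rw [if_neg hg]
          have h := congrFun hc g
          rw [hL, if_neg hg] at h
          rw [h]; simp
        · rw [if_pos hg]
          rw [Finset.sum_congr rfl fun χ _ => by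
            rw [hsing g hg χ.1 (Finset.mem_filter.1 χ.2).2, hv]]
          rw [div_mul_cancel₀ _ (by norm_num : (4 : ℂ) ≠ 0), sub_eq_zero]
      have hli := Fintype.linearIndependent_iff.1
        ((Chars.irr_linearIndependent (G := G)).comp (Subtype.val : S → IrrCharacter G)
          Subtype.val_injective) (fun χ => c χ - lam / 4 * vv χ) (funext fun g => by
            simpa [Finset.sum_apply] using hF g)
      funext χ
      rw [Pi.smul_apply, smul_eq_mul]
      exact (sub_eq_zero.1 (hli χ)).symm
    · rw [LinearMap.mem_ker]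
      funext g
      rw [hL]
      by_cases hg : 2 ∣ orderOf g
      · rw [if_pos hg]; rfl
      · rw [if_neg hg, hG, if_neg hg]; rfl
  have hvv : vv ≠ 0 := fun h => by
    have := congrFun h ⟨oneChar G, hone1⟩
    simp [vv, hv1] at this
  have hrk := LinearMap.finrank_range_add_finrank_ker L
  rw [hker, finrank_span_singleton hvv, Module.finrank_fintype_fun_eq_card, Fintype.card_coe, hcard,
    Fintype.range_linearCombination, ← himg] at hrk
  unfold blockRank
  omega

end Cfsg.Agent.Chars2
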