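import Mathlib.LinearAlgebra.BilinearForm.Orthogonal
import Mathlib.LinearAlgebra.Trace
import Mathlib.LinearAlgebra.Dual.Lemmas
import Mathlib.FieldTheory.Minpoly.Field
import Mathlib.FieldTheory.IsAlgClosed.Basic
import Mathlib.RingTheory.Nilpotent.Basic

/-!
Subalgebras of a product of endomorphism algebras which are their own orthogonal complement for a
weighted trace form: a set of factors which is not joined to its complement by a pair of opposite
weights has its indicator in the subalgebra.
-/

set_option autoImplicit false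

namespace Cfsg.Agent.Chars2.Edge

open Module

universe v w

variable {k : Type v} [Field k]

section nilpotent

/-- A space of nilpotent endomorphisms closed under composition is small. -/
theorem exists_common_kernel {V : Type w} [AddCommGroup V] [Module k V] [FiniteDimensional k V]
    [Nontrivial V] (J : Submodule k (Module.End k V)) (hmul : ∀ x ∈ J, ∀ y ∈ J, x * y ∈ J)
    (hnil : ∀ x ∈ J, IsNilpotent x) : ∃ v : V, v ≠ 0 ∧ ∀ x ∈ J, x v = 0 := by
  classical
  have hex : ∃ d, ∃ U : Submodule k V, U ≠ ⊥ ∧ (∀ x ∈ J, ∀ u ∈ U, x u ∈ U) ∧ finrank k U = d :=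
    ⟨_, ⊤, top_ne_bot, fun _ _ _ _ => trivial, rfl⟩
  obtain ⟨U, hU0, hUJ, hUd⟩ := Nat.find_spec hex
  obtain ⟨u, hu, hu0⟩ := Submodule.exists_mem_ne_zero_of_ne_bot hU0
  by_contra hc
  push Not at hc
  have : ∀ u ∈ U, u ≠ 0 → ∃ x ∈ J, x u = u := by
    intro u hu hu0
    obtain ⟨x₀, hx₀, hx₀u⟩ := hc u hu0
    let W : Submodule k V := J.map ((LinearMap.id : Module.End k V →ₗ[k] Module.End k V).flip u)
    have hW : ∀ z, z ∈ W ↔ ∃ x ∈ J, x u = z := fun z => by
      simp [W, Submodule.mem_map, LinearMap.flip_apply]
    have hWU : W ≤ U := fun z hz => by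
      obtain ⟨x, hx, rfl⟩ := (hW z).1 hz
      exact hUJ x hx u hu
    have hW0 : W ≠ ⊥ := fun e => hx₀u (by
      have h1 : x₀ u ∈ W := (hW _).2 ⟨x₀, hx₀, rfl⟩
      rwa [e, Submodule.mem_bot] at h1)
    have hle : Nat.find hex ≤ finrank k W := Nat.find_min' hex ⟨W, hW0, fun x hx z hz => by
      obtain ⟨y, hy, rfl⟩ := (hW z).1 hz
      exact (hW _).2 ⟨x * y, hmul x hx y hy, rfl⟩, rfl⟩
    have heq : W = U := Submodule.eq_of_le_of_finrank_le hWU (hUd ▸ hle)
    exact (hW u).1 (heq ▸ hu)
  obtain ⟨x, hx, hxu⟩ := this u hu hu0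
  obtain ⟨N, hN⟩ := hnil x hx
  have : ∀ i : ℕ, (x ^ i) u = u := fun i => by
    induction i with
    | zero => simp
    | succ i ih => rw [pow_succ, Module.End.mul_apply, hxu, ih]
  exact hu0 (by rw [← this N, hN]; rfl)

theorem two_mul_finrank_nilpotent_le : ∀ (d : ℕ) (V : Type w) [AddCommGroup V] [Module k V]
    [FiniteDimensional k V] (J : Submodule k (Module.End k V)),
    (∀ x ∈ J, ∀ y ∈ J, x * y ∈ J) → (∀ x ∈ J, IsNilpotent x) → finrank k V = d →
    2 * finrank k J + d ≤ d ^ 2 := by
  intro d
  induction d using Nat.strong_induction_on with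
  | _ d ih =>
    intro V _ _ _ J hmul hnil hd
    rcases Nat.eq_zero_or_pos d with h0 | h0
    · subst h0
      have h1 : finrank k (Module.End k V) = 0 := by
        rw [Module.finrank_linearMap, hd, mul_zero]
      have := Submodule.finrank_le J
      omega
    haveI : Nontrivial V := Module.finrank_pos_iff.1 (hd ▸ h0)
    obtain ⟨v, hv0, hv⟩ := exists_common_kernel J hmul hnil
    set K : Submodule k V := Submodule.span k {v} with hK
    have hKJ : ∀ x ∈ J, K ≤ K.comap x := fun x hx => by
      rw [hK, Submodule.span_le, Set.singleton_subset_iff]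
      simp [hv x hx]
    let φ : J →ₗ[k] Module.End k (V ⧸ K) :=
      { toFun := fun x => K.mapQ K x.1 (hKJ x.1 x.2)
        map_add' := fun x y => Submodule.linearMap_qext _ (LinearMap.ext fun z => rfl)
        map_smul' := fun c x => Submodule.linearMap_qext _ (LinearMap.ext fun z => rfl) }
    have hmulφ : ∀ x y : J, φ x * φ y = φ ⟨x.1 * y.1, hmul _ x.2 _ y.2⟩ := fun x y =>
      Submodule.linearMap_qext _ (LinearMap.ext fun z => rfl)
    have hQ : finrank k (V ⧸ K) + 1 = d := by
      have h1 := K.finrank_quotient_add_finrank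
      rw [hK, finrank_span_singleton hv0, hd] at h1
      exact h1
    have h2 := ih (finrank k (V ⧸ K)) (by omega) (V ⧸ K) (LinearMap.range φ)
      (by rintro _ ⟨x, rfl⟩ _ ⟨y, rfl⟩; exact ⟨_, (hmulφ x y).symm⟩)
      (by
        rintro _ ⟨x, rfl⟩
        obtain ⟨N, hN⟩ := hnil x.1 x.2
        refine ⟨N, Submodule.linearMap_qext _ (LinearMap.ext fun z => ?_)⟩
        have : ∀ i : ℕ, ((φ x) ^ i) (K.mkQ z) = K.mkQ ((x.1 ^ i) z) := fun i => by
          induction i with
          | zero => rfl
          | succ i ih => rw [pow_succ', pow_succ', Module.End.mul_apply, ih]; rfl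
        rw [LinearMap.comp_apply, this, hN]
        simp) rfl
    have hker : finrank k (LinearMap.ker φ) ≤ finrank k (V ⧸ K) := by
      have hmem : ∀ x : LinearMap.ker φ, ∀ z, x.1.1 z ∈ K := fun x z => by
        have h3 := congrArg (fun f : Module.End k (V ⧸ K) => f (K.mkQ z)) (LinearMap.mem_ker.1 x.2)
        exact (Submodule.Quotient.mk_eq_zero K).1 h3
      let ψ : LinearMap.ker φ →ₗ[k] ((V ⧸ K) →ₗ[k] K) :=
        { toFun := fun x => K.liftQ (x.1.1.codRestrict K (hmem x)) ((Submodule.span_le).2
            (Set.singleton_subset_iff.2 (Subtype.ext (hv _ x.1.2))))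
          map_add' := fun x y => Submodule.linearMap_qext _ (LinearMap.ext fun z => rfl)
          map_smul' := fun c x => Submodule.linearMap_qext _ (LinearMap.ext fun z => rfl) }
      have hψ : Function.Injective ψ := fun x y hxy => by
        refine Subtype.ext (Subtype.ext (LinearMap.ext fun z => ?_))
        exact congrArg (fun f : (V ⧸ K) →ₗ[k] K => (f (K.mkQ z) : V)) hxy
      refine le_trans (LinearMap.finrank_le_finrank_of_injective hψ) ?_
      rw [Module.finrank_linearMap, hK, finrank_span_singleton hv0, mul_one]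
    have h3 := LinearMap.finrank_range_add_finrank_ker φ
    set q := finrank k (V ⧸ K)
    rw [← hQ]
    nlinarith

theorem two_mul_finrank_nilpotent_pi_le {ι : Type*} [Fintype ι] (V : ι → Type w)
    [∀ i, AddCommGroup (V i)] [∀ i, Module k (V i)] [∀ i, FiniteDimensional k (V i)]
    (J : Submodule k (Π i, Module.End k (V i))) (hmul : ∀ x ∈ J, ∀ y ∈ J, x * y ∈ J)
    (hnil : ∀ x ∈ J, IsNilpotent x) :
    2 * finrank k J + ∑ i, finrank k (V i) ≤ ∑ i, finrank k (V i) ^ 2 := by
  classical
  let Ji : ∀ i, Submodule k (Module.End k (V i)) := fun i => J.map (LinearMap.proj i)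
  have h1 : ∀ i, 2 * finrank k (Ji i) + finrank k (V i) ≤ finrank k (V i) ^ 2 := fun i => by
    refine two_mul_finrank_nilpotent_le _ (V i) (Ji i) ?_ ?_ rfl
    · rintro _ ⟨x, hx, rfl⟩ _ ⟨y, hy, rfl⟩
      exact ⟨x * y, hmul x hx y hy, rfl⟩
    · rintro _ ⟨x, hx, rfl⟩
      obtain ⟨N, hN⟩ := hnil x hx
      exact ⟨N, congrFun hN i⟩
  let f : J →ₗ[k] Π i, Ji i :=
    LinearMap.pi fun i => ((LinearMap.proj i).comp J.subtype).codRestrict (Ji i)
      (fun x => ⟨x.1, x.2, rfl⟩)
  have hf : Function.Injective f := fun x y h => by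
    refine Subtype.ext (funext fun i => ?_)
    exact congrArg (fun g : Π i, Ji i => (g i : Module.End k (V i))) h
  have h2 := LinearMap.finrank_le_finrank_of_injective hf
  rw [Module.finrank_pi_fintype] at h2
  have h3 := Finset.sum_le_sum (s := Finset.univ) fun i _ => h1 i
  rw [Finset.sum_add_distrib, ← Finset.mul_sum] at h3
  omega

end nilpotent

section key

variable {R : Type*} [Ring R] [Algebra k R]

theorem isNilpotent_mul_of_local [Nontrivial R]
    (hloc : ∀ x : R, ∃ c : k, IsNilpotent (x - algebraMap k R c)) {x : R} (hx : IsNilpotent x)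
    (z : R) : IsNilpotent (z * x) := by
  obtain ⟨c, hc⟩ := hloc (z * x)
  by_cases h0 : c = 0
  · simpa [h0] using hc
  exfalso
  have hu : IsUnit (z * x) := by
    have h1 := hc.isUnit_add_right_of_commute ((IsUnit.mk0 c h0).map (algebraMap k R))
      (Algebra.commutes c (z * x - algebraMap k R c)).symm
    rwa [sub_add_cancel] at h1
  obtain ⟨y, hy⟩ := hu.exists_left_inv
  obtain ⟨N, hN⟩ := hx
  have : ∀ i : ℕ, (y * z) ^ i * x ^ i = 1 := fun i => by
    induction i with
    | zero => simp
    | succ i ih => rw [pow_succ, pow_succ', mul_assoc, ← mul_assoc (y * z), mul_assoc y, hy,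
        one_mul, ih]
  have h := this N
  rw [hN, mul_zero] at h
  exact zero_ne_one h

variable [IsAlgClosed k] [FiniteDimensional k R]

/-- Without idempotents other than zero and one, every element has a single eigenvalue. -/
theorem exists_nilpotent_sub [Nontrivial R] (hid : ∀ e : R, IsIdempotentElem e → e = 0 ∨ e = 1)
    (x : R) : ∃ c : k, IsNilpotent (x - algebraMap k R c) := by
  have hint : IsIntegral k x := IsIntegral.of_finite k x
  set q := minpoly k x with hq
  have hqd : q.degree ≠ 0 := (minpoly.degree_pos hint).ne'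
  obtain ⟨c, hc⟩ := IsAlgClosed.exists_root q hqd
  have hq0 : q ≠ 0 := minpoly.ne_zero hint
  obtain ⟨r, hr, hrc⟩ := Polynomial.exists_eq_pow_rootMultiplicity_mul_and_not_dvd q hq0 c
  set a := q.rootMultiplicity c
  have ha : 0 < a := (Polynomial.rootMultiplicity_pos hq0).2 hc
  have hcop : IsCoprime ((Polynomial.X - Polynomial.C c) ^ a) r :=
    ((Polynomial.irreducible_X_sub_C c).coprime_iff_not_dvd.2 hrc).pow_left
  obtain ⟨u, w, huw⟩ := hcop
  have hP : Polynomial.aeval x q = 0 := minpoly.aeval k x
  set P := Polynomial.aeval x ((Polynomial.X - Polynomial.C c) ^ a) with hPdef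
  set e := Polynomial.aeval x (w * r) with he
  have h1 : Polynomial.aeval x (u * (Polynomial.X - Polynomial.C c) ^ a) + e = 1 := by
    rw [he, ← map_add, huw, map_one]
  have hidem : IsIdempotentElem e := by
    have h3 : e * Polynomial.aeval x (u * (Polynomial.X - Polynomial.C c) ^ a) = 0 := by
      rw [he, ← map_mul, show w * r * (u * (Polynomial.X - Polynomial.C c) ^ a) = w * u * q by
        rw [hr]; ring, map_mul, hP, mul_zero]
    have h4 := congrArg (e * ·) h1
    simp only [mul_add, h3, zero_add, mul_one] at h4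
    exact h4
  rcases hid e hidem with h0 | h0
  · exfalso
    have h5 : Polynomial.aeval x r = 0 := by
      have h6 : r = u * q + r * (w * r) := by
        rw [hr]; linear_combination -r * huw
      rw [h6, map_add, map_mul, hP, mul_zero, map_mul, ← he, h0, mul_zero, zero_add]
    have hr0 : r ≠ 0 := fun h => hq0 (by rw [hr, h, mul_zero])
    have h7 := Polynomial.natDegree_le_of_dvd (minpoly.dvd k x h5) hr0
    rw [← hq, hr, Polynomial.natDegree_mul (pow_ne_zero _ (Polynomial.X_sub_C_ne_zero c)) hr0,
      Polynomial.natDegree_pow, Polynomial.natDegree_X_sub_C] at h7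
    omega
  · refine ⟨c, a, ?_⟩
    have h8 : P * e = 0 := by
      rw [hPdef, he, ← map_mul, show (Polynomial.X - Polynomial.C c) ^ a * (w * r) = w * q by
        rw [hr]; ring, map_mul, hP, mul_zero]
    rw [h0, mul_one, hPdef] at h8
    simpa using h8

/-- The nilpotent elements form a hyperplane. -/
theorem exists_nilpotent_submodule [Nontrivial R]
    (hid : ∀ e : R, IsIdempotentElem e → e = 0 ∨ e = 1) :
    ∃ J : Submodule k R, (∀ x ∈ J, IsNilpotent x) ∧ (∀ x ∈ J, ∀ y ∈ J, x * y ∈ J) ∧
      finrank k R ≤ finrank k J + 1 := by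
  have hloc := exists_nilpotent_sub (k := k) hid
  let J : Submodule k R :=
    { carrier := {x | IsNilpotent x}
      zero_mem' := IsNilpotent.zero
      add_mem' := by
        intro x y hx hy
        obtain ⟨c, hc⟩ := hloc (x + y)
        by_cases h0 : c = 0
        · show IsNilpotent (x + y)
          simpa [h0] using hc
        exfalso
        have hu : IsUnit (x + y) := by
          have h1 := hc.isUnit_add_right_of_commute ((IsUnit.mk0 c h0).map (algebraMap k R))
            (Algebra.commutes c (x + y - algebraMap k R c)).symm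
          rwa [sub_add_cancel] at h1
        obtain ⟨u, hu⟩ := hu
        have h2 : IsUnit ((↑u⁻¹ : R) * y) := by
          have h3 : (↑u⁻¹ : R) * y = 1 - ↑u⁻¹ * x := by
            rw [eq_sub_iff_add_eq, ← mul_add, add_comm y x, ← hu, Units.inv_mul]
          rw [h3]
          exact (isNilpotent_mul_of_local hloc hx _).isUnit_one_sub
        have h4 : IsUnit y := by
          have := u.isUnit.mul h2
          rwa [← mul_assoc, Units.mul_inv, one_mul] at this
        exact (not_isNilpotent_one (R := R)) (by
          obtain ⟨z, hz⟩ := h4.exists_left_inv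
          rw [← hz]; exact isNilpotent_mul_of_local hloc hy z)
      smul_mem' := fun c x hx => IsNilpotent.smul hx c }
  refine ⟨J, fun x hx => hx, fun x _ y hy => isNilpotent_mul_of_local hloc hy x, ?_⟩
  have htop : (⊤ : Submodule k R) ≤ J ⊔ Submodule.span k {1} := fun x _ => by
    obtain ⟨c, hc⟩ := hloc x
    rw [← sub_add_cancel x (algebraMap k R c)]
    exact add_mem (Submodule.mem_sup_left hc) (Submodule.mem_sup_right
      (by rw [Algebra.algebraMap_eq_smul_one]
          exact Submodule.smul_mem _ _ (Submodule.mem_span_singleton_self _)))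
  have h1 := Submodule.finrank_mono htop
  rw [finrank_top] at h1
  have h2 := Submodule.finrank_add_le_finrank_add_finrank J (Submodule.span k {(1 : R)})
  rw [finrank_span_singleton (one_ne_zero (α := R))] at h2
  omega

end key

section lagrangian

variable {ι : Type*} [Fintype ι]

/-- The weighted trace form. -/
noncomputable def form (u : ι → k) (V : ι → Type w) [∀ i, AddCommGroup (V i)]
    [∀ i, Module k (V i)] : LinearMap.BilinForm k (Π i, Module.End k (V i)) :=
  LinearMap.mk₂ k (fun x y => ∑ i, u i * LinearMap.trace k (V i) (x i * y i))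
    (fun x x' y => by simp [add_mul, mul_add, Finset.sum_add_distrib])
    (fun c x y => by simp [Finset.mul_sum, mul_left_comm])
    (fun x y y' => by simp [mul_add, Finset.sum_add_distrib])
    (fun c x y => by simp [Finset.mul_sum, mul_left_comm])

theorem form_apply (u : ι → k) (V : ι → Type w) [∀ i, AddCommGroup (V i)] [∀ i, Module k (V i)]
    (x y : Π i, Module.End k (V i)) :
    form u V x y = ∑ i, u i * LinearMap.trace k (V i) (x i * y i) := rfl

/-- A self orthogonal subalgebra. -/
def IsLagrangian (u : ι → k) {V : ι → Type w} [∀ i, AddCommGroup (V i)] [∀ i, Module k (V i)]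
    (S : Subalgebra k (Π i, Module.End k (V i))) : Prop :=
  ∀ x, x ∈ S ↔ ∀ y ∈ S, form u V x y = 0

theorem nondegenerate_form {u : ι → k} (hu : ∀ i, u i ≠ 0) (V : ι → Type w)
    [∀ i, AddCommGroup (V i)] [∀ i, Module k (V i)] [∀ i, FiniteDimensional k (V i)]
    {x : Π i, Module.End k (V i)} (h : ∀ y, form u V x y = 0) : x = 0 := by
  classical
  funext i
  refine LinearMap.ext fun z => ?_
  refine (Module.forall_dual_apply_eq_zero_iff k _).1 ?_
  intro φ
  have h1 := h (Pi.single i (φ.smulRight z))
  rw [form_apply, Finset.sum_eq_single i] at h1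
  · rw [Pi.single_eq_same, Module.End.mul_eq_comp] at h1
    have h2 : x i ∘ₗ φ.smulRight z = φ.smulRight (x i z) :=
      LinearMap.ext fun a => by simp
    rw [h2, LinearMap.trace_smulRight] at h1
    exact (mul_eq_zero.1 h1).resolve_left (hu i)
  · intro j _ hj
    rw [Pi.single_eq_of_ne hj, mul_zero, map_zero, mul_zero]
  · intro hi; exact absurd (Finset.mem_univ i) hi

variable [IsAlgClosed k]

/-- A Lagrangian subalgebra without nontrivial idempotents lives in dimension at most two. -/
theorem sum_finrank_le_two {u : ι → k} (hu : ∀ i, u i ≠ 0) {V : ι → Type w}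
    [∀ i, AddCommGroup (V i)] [∀ i, Module k (V i)] [∀ i, FiniteDimensional k (V i)]
    {S : Subalgebra k (Π i, Module.End k (V i))} (hS : IsLagrangian u S)
    (hid : ∀ e ∈ S, IsIdempotentElem e → e = 0 ∨ e = 1) :
    ∑ i, finrank k (V i) ≤ 2 := by
  classical
  set A := Π i, Module.End k (V i)
  have hdim : finrank k A = ∑ i, finrank k (V i) ^ 2 := by
    rw [Module.finrank_pi_fintype]
    exact Finset.sum_congr rfl fun i _ => by rw [Module.finrank_linearMap, pow_two]
  by_cases hV : ∀ i, finrank k (V i) = 0
  · simp [hV]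
  push Not at hV
  obtain ⟨i₀, hi₀⟩ := hV
  haveI : Nontrivial (V i₀) := Module.finrank_pos_iff.1 (Nat.pos_of_ne_zero hi₀)
  haveI : Nontrivial A := Pi.nontrivial_at i₀
  haveI : Nontrivial S := ⟨0, 1, fun h => zero_ne_one (congrArg Subtype.val h : (0 : A) = 1)⟩
  obtain ⟨J, hJn, hJm, hJd⟩ := exists_nilpotent_submodule (k := k) (R := S) (fun e he => by
    rcases hid e.1 e.2 (congrArg Subtype.val he.eq) with h | h
    · exact Or.inl (Subtype.ext h)
    · exact Or.inr (Subtype.ext h))
  have h1 := two_mul_finrank_nilpotent_pi_le V (J.map S.val.toLinearMap)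
    (by rintro _ ⟨x, hx, rfl⟩ _ ⟨y, hy, rfl⟩; exact ⟨x * y, hJm x hx y hy, rfl⟩)
    (by rintro _ ⟨x, hx, rfl⟩; exact (hJn x hx).map S.val)
  rw [← (Submodule.equivMapOfInjective S.val.toLinearMap Subtype.val_injective J).finrank_eq] at h1
  have hsymm : ∀ x y, form u V x y = form u V y x := fun x y => by
    simp only [form_apply]
    exact Finset.sum_congr rfl fun i _ => by rw [LinearMap.trace_mul_comm]
  have horth : (form u V).orthogonal S.toSubmodule = S.toSubmodule := by
    ext x
    rw [LinearMap.BilinForm.mem_orthogonal_iff, Subalgebra.mem_toSubmodule, hS x]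
    exact ⟨fun h y hy => by rw [hsymm]; exact h y hy, fun h y hy => by
      show form u V y x = 0; rw [hsymm]; exact h y hy⟩
  have hnd : (form u V).Nondegenerate :=
    ⟨fun x h => nondegenerate_form hu V h,
      fun x h => nondegenerate_form hu V fun y => by rw [hsymm]; exact h y⟩
  have h2 := LinearMap.BilinForm.finrank_orthogonal hnd S.toSubmodule
  rw [horth, hdim] at h2
  have h3 : finrank k S.toSubmodule = finrank k S := rfl
  have h4 : finrank k S.toSubmodule ≤ finrank k A := Submodule.finrank_le _
  rw [hdim] at h4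
  rw [h3] at h2 h4
  omega

theorem indicator_mem_aux {u : ι → k} (hu : ∀ i, u i ≠ 0) (Q : Set ι) [DecidablePred (· ∈ Q)]
    (hQ : ∀ a ∈ Q, ∀ b, b ∉ Q → u a + u b ≠ 0) :
    ∀ (d : ℕ) (V : ι → Type w) [∀ i, AddCommGroup (V i)] [∀ i, Module k (V i)]
      [∀ i, FiniteDimensional k (V i)] (S : Subalgebra k (Π i, Module.End k (V i))),
      IsLagrangian u S → ∑ i, finrank k (V i) = d →
      (fun i => if i ∈ Q then (1 : Module.End k (V i)) else 0) ∈ S := by
  intro d
  induction d using Nat.strong_induction_on with
  | _ d ih =>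
    intro V _ _ _ S hS hd
    classical
    set eQ : Π i, Module.End k (V i) := fun i => if i ∈ Q then 1 else 0 with heQ
    by_cases hid : ∀ e ∈ S, IsIdempotentElem e → e = 0 ∨ e = 1
    · have hle := sum_finrank_le_two hu hS hid
      by_cases hin : ∀ i, i ∉ Q → finrank k (V i) = 0
      · have : eQ = 1 := funext fun i => by
          by_cases hi : i ∈ Q
          · simp [eQ, hi]
          · haveI := Module.finrank_zero_iff.1 (hin i hi)
            exact Subsingleton.elim _ _
        rw [this]; exact one_mem S
      by_cases hout : ∀ i, i ∈ Q → finrank k (V i) = 0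
      · have : eQ = 0 := funext fun i => by
          by_cases hi : i ∈ Q
          · haveI := Module.finrank_zero_iff.1 (hout i hi)
            exact Subsingleton.elim _ _
          · simp [eQ, hi]
        rw [this]; exact zero_mem S
      exfalso
      push Not at hin hout
      obtain ⟨b, hb, hb0⟩ := hin
      obtain ⟨a, ha, ha0⟩ := hout
      have hab : a ≠ b := fun h => hb (h ▸ ha)
      have h3 : ∑ i ∈ ({a, b} : Finset ι), finrank k (V i) ≤ ∑ i, finrank k (V i) :=
        Finset.sum_le_sum_of_subset (Finset.subset_univ _)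
      rw [Finset.sum_pair hab] at h3
      have hoth : ∀ i, i ≠ a → i ≠ b → finrank k (V i) = 0 := fun i hia hib => by
        have h4 : ∑ j ∈ ({i, a, b} : Finset ι), finrank k (V j) ≤ ∑ j, finrank k (V j) :=
          Finset.sum_le_sum_of_subset (Finset.subset_univ _)
        rw [Finset.sum_insert (by simp [hia, hib]), Finset.sum_pair hab] at h4
        omega
      have h5 := (hS 1).1 (one_mem S) 1 (one_mem S)
      simp only [form_apply, Pi.one_apply, mul_one, LinearMap.trace_one] at h5
      rw [← Finset.sum_subset (Finset.subset_univ ({a, b} : Finset ι)) fun i _ hi => by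
        simp only [Finset.mem_insert, Finset.mem_singleton, not_or] at hi
        rw [hoth i hi.1 hi.2, Nat.cast_zero, mul_zero], Finset.sum_pair hab,
        show finrank k (V a) = 1 by omega, show finrank k (V b) = 1 by omega, Nat.cast_one,
        mul_one, mul_one] at h5
      exact hQ a ha b hb h5
    push Not at hid
    obtain ⟨e, he, hei, he0, he1⟩ := hid
    have key : ∀ f ∈ S, IsIdempotentElem f → f ≠ 1 → f * eQ * f ∈ S := by
      intro f hf hfi hf1
      let R : ι → Type w := fun i => LinearMap.range (f i)
      let inc : ∀ i, R i →ₗ[k] V i := fun i => (LinearMap.range (f i)).subtype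
      let prj : ∀ i, V i →ₗ[k] R i := fun i => (f i).rangeRestrict
      have hff : ∀ i, f i * f i = f i := fun i => congrFun hfi.eq i
      have hpi : ∀ i (z : R i), prj i (inc i z) = z := by
        rintro i ⟨z, z', rfl⟩
        exact Subtype.ext (congrArg (fun g : Module.End k (V i) => g z') (hff i))
      let down : (Π i, Module.End k (V i)) →ₗ[k] (Π i, Module.End k (R i)) :=
        { toFun := fun x i => prj i ∘ₗ x i ∘ₗ inc i
          map_add' := fun x y => funext fun i => by
            simp [LinearMap.add_comp, LinearMap.comp_add]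
          map_smul' := fun c x => funext fun i => by
            simp [LinearMap.smul_comp, LinearMap.comp_smul] }
      have hdown_mul : ∀ x y, down x * down y = down (x * f * y) := fun x y =>
        funext fun i => LinearMap.ext fun z => rfl
      let S' : Subalgebra k (Π i, Module.End k (R i)) :=
        { carrier := down '' (S : Set (Π i, Module.End k (V i)))
          mul_mem' := by
            rintro _ _ ⟨x, hx, rfl⟩ ⟨y, hy, rfl⟩
            exact ⟨x * f * y, mul_mem (mul_mem hx hf) hy, (hdown_mul x y).symm⟩
          add_mem' := by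
            rintro _ _ ⟨x, hx, rfl⟩ ⟨y, hy, rfl⟩
            exact ⟨x + y, add_mem hx hy, map_add down x y⟩
          algebraMap_mem' := fun c => ⟨algebraMap k _ c, S.algebraMap_mem c, funext fun i =>
            LinearMap.ext fun z => by
              simp [down, Pi.algebraMap_apply, Module.algebraMap_end_apply, hpi]⟩ }
      have hS' : IsLagrangian u S' := by
        intro y
        constructor
        · rintro ⟨a, ha, rfl⟩ _ ⟨b, hb, rfl⟩
          rw [hdown_mul' u V f down (fun _ => rfl) a b]
          exact (hS (a * f)).1 (mul_mem ha hf) _ (mul_mem hb hf)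
        · intro hy
          let y' : Π i, Module.End k (V i) := fun i => inc i ∘ₗ y i ∘ₗ prj i
          refine ⟨y', (hS y').2 fun b hb => ?_, funext fun i => LinearMap.ext fun z => ?_⟩
          · rw [← hy (down b) ⟨b, hb, rfl⟩, form_apply, form_apply]
            refine Finset.sum_congr rfl fun i _ => ?_
            congr 1
            rw [Module.End.mul_eq_comp, Module.End.mul_eq_comp]
            show LinearMap.trace k _ (inc i ∘ₗ (y i ∘ₗ prj i ∘ₗ b i)) = _
            rw [LinearMap.trace_comp_comm']
            rfl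
          · show prj i (inc i (y i (prj i (inc i z)))) = y i z
            rw [hpi, hpi]
      have hlt : ∑ i, finrank k (R i) < d := by
        rw [← hd]
        obtain ⟨i, hi⟩ : ∃ i, f i ≠ 1 := Function.ne_iff.1 hf1
        refine Finset.sum_lt_sum (fun j _ => Submodule.finrank_le _) ⟨i, Finset.mem_univ _, ?_⟩
        refine Submodule.finrank_lt fun h => hi (LinearMap.ext fun z => ?_)
        obtain ⟨z', rfl⟩ : z ∈ LinearMap.range (f i) := h ▸ Submodule.mem_top
        exact congrArg (fun g : Module.End k (V i) => g z') (hff i)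
      obtain ⟨x, hx, hxe⟩ := ih _ hlt R S' hS' rfl
      have : f * x * f = f * eQ * f := by
        funext i
        refine LinearMap.ext fun z => ?_
        have h1 := congrArg (fun g : Π i, Module.End k (R i) => ((g i (prj i z)) : V i)) hxe
        beta_reduce at h1
        show f i (x i (f i z)) = f i (eQ i (f i z))
        refine Eq.trans h1 ?_
        by_cases hi : i ∈ Q
        · simp only [eQ, if_pos hi, Module.End.one_apply]
          exact (congrArg (fun g : Module.End k (V i) => g z) (hff i)).symm
        · simp [eQ, if_neg hi]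
      rw [← this]
      exact mul_mem (mul_mem hf hx) hf
    have hcomm : ∀ f : Π i, Module.End k (V i), f * eQ = eQ * f := fun f => funext fun i => by
      by_cases hi : i ∈ Q <;> simp [eQ, hi]
    have hsum : eQ = e * eQ * e + (1 - e) * eQ * (1 - e) := by
      rw [hcomm e, hcomm (1 - e), mul_assoc, mul_assoc, hei.eq, hei.one_sub.eq, ← mul_add,
        add_sub_cancel, mul_one]
    rw [hsum]
    exact add_mem (key e he hei he1) (key (1 - e) (sub_mem (one_mem S) he) hei.one_sub
      (fun h => he0 (sub_eq_self.1 h)))
where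
  hdown_mul' : ∀ (u : ι → k) (V : ι → Type w) [∀ i, AddCommGroup (V i)] [∀ i, Module k (V i)]
      [∀ i, FiniteDimensional k (V i)] (f : Π i, Module.End k (V i))
      (down : (Π i, Module.End k (V i)) →ₗ[k] (Π i, Module.End k (LinearMap.range (f i))))
      (_h : ∀ x, down x = fun i => (f i).rangeRestrict ∘ₗ x i ∘ₗ (LinearMap.range (f i)).subtype)
      (a b : Π i, Module.End k (V i)),
      form u (fun i => LinearMap.range (f i)) (down a) (down b) = form u V (a * f) (b * f) := by
    intro u V _ _ _ f down h a b
    rw [h, h, form_apply, form_apply]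
    refine Finset.sum_congr rfl fun i _ => ?_
    congr 1
    rw [Module.End.mul_eq_comp, Module.End.mul_eq_comp]
    show LinearMap.trace k _ ((f i).rangeRestrict ∘ₗ (a i ∘ₗ (LinearMap.range (f i)).subtype ∘ₗ
      (f i).rangeRestrict ∘ₗ b i ∘ₗ (LinearMap.range (f i)).subtype)) = _
    rw [LinearMap.trace_comp_comm']
    rfl

/-- A set of factors which is not joined to its complement by a pair of opposite weights has its
indicator in a Lagrangian subalgebra. -/
theorem indicator_mem {u : ι → k} (hu : ∀ i, u i ≠ 0) (Q : Set ι) [DecidablePred (· ∈ Q)]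
    (hQ : ∀ a ∈ Q, ∀ b, b ∉ Q → u a + u b ≠ 0) (V : ι → Type w) [∀ i, AddCommGroup (V i)]
    [∀ i, Module k (V i)] [∀ i, FiniteDimensional k (V i)]
    (S : Subalgebra k (Π i, Module.End k (V i))) (hS : IsLagrangian u S) :
    (fun i => if i ∈ Q then (1 : Module.End k (V i)) else 0) ∈ S :=
  indicator_mem_aux hu Q hQ _ V S hS rfl

end lagrangian

end Cfsg.Agent.Chars2.Edge
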