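import Cfsg.Agent.Blocks.Defect
import Cfsg.Agent.Blocks.Orth
import Cfsg.Agent.Chars.Linear
import Cfsg.Agent.Chars2.Clifford
import Cfsg.Agent.DegreeGraph.AbelianNormal
import Cfsg.Agent.OddChar.ProdChar

/-!
Blocks with a normal defect group: the abelian ones are those without positive heights.
-/

set_option autoImplicit false
set_option linter.unusedSectionVars false
set_option linter.style.haveILetI false

namespace Cfsg.Agent.Chars2

open Cfsg Cfsg.Agent Cfsg.Agent.Blocks
open scoped ComplexConjugate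

universe u

variable {G : Type u} [Group G] [Fintype G] {p : ℕ} [Fact p.Prime] {M : Ideal AlgInt}
  [M.IsMaximal]

/-- At an element centralising a normal subgroup, a value is the common degree of the constituents
times an element of the local ring. -/
theorem apply_eq_degree_mul {P : Subgroup G} [P.Normal] [Fintype P] {χ : IrrCharacter G}
    {θ : IrrCharacter P} (hθ : classInner (fun y : P => (χ : G → ℂ) y) (θ : P → ℂ) ≠ 0) {g : G}
    (hg : g ∈ Subgroup.centralizer (P : Set G)) :
    ∃ w : ℂ, MemLocalRing M w ∧ (χ : G → ℂ) g = (θ : P → ℂ) 1 * w := by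
  classical
  haveI : Fintype (Subgroup.zpowers g) := Fintype.ofFinite _
  let f : P × Subgroup.zpowers g →* G :=
    { toFun := fun x => (x.1 : G) * (x.2 : G)
      map_one' := by simp
      map_mul' := fun a b => by
        have h : Commute (a.2 : G) (b.1 : G) := by
          obtain ⟨k, hk⟩ := a.2.2
          have h1 : Commute g (b.1 : G) :=
            ((Subgroup.mem_centralizer_iff.1 hg) _ b.1.2).symm
          rw [← hk]
          exact h1.zpow_left k
        simp only [Prod.fst_mul, Prod.snd_mul, Subgroup.coe_mul]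
        rw [mul_assoc (a.1 : G), ← mul_assoc (b.1 : G), ← h.eq, mul_assoc (a.2 : G), ← mul_assoc] }
  have hF := Chars.isCharacter_comp (Chars.irr_isCharacter χ) f
  obtain ⟨c, hc⟩ := exists_multiplicities hF
  have hcl := Chars.isClassFunction_of_isCharacter hF
  choose α β hαβ using fun Φ : IrrCharacter (P × Subgroup.zpowers g) =>
    OddChar.exists_outer Φ.2
  choose b hb0 hb using fun Φ => Chars.exists_irr_apply_one_eq (β Φ).2
  have hres : (fun y : P => (χ : G → ℂ) y) =
      ∑ Φ, ((c Φ * b Φ : ℕ) : ℂ) • (α Φ : P → ℂ) := by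
    funext y
    have h := apply_eq_sum hcl ((y, 1) : P × Subgroup.zpowers g)
    have e : (fun x => (χ : G → ℂ) (f x)) ((y, 1) : P × Subgroup.zpowers g) =
        (χ : G → ℂ) y := by simp [f]
    rw [← e]
    refine h.trans ?_
    rw [Finset.sum_apply]
    refine Finset.sum_congr rfl fun Φ _ => ?_
    rw [hc Φ, hαβ Φ, Pi.smul_apply, smul_eq_mul]
    simp only [OddChar.outer, hb Φ]
    push_cast
    ring
  have hdeg : ∀ Φ, c Φ ≠ 0 → (α Φ : P → ℂ) 1 = (θ : P → ℂ) 1 := by
    intro Φ hΦ
    have hcon : classInner (fun y : P => (χ : G → ℂ) y) (α Φ : P → ℂ) ≠ 0 := by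
      rw [hres, Chars.classInner_sum_left]
      simp only [Chars.classInner_smul_left, Chars.classInner_irrCharacter, mul_ite, mul_one,
        mul_zero]
      rw [← Finset.sum_filter, ← Nat.cast_sum, Nat.cast_ne_zero]
      refine Nat.ne_of_gt (lt_of_lt_of_le (Nat.mul_pos (Nat.pos_of_ne_zero hΦ) (hb0 Φ)) ?_)
      exact Finset.single_le_sum (f := fun Ψ => c Ψ * b Ψ) (fun _ _ => Nat.zero_le _)
        (Finset.mem_filter.2 ⟨Finset.mem_univ Φ, rfl⟩)
    obtain ⟨a, ha⟩ := clifford_constituent χ.2 θ.2 hθ (α Φ).2 hcon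
    rw [ha, conjFun, map_one]
  refine ⟨∑ Φ, (c Φ : ℂ) * (β Φ : Subgroup.zpowers g → ℂ) ⟨g, Subgroup.mem_zpowers g⟩,
    memR_sum _ _ fun Φ _ => memR_mul (memR_natCast _) (irr_memR _ _), ?_⟩
  have h := apply_eq_sum hcl ((1, ⟨g, Subgroup.mem_zpowers g⟩) : P × Subgroup.zpowers g)
  have e : (fun x => (χ : G → ℂ) (f x)) ((1, ⟨g, Subgroup.mem_zpowers g⟩) :
      P × Subgroup.zpowers g) = (χ : G → ℂ) g := by simp [f]
  rw [← e]
  refine h.trans ?_
  rw [Finset.mul_sum]
  refine Finset.sum_congr rfl fun Φ _ => ?_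
  rw [hc Φ, hαβ Φ]
  simp only [OddChar.outer]
  rcases eq_or_ne (c Φ) 0 with h0 | h0
  · simp [h0]
  · rw [hdeg Φ h0]; ring

/-- Every irreducible character of a `p`-subgroup lies below some member of a given block. -/
theorem exists_mem_over (hpM : (p : AlgInt) ∈ M) {B : Set (IrrCharacter G)} (hB : IsPBlock M B)
    {P : Subgroup G} [Fintype P] (hP : IsPGroup p P) (θ : IrrCharacter P) :
    ∃ χ ∈ B, classInner (fun y : P => (χ : G → ℂ) y) (θ : P → ℂ) ≠ 0 := by
  classical
  by_contra hc
  push Not at hc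
  set S := Finset.univ.filter (· ∈ B) with hS
  have h0 : classInner (∑ χ ∈ S, (χ : G → ℂ) 1 • fun y : P => (χ : G → ℂ) y) (θ : P → ℂ) = 0 := by
    rw [Chars.classInner_sum_left]
    exact Finset.sum_eq_zero fun χ hχ => by
      rw [Chars.classInner_smul_left, hc χ (Finset.mem_filter.1 hχ).2, mul_zero]
  have hvan : ∀ y : P, y ≠ 1 → (∑ χ ∈ S, (χ : G → ℂ) 1 • fun y : P => (χ : G → ℂ) y) y = 0 := by
    intro y hy
    obtain ⟨k, hk⟩ := IsPGroup.iff_orderOf.1 hP y
    have hd : p ∣ orderOf (y : G) := by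
      rw [Subgroup.orderOf_coe, hk]
      refine dvd_pow_self p fun h => hy ?_
      rwa [h, pow_zero, orderOf_eq_one_iff] at hk
    have h := block_orth_weak hpM hB (x := 1)
      (by rw [orderOf_one]; exact (Fact.out : p.Prime).not_dvd_one) hd
    have h2 := congrArg conj h
    rw [map_sum, map_zero] at h2
    rw [Finset.sum_apply, ← h2]
    refine Finset.sum_congr rfl fun χ _ => ?_
    rw [Pi.smul_apply, smul_eq_mul, map_mul, Complex.conj_conj,
      Chars.irr_apply_one_conj (Chars.irr_isCharacter χ)]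
  rw [Chars.classInner_def, Finset.sum_eq_single (1 : P) (fun y _ hy => by rw [hvan y hy, zero_mul])
    (fun h => absurd (Finset.mem_univ _) h), Chars.irr_apply_one_conj (Chars.irr_isCharacter θ)] at h0
  refine (mul_ne_zero (inv_ne_zero Chars.card_ne_zero) (mul_ne_zero ?_
    (Chars.irr_apply_one_ne_zero θ.2))) h0
  choose d hd0 hd using fun χ : IrrCharacter G => Chars.exists_irr_apply_one_eq χ.2
  obtain ⟨χ₀, hχ₀⟩ := block_nonempty hB
  rw [Finset.sum_apply]
  simp only [Pi.smul_apply, smul_eq_mul, OneMemClass.coe_one, hd]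
  simp only [← Nat.cast_mul, ← Nat.cast_sum, Nat.cast_ne_zero]
  exact Nat.ne_of_gt (Finset.sum_pos (fun χ _ => Nat.mul_pos (hd0 χ) (hd0 χ))
    ⟨χ₀, Finset.mem_filter.2 ⟨Finset.mem_univ _, hχ₀⟩⟩)

/-- Reynolds: a normal defect group is abelian iff all heights are zero. -/
theorem abelian_iff_height_zero (hpM : (p : AlgInt) ∈ M) {B : Set (IrrCharacter G)}
    (hB : IsPBlock M B) {P : Subgroup G} [P.Normal] (hP : IsDefectGroup p M B P) :
    (∀ a ∈ P, ∀ c ∈ P, a * c = c * a) ↔ ∀ χ ∈ B, blockHeight p B (χ : G → ℂ) = 0 := by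
  classical
  have hp : p.Prime := Fact.out
  have hPp := isPGroup_defect hP
  have hcard := card_defectGroup hpM hB hP
  constructor
  · intro hab χ hχ
    obtain ⟨n, hn, hdvd⟩ := DegreeGraph.exists_degree_dvd_index P hab χ.2
    obtain ⟨h1, h2⟩ := charDegree_eq χ.2
    have hnd : charDegree (χ : G → ℂ) = n := by rw [hn] at h1; exact_mod_cast h1.symm
    have hle : (charDegree (χ : G → ℂ)).factorization p ≤ P.index.factorization p := by
      rw [hnd]
      exact (Nat.factorization_le_iff_dvd (hnd ▸ h2.ne') Subgroup.index_ne_zero_of_finite).2 hdvd p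
    have hidx : P.index.factorization p + blockDefect p B = (Nat.card G).factorization p := by
      rw [← P.index_mul_card, Nat.factorization_mul Subgroup.index_ne_zero_of_finite
        Nat.card_pos.ne', Finsupp.add_apply, hcard, hp.factorization_pow, Finsupp.single_eq_same]
    have h3 := degree_eq_height hpM hB hχ
    omega
  · intro hh
    haveI : Fintype P := Fintype.ofFinite _
    have key : ∀ θ : IrrCharacter P, (θ : P → ℂ) 1 = 1 := by
      intro θ
      obtain ⟨n, hn0, hn⟩ := Chars.exists_irr_apply_one_eq θ.2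
      by_contra hne
      have hn1 : n ≠ 1 := fun h => hne (by rw [hn, h, Nat.cast_one])
      have hpn : p ∣ n := by
        obtain ⟨m, -, hm, hmd⟩ := Chars.irr_degree_dvd_card θ.2
        have hmn : m = n := by rw [hn] at hm; exact_mod_cast hm.symm
        rw [hmn, hcard] at hmd
        obtain ⟨k, -, hk⟩ := (Nat.dvd_prime_pow hp).1 hmd
        rw [hk]
        refine dvd_pow_self p fun h => hn1 ?_
        rw [hk, h, pow_zero]
      obtain ⟨g, hg, hgP⟩ := isDefectGroup_iff.1 hP
      obtain ⟨χ, hχ, hcon⟩ := exists_mem_over hpM hB hPp θ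
      obtain ⟨w, hw, hval⟩ := apply_eq_degree_mul (M := M) hcon
        (le_centralizer_singleton_iff.1 hgP.1)
      refine isDefectClass_not_memI_central hg hχ ?_
      have h1 : MemLocalIdeal M ((χ : G → ℂ) g) := by
        rw [hval, hn]
        exact memI_mul_right ((memI_natCast_iff hpM n).2 hpn) hw
      obtain ⟨e1, e2⟩ := charDegree_eq χ.2
      rw [centralChar, mul_div_right_comm, e1]
      refine memI_mul_left (natRatio_memR hpM Subgroup.index_ne_zero_of_finite e2.ne' ?_) h1
      have h3 := degree_eq_height hpM hB hχ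
      have h4 := (blockDefect_eq hpM hB hg).1
      have h5 := index_factorization (p := p) g
      rw [hh χ hχ] at h3
      omega
    intro a ha c hc
    exact congrArg Subtype.val (Chars.comm_of_forall_linear key ⟨a, ha⟩ ⟨c, hc⟩)

end Cfsg.Agent.Chars2
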