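import Cfsg.Agent.Chars2.Clifford
import Cfsg.Agent.Chars2.LinearExtend
import Cfsg.Agent.Chars.CoprimeExt
import Cfsg.Agent.Chars.GaloisValues
import Cfsg.Agent.OddChar.GaloisAut
import Mathlib.GroupTheory.Sylow
import Mathlib.GroupTheory.IndexNormal

/-!
Characters fixed by a Galois automorphism inverting roots of unity of odd order, above a fixed
character of a normal subgroup of odd index.
-/

set_option autoImplicit false
set_option linter.unusedSectionVars false
set_option linter.style.haveILetI false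

namespace Cfsg.Agent.Chars2

open Cfsg Cfsg.Agent
open scoped ComplexConjugate

universe u

section count

variable {G : Type u} [Group G] [Fintype G]

/-- The product of two values of an irreducible character as an average. -/
theorem apply_one_mul_sum_conj {χ : G → ℂ} (hχ : IsIrrCharacter G χ) (a b : G) :
    χ 1 * ∑ x : G, χ (a * (x * b * x⁻¹)) = (Nat.card G : ℂ) * (χ a * χ b) := by
  obtain ⟨d, σ, hσ, rfl⟩ := hχ
  haveI := hσ
  have hc : ∀ m, (∑ x : G, σ (x * b * x⁻¹)) * σ m = σ m * ∑ x : G, σ (x * b * x⁻¹) := by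
    intro m
    rw [Finset.sum_mul, Finset.mul_sum]
    refine (Fintype.sum_equiv (Equiv.mulLeft m) _ _ fun x => ?_).symm
    rw [← map_mul, ← map_mul, Equiv.coe_mulLeft]
    congr 1
    group
  obtain ⟨c, hc⟩ := Chars.scalar_of_commute σ _ hc
  have h1 := congrArg (LinearMap.trace ℂ (Fin d → ℂ)) hc
  have h2 := congrArg (fun T => LinearMap.trace ℂ (Fin d → ℂ) (σ a * T)) hc
  simp only [map_sum, Finset.mul_sum, ← map_mul, mul_smul_comm, mul_one, map_smul,
    LinearMap.trace_one, smul_eq_mul] at h1 h2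
  rw [Finset.sum_congr rfl (g := fun _ => LinearMap.trace ℂ (Fin d → ℂ) (σ b)) fun x _ => by
    rw [show LinearMap.trace ℂ (Fin d → ℂ) (σ (x * b * x⁻¹)) = σ.character (x * b * x⁻¹) from rfl,
      Representation.char_conj]; rfl,
    Finset.sum_const, Finset.card_univ, nsmul_eq_mul, ← Nat.card_eq_fintype_card] at h1
  show σ.character 1 * ∑ x : G, LinearMap.trace ℂ (Fin d → ℂ) (σ (a * (x * b * x⁻¹))) =
    (Nat.card G : ℂ) * (σ.character a * LinearMap.trace ℂ (Fin d → ℂ) (σ b))
  rw [h2, Representation.char_one, mul_left_comm (Nat.card G : ℂ), h1]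
  show _ = LinearMap.trace ℂ (Fin d → ℂ) (σ a) * _
  ring

open scoped Classical in
/-- The second orthogonality relation, counting conjugating elements. -/
theorem column_orth_count (a g : G) :
    ∑ χ : IrrCharacter G, (χ : G → ℂ) a * conj ((χ : G → ℂ) g) =
      ∑ y : G, if a = y * g * y⁻¹ then (1 : ℂ) else 0 := by
  rw [Chars.column_orth]
  split_ifs with h
  · obtain ⟨c, hc⟩ := isConj_iff.1 h.symm
    rw [Finset.sum_boole, Nat.card_eq_fintype_card, Fintype.card_subtype, Nat.cast_inj]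
    refine Finset.card_nbij' (fun z => z * c) (fun y => y * c⁻¹) (fun z hz => ?_) (fun y hy => ?_)
      (fun z _ => by simp) (fun y _ => by simp)
    · simp only [Finset.coe_filter, Finset.mem_univ, true_and, Set.mem_setOf_eq,
        Subgroup.mem_centralizer_singleton_iff] at hz ⊢
      rw [show z * c * g * (z * c)⁻¹ = z * (c * g * c⁻¹) * z⁻¹ by group, hc, hz,
        mul_inv_cancel_right]
    · simp only [Finset.coe_filter, Finset.mem_univ, true_and, Set.mem_setOf_eq,
        Subgroup.mem_centralizer_singleton_iff] at hy ⊢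
      calc y * c⁻¹ * a = y * c⁻¹ * (c * g * c⁻¹) := by rw [hc]
        _ = (y * g * y⁻¹) * (y * c⁻¹) := by group
        _ = a * (y * c⁻¹) := by rw [← hy]
  · rw [Finset.sum_eq_zero]
    intro y _
    rw [if_neg]
    exact fun e => h (isConj_iff.2 ⟨y, e.symm⟩).symm

/-- In a quotient of odd order `g ↦ g ^ k` is the inversion. -/
theorem pow_mul_self_mem (N : Subgroup G) [N.Normal] (hidx : Odd N.index) {k : ℕ}
    (hk₂ : ∀ g : G, Odd (orderOf g) → g ^ k = g⁻¹) (g : G) : g ^ k * g ∈ N := by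
  set v := (Nat.card G).factorization 2
  have hcop : (Nat.card (G ⧸ N)).Coprime (2 ^ v) := by
    rw [← Subgroup.index_eq_card]
    exact Nat.Coprime.pow_right _ (Nat.coprime_two_right.2 hidx)
  obtain ⟨w, hw⟩ := (powCoprime hcop).surjective (g : G ⧸ N)
  obtain ⟨h, rfl⟩ := QuotientGroup.mk_surjective w
  have hodd : Odd (orderOf (h ^ 2 ^ v)) := by
    have h1 : orderOf (h ^ 2 ^ v) ∣ Nat.card G / 2 ^ v := orderOf_dvd_of_pow_eq_one (by
      rw [← pow_mul, Nat.mul_div_cancel' (Nat.ordProj_dvd _ _), pow_card_eq_one'])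
    refine Odd.of_dvd_nat ?_ h1
    exact Nat.odd_iff.2 (Nat.two_dvd_ne_zero.1 (Nat.not_dvd_ordCompl Nat.prime_two Nat.card_pos.ne'))
  have h2 := congrArg (fun x : G => (x : G ⧸ N)) (hk₂ _ hodd)
  rw [powCoprime_apply] at hw
  simp only [QuotientGroup.mk_pow, QuotientGroup.mk_inv, hw] at h2
  rw [← QuotientGroup.eq_one_iff, QuotientGroup.mk_mul, QuotientGroup.mk_pow, h2, inv_mul_cancel]

/-- In a group of odd order only the identity is conjugate to its inverse. -/
theorem eq_one_of_conj_inv {Q : Type*} [Group Q] (hodd : Odd (Nat.card Q)) {y z : Q}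
    (h : y * z * y⁻¹ = z⁻¹) : z = 1 := by
  have hj : ∀ j : ℕ, y ^ (2 * j + 1) * z * (y ^ (2 * j + 1))⁻¹ = z⁻¹ := by
    intro j
    induction j with
    | zero => simpa using h
    | succ j ih =>
      have h2 : y * z⁻¹ * y⁻¹ = z := by
        have := congrArg (·⁻¹) h
        simpa [mul_assoc] using this
      rw [show 2 * (j + 1) + 1 = 1 + (1 + (2 * j + 1)) by omega, pow_add, pow_add, pow_one]
      calc _ = y * (y * (y ^ (2 * j + 1) * z * (y ^ (2 * j + 1))⁻¹) * y⁻¹) * y⁻¹ := by group
        _ = z⁻¹ := by rw [ih, h2, h]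
  obtain ⟨j, hj'⟩ := hodd
  have hfin : Finite Q := Nat.finite_of_card_ne_zero (by omega)
  have h1 := hj j
  rw [← hj', pow_card_eq_one', one_mul, inv_one, mul_one] at h1
  have h2 : z ^ 2 = 1 := by rw [pow_two]; nth_rewrite 2 [h1]; exact mul_inv_cancel z
  have h3 : z ^ Nat.card Q = 1 := pow_card_eq_one'
  have := pow_gcd_eq_one.2 ⟨h2, h3⟩
  rwa [(Nat.coprime_two_left.2 (hj' ▸ odd_two_mul_add_one j)).gcd_eq_one, pow_one] at this

theorem conjFun_conjFun (N : Subgroup G) [N.Normal] (θ : N → ℂ) (x y : G) :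
    conjFun (conjFun θ x) y = conjFun θ (y * x) := by
  funext n
  simp only [conjFun, mul_inv_rev, map_mul, MulAut.mul_apply]

open scoped Classical in
/-- Exactly one fixed character lies over a fixed character of a normal subgroup of odd index. -/
theorem card_fixed_over_eq_one (N : Subgroup G) [hN : N.Normal] [Fintype N] (hidx : Odd N.index)
    {k : ℕ} (hk : Nat.Coprime k (Nat.card G)) (hk₂ : ∀ g : G, Odd (orderOf g) → g ^ k = g⁻¹)
    {θ : N → ℂ} (hθ : IsIrrCharacter N θ) (hfix : ∀ n : N, θ (n ^ k) = θ n) :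
    (Finset.univ.filter fun χ : IrrCharacter G =>
      classInner (fun n : N => (χ : G → ℂ) n) θ ≠ 0 ∧
        ∀ g : G, (χ : G → ℂ) (g ^ k) = (χ : G → ℂ) g).card = 1 := by
  haveI := Fintype.ofFinite (inertiaSub θ)
  set T := inertiaSub θ with hT
  have hθ1 : θ 1 ≠ 0 := Chars.irr_apply_one_ne_zero hθ
  have hG : (Nat.card G : ℂ) ≠ 0 := Chars.card_ne_zero
  have hNc : (Nat.card N : ℂ) ≠ 0 := Chars.card_ne_zero
  obtain ⟨σ, hσ⟩ := Chars.exists_aut_of_coprime hk
  have hχk : ∀ χ : IrrCharacter G, IsIrrCharacter G (fun g => (χ : G → ℂ) (g ^ k)) := fun χ => by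
    have := OddChar.isIrrCharacter_map σ χ.2
    rwa [show (fun g => σ ((χ : G → ℂ) g)) = fun g => (χ : G → ℂ) (g ^ k) from
      funext fun g => hσ _ (Chars.irr_isCharacter χ) g] at this
  -- the weight of a character over `θ`
  let w : IrrCharacter G → ℂ := fun χ =>
    θ 1 * classInner (fun n : N => (χ : G → ℂ) n) θ / (χ : G → ℂ) 1
  let c : IrrCharacter G → ℂ := fun χ =>
    classInner (fun g : G => (χ : G → ℂ) (g ^ k)) (χ : G → ℂ)
  have hw : ∀ χ : IrrCharacter G, classInner (fun n : N => (χ : G → ℂ) n) θ ≠ 0 →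
      (T.index : ℂ) * w χ = 1 := by
    intro χ hover
    have h1 := clifford_restrict χ.2 hθ hover 1
    rw [OneMemClass.coe_one, Finset.sum_congr rfl (g := fun _ => θ 1) fun φ hφ => by
        obtain ⟨g, hg⟩ := (mem_orbitFinset hθ).1 hφ
        rw [← hg, conjFun, map_one],
      Finset.sum_const, card_orbitFinset hθ, nsmul_eq_mul] at h1
    simp only [w]
    rw [mul_div_assoc', div_eq_one_iff_eq (Chars.irr_apply_one_ne_zero χ.2), h1]
    ring
  have hc : ∀ χ : IrrCharacter G,
      c χ = if ∀ g : G, (χ : G → ℂ) (g ^ k) = (χ : G → ℂ) g then 1 else 0 := fun χ => by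
    simp only [c]
    rw [Chars.classInner_irr (hχk χ) χ.2]
    exact if_congr funext_iff rfl rfl
  have hcount : ((Finset.univ.filter fun χ : IrrCharacter G =>
      classInner (fun n : N => (χ : G → ℂ) n) θ ≠ 0 ∧
        ∀ g : G, (χ : G → ℂ) (g ^ k) = (χ : G → ℂ) g).card : ℂ) =
      (T.index : ℂ) * ∑ χ, w χ * c χ := by
    rw [← Finset.sum_boole, Finset.mul_sum]
    refine Finset.sum_congr rfl fun χ _ => ?_
    rw [hc, ← mul_assoc]
    by_cases hover : classInner (fun n : N => (χ : G → ℂ) n) θ = 0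
    · simp [w, hover]
    · rw [hw χ hover, one_mul]
      exact if_congr (and_iff_right hover) rfl rfl
  -- the averaged product
  have hprod : ∀ (χ : IrrCharacter G) (g : G) (n : N),
      (χ : G → ℂ) (g ^ k) * (χ : G → ℂ) n / (χ : G → ℂ) 1 =
        (Nat.card G : ℂ)⁻¹ * ∑ x : G, (χ : G → ℂ) (g ^ k * (x * n * x⁻¹)) := by
    intro χ g n
    have h1 := apply_one_mul_sum_conj χ.2 (g ^ k) (n : G)
    rw [div_eq_iff (Chars.irr_apply_one_ne_zero χ.2), mul_assoc, mul_comm _ ((χ : G → ℂ) 1), h1,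
      inv_mul_cancel_left₀ hG]
  have hA : ∑ χ, w χ * c χ = θ 1 * (Nat.card N : ℂ)⁻¹ * (Nat.card G : ℂ)⁻¹ * (Nat.card G : ℂ)⁻¹ *
      ∑ x : G, ∑ y : G, ∑ g : G, ∑ n : N,
        conj (θ n) * if g ^ k * (x * n * x⁻¹) = y * g * y⁻¹ then 1 else 0 := by
    calc ∑ χ, w χ * c χ = ∑ χ : IrrCharacter G, θ 1 * (Nat.card N : ℂ)⁻¹ * (Nat.card G : ℂ)⁻¹ *
          ∑ g : G, ∑ n : N, conj (θ n) * (conj ((χ : G → ℂ) g) *
            ((χ : G → ℂ) (g ^ k) * (χ : G → ℂ) n / (χ : G → ℂ) 1)) := by
          refine Finset.sum_congr rfl fun χ _ => ?_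
          simp only [w, c, Chars.classInner_def]
          simp only [div_eq_mul_inv, Finset.mul_sum, Finset.sum_mul]
          refine Finset.sum_congr rfl fun g _ => Finset.sum_congr rfl fun n _ => ?_
          ring
      _ = θ 1 * (Nat.card N : ℂ)⁻¹ * (Nat.card G : ℂ)⁻¹ * (Nat.card G : ℂ)⁻¹ *
          ∑ g : G, ∑ n : N, ∑ x : G, conj (θ n) * ∑ χ : IrrCharacter G,
            (χ : G → ℂ) (g ^ k * (x * n * x⁻¹)) * conj ((χ : G → ℂ) g) := by
          simp only [hprod, Finset.mul_sum]
          rw [Finset.sum_comm]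
          refine Finset.sum_congr rfl fun g _ => ?_
          rw [Finset.sum_comm]
          refine Finset.sum_congr rfl fun n _ => ?_
          rw [Finset.sum_comm]
          refine Finset.sum_congr rfl fun x _ => Finset.sum_congr rfl fun χ _ => ?_
          ring
      _ = _ := by
          congr 1
          simp only [column_orth_count, Finset.mul_sum]
          rw [Finset.sum_congr rfl fun g _ => Finset.sum_comm, Finset.sum_comm]
          refine Finset.sum_congr rfl fun x _ => ?_
          rw [Finset.sum_congr rfl fun g _ => Finset.sum_comm, Finset.sum_comm]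
  -- only elements of `N` contribute
  let f : G → N → ℂ := fun x => conjFun θ x
  have hff : ∀ x, IsIrrCharacter N (f x) := fun x => conjFun_isIrr hθ x
  have hfk : ∀ x (n : N), f x (n ^ k) = f x n := fun x n => by
    simp only [f, conjFun, map_pow]
    exact hfix _
  have hinner : ∀ x y : G, (∑ g : G, ∑ n : N,
      conj (θ n) * if g ^ k * (x * n * x⁻¹) = y * g * y⁻¹ then 1 else 0) =
      ∑ g : N, f x ((MulAut.conjNormal y g)⁻¹ * g ^ k) := by
    intro x y
    rw [← Finset.sum_subset (s₁ := Finset.univ.filter (· ∈ N)) (Finset.subset_univ _) fun g _ hg => ?_]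
    · rw [Finset.sum_subtype (F := ‹Fintype N›) (Finset.univ.filter (· ∈ N)) (p := (· ∈ N))
        (fun g => by simp)]
      refine Finset.sum_congr rfl fun g _ => ?_
      set n₀ : N := MulAut.conjNormal x⁻¹ ((g ^ k)⁻¹ * MulAut.conjNormal y g) with hn₀
      rw [Finset.sum_eq_single n₀ (fun n _ hn => ?_) fun h => absurd (Finset.mem_univ _) h]
      · rw [if_pos (by simp only [hn₀, MulAut.conjNormal_apply, Subgroup.coe_mul, InvMemClass.coe_inv, inv_inv, SubmonoidClass.coe_pow]; group), mul_one,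
          ← Chars.char_inv_eq_conj (Chars.isCharacter_of_isIrr hθ), hn₀]
        simp only [f, conjFun, ← map_inv, mul_inv_rev, inv_inv]
      · rw [if_neg, mul_zero]
        intro e
        refine hn (Subtype.ext ?_)
        rw [hn₀]
        simp only [MulAut.conjNormal_apply, Subgroup.coe_mul, InvMemClass.coe_inv, inv_inv,
          SubmonoidClass.coe_pow]
        rw [← e]
        group
    · simp only [Finset.mem_filter, Finset.mem_univ, true_and] at hg
      refine Finset.sum_eq_zero fun n _ => ?_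
      rw [if_neg, mul_zero]
      intro e
      refine hg ?_
      have h1 : ((g ^ k : G) : G ⧸ N) = (y * g * y⁻¹ : G) := by
        rw [← e, QuotientGroup.mk_mul, (QuotientGroup.eq_one_iff _).2 (hN.conj_mem _ n.2 x), mul_one]
      have h2 : ((g : G) : G ⧸ N) ^ k = ((g : G) : G ⧸ N)⁻¹ := eq_inv_of_mul_eq_one_left (by
        rw [← QuotientGroup.mk_pow, ← QuotientGroup.mk_mul, QuotientGroup.eq_one_iff]
        exact pow_mul_self_mem N hidx hk₂ g)
      rw [QuotientGroup.mk_pow, h2, QuotientGroup.mk_mul, QuotientGroup.mk_mul,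
        QuotientGroup.mk_inv] at h1
      exact (QuotientGroup.eq_one_iff g).1
        (eq_one_of_conj_inv (by rwa [← Subgroup.index_eq_card]) h1.symm)
  -- average over `N`
  have havg : ∀ x : G, ∑ y : G, ∑ g : N, f x ((MulAut.conjNormal y g)⁻¹ * g ^ k) =
      (Nat.card N : ℂ) * (θ 1)⁻¹ * (Nat.card T : ℂ) := by
    intro x
    have hcore : ∀ y : G, ∑ m : N, ∑ g : N,
        f x ((MulAut.conjNormal (y * m) g)⁻¹ * g ^ k) =
        (Nat.card N : ℂ) * ((Nat.card N : ℂ) * (θ 1)⁻¹) * classInner (f x) (f (y⁻¹ * x)) := by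
      intro y
      have hfy : ∀ n, f (y⁻¹ * x) n = f x (MulAut.conjNormal y n) := fun n => by
        simp only [f, ← conjFun_conjFun]
        simp only [conjFun, inv_inv]
      rw [Finset.sum_comm, Chars.classInner_def, Finset.mul_sum, Finset.mul_sum]
      refine Finset.sum_congr rfl fun g _ => ?_
      have h1 := apply_one_mul_sum_conj (hff (y⁻¹ * x)) (MulAut.conjNormal y⁻¹ (g ^ k)) g⁻¹
      have hone : f (y⁻¹ * x) 1 = θ 1 := by simp only [f, conjFun, map_one]
      rw [hone] at h1
      rw [Finset.sum_congr rfl (g := fun m : N =>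
        f (y⁻¹ * x) (MulAut.conjNormal y⁻¹ (g ^ k) * (m * g⁻¹ * m⁻¹))) fun m _ => ?_]
      · have h2 : f (y⁻¹ * x) (MulAut.conjNormal y⁻¹ (g ^ k)) = f x g := by
          rw [hfy, ← MulAut.mul_apply, ← map_mul, mul_inv_cancel, map_one, MulAut.one_apply, hfk]
        rw [h2, Chars.char_inv_eq_conj (Chars.isCharacter_of_isIrr (hff _))] at h1
        field_simp
        linear_combination h1
      · rw [Chars.isCharacter_mul_comm (Chars.isCharacter_of_isIrr (hff _)), hfy]
        refine congrArg (f x) (Subtype.ext ?_)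
        simp only [MulAut.conjNormal_apply, Subgroup.coe_mul, InvMemClass.coe_inv,
          SubmonoidClass.coe_pow, inv_inv]
        group
    have hshift : ∀ m : N, ∑ y : G, ∑ g : N, f x ((MulAut.conjNormal (y * m) g)⁻¹ * g ^ k) =
        ∑ y : G, ∑ g : N, f x ((MulAut.conjNormal y g)⁻¹ * g ^ k) :=
      fun m => Fintype.sum_equiv (Equiv.mulRight (m : G)) _ _ fun y => rfl
    have hcl : ∀ y : G, classInner (f x) (f (y⁻¹ * x)) =
        if x⁻¹ * y⁻¹ * x ∈ T then 1 else 0 := fun y => by
      rw [Chars.classInner_irr (hff x) (hff _)]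
      refine if_congr ?_ rfl rfl
      simp only [f]
      rw [eq_comm, conjFun_eq_iff, hT, mem_inertiaSub, mul_assoc]
    refine mul_left_cancel₀ hNc ?_
    calc (Nat.card N : ℂ) * ∑ y : G, ∑ g : N, f x ((MulAut.conjNormal y g)⁻¹ * g ^ k)
        = ∑ m : N, ∑ y : G, ∑ g : N, f x ((MulAut.conjNormal (y * m) g)⁻¹ * g ^ k) := by
          simp only [hshift, Finset.sum_const, Finset.card_univ, nsmul_eq_mul,
            ← Nat.card_eq_fintype_card]
      _ = _ := by
          rw [Finset.sum_comm]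
          simp only [hcore, hcl]
          rw [← Finset.mul_sum, Finset.sum_boole]
          have hcard : (Finset.univ.filter fun y : G => x⁻¹ * y⁻¹ * x ∈ T).card = Nat.card T := by
            rw [Nat.card_eq_fintype_card, Fintype.card_subtype]
            refine Finset.card_nbij' (fun y => x⁻¹ * y⁻¹ * x) (fun t => x * t⁻¹ * x⁻¹)
              (fun y hy => ?_) (fun t ht => ?_) (fun y _ => by group) (fun t _ => by group)
            · simpa using hy
            · simp only [Finset.coe_filter, Finset.mem_univ, true_and, Set.mem_setOf_eq] at ht ⊢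
              rwa [show x⁻¹ * (x * t⁻¹ * x⁻¹)⁻¹ * x = t by group]
          rw [hcard]
          ring
  have hfinal : ((Finset.univ.filter fun χ : IrrCharacter G =>
      classInner (fun n : N => (χ : G → ℂ) n) θ ≠ 0 ∧
        ∀ g : G, (χ : G → ℂ) (g ^ k) = (χ : G → ℂ) g).card : ℂ) = 1 := by
    rw [hcount, hA]
    simp only [hinner, havg, Finset.sum_const, Finset.card_univ, nsmul_eq_mul,
      ← Nat.card_eq_fintype_card]
    have hTi : (Nat.card T : ℂ) * T.index = Nat.card G := by exact_mod_cast T.card_mul_index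
    field_simp
    linear_combination hTi
  exact_mod_cast hfinal

/-- An extension of a fixed character can be twisted to a fixed one. -/
theorem exists_fixed_ext_of_ext (N : Subgroup G) [hN : N.Normal] (hidx : Odd N.index)
    {k : ℕ} (hk : Nat.Coprime k (Nat.card G)) (hk₂ : ∀ g : G, Odd (orderOf g) → g ^ k = g⁻¹)
    {θ : N → ℂ} (hθ : IsIrrCharacter N θ) (hfix : ∀ n : N, θ (n ^ k) = θ n)
    {e₀ : G → ℂ} (he₀ : IsIrrCharacter G e₀) (her : ∀ n : N, e₀ n = θ n) :
    ∃ χ : G → ℂ, IsIrrCharacter G χ ∧ (∀ n : N, χ n = θ n) ∧ ∀ g, χ (g ^ k) = χ g := by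
  haveI := Fintype.ofFinite N
  obtain ⟨σ, hσ⟩ := Chars.exists_aut_of_coprime hk
  have he₁ : IsIrrCharacter G (fun g => e₀ (g ^ k)) := by
    have := OddChar.isIrrCharacter_map σ he₀
    rwa [show (fun g => σ (e₀ g)) = fun g => e₀ (g ^ k) from
      funext fun g => hσ _ (Chars.isCharacter_of_isIrr he₀) g] at this
  obtain ⟨d, ρ, hρ, rfl⟩ := hθ
  haveI := hρ
  have mk : ∀ e : G → ℂ, IsIrrCharacter G e → (∀ n : N, e n = ρ.character n) →
      ∃ η : Representation ℂ G (Fin d → ℂ), (∀ n : N, η n = ρ n) ∧ η.character = e := by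
    intro e he hr
    obtain ⟨m, τ, hτ, rfl⟩ := he
    obtain ⟨q⟩ := equiv_of_character_eq ρ (τ.comp N.subtype) (funext fun n => (hr n).symm)
    refine ⟨(q.symm.toLinearEquiv.conjAlgEquiv ℂ).toMonoidHom.comp τ,
      fun n => q.symm.conj_apply_self n, funext fun g => ?_⟩
    exact LinearMap.trace_conj' _ _
  obtain ⟨η, hη, hηc⟩ := mk e₀ he₀ her
  obtain ⟨η', hη', hη'c⟩ := mk _ he₁ fun n => by
    rw [← SubgroupClass.coe_pow, her]; exact hfix n
  obtain ⟨l, hl, hll⟩ := twist_of_extensions ρ η η' hη hη'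
  have hlm : l ^ N.index = 1 := MonoidHom.ext fun g => by
    rw [MonoidHom.pow_apply, ← map_pow]
    exact hl ⟨_, N.pow_index_mem g⟩
  obtain ⟨j, hj⟩ := hidx
  set μ := l ^ (j + 1) with hμ
  have hμ2 : μ ^ 2 = l := by
    refine MonoidHom.ext fun g => ?_
    rw [MonoidHom.pow_apply, hμ, MonoidHom.pow_apply, ← pow_mul,
      show (j + 1) * 2 = N.index + 1 by omega, pow_succ, ← MonoidHom.pow_apply, hlm,
      MonoidHom.one_apply, one_mul]
  have hμN : ∀ n : N, μ n = 1 := fun n => by rw [hμ, MonoidHom.pow_apply, hl, one_pow]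
  let τ : Representation ℂ G (Fin d → ℂ) :=
    { toFun := fun g => (μ g : ℂ) • η g
      map_one' := by simp
      map_mul' := fun a b => by
        rw [map_mul, map_mul, Units.val_mul, smul_mul_smul_comm] }
  have hτN : τ.comp N.subtype = ρ := MonoidHom.ext fun n => by
    show (μ (n : G) : ℂ) • η n = ρ n
    rw [hμN, Units.val_one, one_smul, hη]
  haveI : τ.IsIrreducible := isIrreducible_of_comp N.subtype τ (hτN ▸ hρ)
  have hval : ∀ g, τ.character g = (μ g : ℂ) * e₀ g := fun g => by
    show LinearMap.trace ℂ _ ((μ g : ℂ) • η g) = _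
    rw [map_smul, smul_eq_mul, ← hηc]
    rfl
  refine ⟨τ.character, Chars.isIrrCharacter_of_rep τ, fun n => ?_, fun g => ?_⟩
  · rw [hval, hμN, Units.val_one, one_mul, her]
  · have h1 : e₀ (g ^ k) = (l g : ℂ) * e₀ g := by
      rw [← congrFun hη'c g, Representation.character, hll, map_smul, smul_eq_mul, ← hηc]
      rfl
    have h2 : μ (g ^ k) * μ g = 1 := by
      rw [← map_mul]
      exact hμN ⟨_, pow_mul_self_mem N ⟨j, hj⟩ hk₂ g⟩
    rw [hval, hval, h1, ← mul_assoc, ← Units.val_mul,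
      show μ (g ^ k) * l g = μ g by
        have h3 : μ g ^ 2 = l g := by rw [← MonoidHom.pow_apply, hμ2]
        rw [← h3, pow_two, ← mul_assoc, h2, one_mul]]

end count

/-- Over a subgroup of odd prime-power index an invariant fixed character has a fixed extension. -/
theorem exists_fixed_ext_pgroup (p : ℕ) [Fact p.Prime] (hp : Odd p) (j : ℕ) :
    ∀ {G : Type u} [Group G] [Fintype G] (N : Subgroup G) [hN : N.Normal],
      N.index = p ^ j → ∀ {k : ℕ}, Nat.Coprime k (Nat.card G) →
      (∀ g : G, Odd (orderOf g) → g ^ k = g⁻¹) → ∀ {θ : N → ℂ}, IsIrrCharacter N θ →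
      (∀ n : N, θ (n ^ k) = θ n) →
      (∀ (g : G) (n : N), θ ⟨g * n * g⁻¹, hN.conj_mem (n : G) n.2 g⟩ = θ n) →
      ∃ χ : G → ℂ, IsIrrCharacter G χ ∧ (∀ n : N, χ n = θ n) ∧ ∀ g, χ (g ^ k) = χ g := by
  induction j with
  | zero =>
    intro G _ _ N _ hidx k _ _ θ hθ hfix _
    rw [pow_zero, Subgroup.index_eq_one] at hidx
    subst hidx
    exact ⟨fun g => θ ⟨g, Subgroup.mem_top g⟩,
      Chars.isIrrCharacter_comp_equiv hθ (Subgroup.topEquiv (G := G)).symm, fun n => rfl,
      fun g => hfix ⟨g, Subgroup.mem_top g⟩⟩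
  | succ j ih =>
    intro G _ _ N _ hidx k hk hk₂ θ hθ hfix hinv
    classical
    have hQ : Nat.card (G ⧸ N) = p ^ (j + 1) := by rw [← Subgroup.index_eq_card, hidx]
    obtain ⟨V, hV⟩ := Sylow.exists_subgroup_card_pow_prime p (G := G ⧸ N)
      (n := j) (hQ ▸ pow_dvd_pow p j.le_succ)
    have hVi : V.index = p := by
      refine Nat.eq_of_mul_eq_mul_left (Nat.card_pos (α := V)) ?_
      rw [V.card_mul_index, hQ, hV, pow_succ]
    haveI : V.Normal := Subgroup.normal_of_index_eq_minFac_card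
      (by rw [hVi, hQ, Nat.pow_minFac j.succ_ne_zero, (Fact.out : p.Prime).minFac_eq])
    set W := V.comap (QuotientGroup.mk' N) with hW
    haveI : W.Normal := Subgroup.Normal.comap ‹V.Normal› _
    have hNW : N ≤ W := fun n hn => by
      show (n : G ⧸ N) ∈ V
      rw [(QuotientGroup.eq_one_iff n).2 hn]
      exact one_mem _
    have hWi : W.index = p := by
      rw [hW, Subgroup.index_comap_of_surjective V (QuotientGroup.mk'_surjective N), hVi]
    haveI := Fintype.ofFinite W
    haveI := Fintype.ofFinite N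
    have hsub : (N.subgroupOf W).index = p ^ j := by
      have h1 := Subgroup.relIndex_mul_index hNW
      rw [hidx, hWi, pow_succ] at h1
      exact Nat.eq_of_mul_eq_mul_right (Fact.out : p.Prime).pos h1
    have hkW : Nat.Coprime k (Nat.card W) := hk.coprime_dvd_right (Subgroup.card_subgroup_dvd_card W)
    have hk₂W : ∀ x : W, Odd (orderOf x) → x ^ k = x⁻¹ := fun x hx => Subtype.ext (by
      rw [SubgroupClass.coe_pow, InvMemClass.coe_inv]
      exact hk₂ x (by rwa [Subgroup.orderOf_coe]))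
    let e := Subgroup.subgroupOfEquivOfLe hNW
    obtain ⟨η, hη, hηr, hηk⟩ := ih (N.subgroupOf W) hsub hkW hk₂W
      (Chars.isIrrCharacter_comp_equiv hθ e) (fun n => by
        show θ (e (n ^ k)) = θ (e n)
        rw [map_pow]; exact hfix _) (fun g n => hinv (g : G) (e n))
    have hover : ∀ (ξ : W → ℂ), (∀ n : N.subgroupOf W, ξ n = θ (e n)) →
        classInner (fun n : N.subgroupOf W => ξ n) (fun n => θ (e n)) ≠ 0 := by
      intro ξ hξ
      rw [show (fun n : N.subgroupOf W => ξ n) = fun n => θ (e n) from funext hξ]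
      intro h
      have h1 := Chars.classInner_self_irr (Chars.isIrrCharacter_comp_equiv hθ e)
      rw [Chars.classInner_def] at h1 h
      exact one_ne_zero (h1.symm.trans (by convert h using 3; rfl))
    -- uniqueness makes it invariant
    have hηinv : ∀ (g : G) (w : W), η ⟨g * w * g⁻¹, ‹W.Normal›.conj_mem (w : G) w.2 g⟩ = η w := by
      intro g w
      have hcard := card_fixed_over_eq_one (N.subgroupOf W) (hsub ▸ hp.pow) hkW hk₂W
        (Chars.isIrrCharacter_comp_equiv hθ e) (fun n => by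
          show θ (e (n ^ k)) = θ (e n)
          rw [map_pow]; exact hfix _)
      obtain ⟨X, hX⟩ := Finset.card_eq_one.1 hcard
      let ξ : W → ℂ := fun x => η (MulAut.conjNormal g x)
      have hξ : IsIrrCharacter W ξ := Chars.isIrrCharacter_comp_equiv hη (MulAut.conjNormal g)
      have hξr : ∀ n : N.subgroupOf W, ξ n = θ (e n) := fun n => by
        have h1 := hinv g (e n)
        rw [← h1]
        have h2 := hηr (e.symm ⟨g * (e n : N) * g⁻¹, ‹N.Normal›.conj_mem _ (e n).2 g⟩)
        simp only [Function.comp_apply, MulEquiv.apply_symm_apply] at h2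
        rw [← h2]
        refine congrArg η (Subtype.ext ?_)
        rw [MulAut.conjNormal_apply]
        rfl
      have h1 : (⟨η, hη⟩ : IrrCharacter W) ∈ ({X} : Finset (IrrCharacter W)) := by
        rw [← hX, Finset.mem_filter]
        exact ⟨Finset.mem_univ _, hover η hηr, hηk⟩
      have h2 : (⟨ξ, hξ⟩ : IrrCharacter W) ∈ ({X} : Finset (IrrCharacter W)) := by
        rw [← hX, Finset.mem_filter]
        refine ⟨Finset.mem_univ _, hover ξ hξr, fun x => ?_⟩
        show η (MulAut.conjNormal g (x ^ k)) = η (MulAut.conjNormal g x)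
        rw [map_pow, hηk]
      rw [Finset.mem_singleton] at h1 h2
      have h3 := congrFun (congrArg Subtype.val (h2.trans h1.symm)) w
      exact (congrArg η (Subtype.ext (MulAut.conjNormal_apply g w).symm)).trans h3
    haveI : IsCyclic (G ⧸ W) := isCyclic_of_prime_card (p := p) (by
      rw [← Subgroup.index_eq_card, hWi])
    obtain ⟨e₀, he₀, he₀r⟩ := extends_of_cyclic η hη hηinv
    obtain ⟨χ, hχ, hχr, hχk⟩ :=
      exists_fixed_ext_of_ext W (hWi ▸ hp) hk hk₂ hη hηk he₀ he₀r
    refine ⟨χ, hχ, fun n => ?_, hχk⟩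
    have h2 := hηr (e.symm n)
    simp only [Function.comp_apply, MulEquiv.apply_symm_apply] at h2
    rw [← h2, ← hχr]
    rfl

/-- The fixed character over a fixed invariant character extends it. -/
theorem exists_fixed_ext {G : Type u} [Group G] [Fintype G] (N : Subgroup G) [hN : N.Normal]
    (hidx : Odd N.index) {k : ℕ} (hk : Nat.Coprime k (Nat.card G))
    (hk₂ : ∀ g : G, Odd (orderOf g) → g ^ k = g⁻¹) {θ : N → ℂ} (hθ : IsIrrCharacter N θ)
    (hfix : ∀ n : N, θ (n ^ k) = θ n)
    (hinv : ∀ (g : G) (n : N), θ ⟨g * n * g⁻¹, hN.conj_mem (n : G) n.2 g⟩ = θ n) :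
    ∃ χ : G → ℂ, IsIrrCharacter G χ ∧ (∀ n : N, χ n = θ n) ∧ ∀ g, χ (g ^ k) = χ g := by
  obtain ⟨e₀, he₀, he₀r⟩ := extends_of_sylow θ hθ hinv fun p hp => by
    haveI := Fact.mk hp
    obtain ⟨S⟩ := (inferInstance : Nonempty (Sylow p (G ⧸ N)))
    set U := (S : Subgroup (G ⧸ N)).comap (QuotientGroup.mk' N)
    have hNU : N ≤ U := fun n hn => by
      show (n : G ⧸ N) ∈ (S : Subgroup (G ⧸ N))
      rw [(QuotientGroup.eq_one_iff n).2 hn]
      exact one_mem _
    have hUi : ¬ p ∣ U.index := by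
      rw [Subgroup.index_comap_of_surjective _ (QuotientGroup.mk'_surjective N)]
      exact S.not_dvd_index
    by_cases hpN : p ∣ N.index
    · have hpodd : Odd p := Odd.of_dvd_nat hidx hpN
      obtain ⟨a, ha⟩ := IsPGroup.iff_card.1 S.isPGroup'
      have hsub : (N.subgroupOf U).index = p ^ a := by
        have h1 := Subgroup.relIndex_mul_index hNU
        rw [Subgroup.index_comap_of_surjective _ (QuotientGroup.mk'_surjective N),
          Subgroup.index_eq_card N, ← (S : Subgroup (G ⧸ N)).card_mul_index, ha] at h1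
        exact Nat.eq_of_mul_eq_mul_right (Nat.pos_of_ne_zero Subgroup.index_ne_zero_of_finite) h1
      haveI := Fintype.ofFinite U
      let e := Subgroup.subgroupOfEquivOfLe hNU
      obtain ⟨η, hη, hηr, -⟩ := exists_fixed_ext_pgroup p hpodd a (N.subgroupOf U) hsub
        (k := k) (hk.coprime_dvd_right (Subgroup.card_subgroup_dvd_card U))
        (fun x hx => Subtype.ext (by
          rw [SubgroupClass.coe_pow, InvMemClass.coe_inv]
          exact hk₂ x (by rwa [Subgroup.orderOf_coe])))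
        (Chars.isIrrCharacter_comp_equiv hθ e) (fun n => by
          show θ (e (n ^ k)) = θ (e n)
          rw [map_pow]; exact hfix _) (fun g n => hinv (g : G) (e n))
      refine ⟨U, hNU, η, hUi, Chars.isCharacter_of_isIrr hη, fun n => ?_⟩
      have h2 := hηr (e.symm n)
      simp only [Function.comp_apply, MulEquiv.apply_symm_apply] at h2
      rw [← h2]
      rfl
    · exact ⟨N, le_rfl, θ, hpN, Chars.isCharacter_of_isIrr hθ, fun n => rfl⟩
  exact exists_fixed_ext_of_ext N hidx hk hk₂ hθ hfix he₀ he₀r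

/-- The fixed character over a fixed character: existence, uniqueness, and extension. -/
theorem existsUnique_fixed_over {G : Type u} [Group G] [Fintype G] (N : Subgroup G)
    [hN : N.Normal] [Fintype N] (hidx : Odd N.index) {k : ℕ} (hk : Nat.Coprime k (Nat.card G))
    (hk₂ : ∀ g : G, Odd (orderOf g) → g ^ k = g⁻¹) (θ : IrrCharacter N)
    (hfix : ∀ n : N, (θ : N → ℂ) (n ^ k) = (θ : N → ℂ) n) :
    ∃ χ : IrrCharacter G, (classInner (fun n : N => (χ : G → ℂ) n) (θ : N → ℂ) ≠ 0 ∧
      (∀ g : G, (χ : G → ℂ) (g ^ k) = (χ : G → ℂ) g) ∧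
      ((∀ g : G, ∀ n : N, (θ : N → ℂ) ⟨g * n * g⁻¹, hN.conj_mem n n.2 g⟩ = (θ : N → ℂ) n) →
        ∀ n : N, (χ : G → ℂ) n = (θ : N → ℂ) n)) ∧
      ∀ χ' : IrrCharacter G, classInner (fun n : N => (χ' : G → ℂ) n) (θ : N → ℂ) ≠ 0 →
        (∀ g : G, (χ' : G → ℂ) (g ^ k) = (χ' : G → ℂ) g) → χ' = χ := by
  classical
  obtain ⟨χ, hχ⟩ := Finset.card_eq_one.1 (card_fixed_over_eq_one N hidx hk hk₂ θ.2 hfix)
  have hmem := Finset.mem_singleton_self χ
  rw [← hχ, Finset.mem_filter] at hmem
  have huniq : ∀ χ' : IrrCharacter G, classInner (fun n : N => (χ' : G → ℂ) n) (θ : N → ℂ) ≠ 0 →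
      (∀ g : G, (χ' : G → ℂ) (g ^ k) = (χ' : G → ℂ) g) → χ' = χ := fun χ' h1 h2 => by
    rw [← Finset.mem_singleton, ← hχ, Finset.mem_filter]
    exact ⟨Finset.mem_univ _, h1, h2⟩
  refine ⟨χ, ⟨hmem.2.1, hmem.2.2, fun hinv n => ?_⟩, huniq⟩
  obtain ⟨ξ, hξ, hξr, hξk⟩ := exists_fixed_ext N hidx hk hk₂ θ.2 hfix hinv
  have h1 := huniq ⟨ξ, hξ⟩ (by
    rw [show (fun n : N => ξ n) = (θ : N → ℂ) from funext hξr, Chars.classInner_self_irr θ.2]
    exact one_ne_zero) hξk
  rw [← h1]
  exact hξr n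

end Cfsg.Agent.Chars2
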