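import Cfsg.Agent.Blocks.RealOdd
import Cfsg.Agent.Chars2.Clifford
import Cfsg.Agent.Blocks.Brauer

/-!
Principal blocks and normal subgroups: constituents, and the characters over a principal
constituent that are fixed by the inversion of the odd-order classes, the index being odd.
-/

set_option autoImplicit false
set_option linter.unusedSectionVars false
set_option linter.style.haveILetI false

namespace Cfsg.Agent.Chars2

open Cfsg Cfsg.Agent Cfsg.Agent.Blocks
open scoped ComplexConjugate

universe u

variable {G : Type u} [Group G] [Fintype G] {M : Ideal AlgInt} [M.IsMaximal]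

/-- An odd-order class map: a character real modulo `M` on the odd-order classes, small on the
non-trivial real ones, is principal. -/
theorem mem_principal_of_real_classes (h2M : ((2 : ℕ) : AlgInt) ∈ M) (χ : IrrCharacter G)
    (hsmall' : ∀ g : G, g ≠ 1 → ¬ 2 ∣ orderOf g → IsConj g g⁻¹ →
      MemLocalIdeal M (centralChar (χ : G → ℂ) g))
    (hreal : ∀ g : G, ¬ 2 ∣ orderOf g → MemLocalIdeal M (centralChar (χ : G → ℂ) g⁻¹ - centralChar (χ : G → ℂ) g)) :
    χ ∈ principalBlock M G := by
  classical
  haveI : Fact (Nat.Prime 2) := ⟨Nat.prime_two⟩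
  by_contra hχ
  set e := blockCoeff (principalBlock M G) with he
  have hec : IsClassFunction G e := isClassFunction_blockCoeff _
  have heR : RFun M e := rFun_blockCoeff h2M isPBlock_principal
  let inv' : ConjClasses G → ConjClasses G := fun C => ConjClasses.mk (clsRep C)⁻¹
  have key : ∀ φ : IrrCharacter G, (∀ g : G, g ≠ 1 → ¬ 2 ∣ orderOf g → IsConj g g⁻¹ →
        MemLocalIdeal M (centralChar (φ : G → ℂ) g)) →
      (∀ g : G, ¬ 2 ∣ orderOf g → MemLocalIdeal M (centralChar (φ : G → ℂ) g⁻¹ - centralChar (φ : G → ℂ) g)) →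
      MemLocalIdeal M (omega (φ : G → ℂ) e - e 1) := by
    intro φ hφ hφr
    rw [omega_eq_sum_clsFun (Chars.isClassFunction_irr φ) hec,
      ← mk_idealAdd_eq_zero (M := M), QuotientAddGroup.mk_sub, sub_eq_zero,
      QuotientAddGroup.mk_sum]
    have hc1 : clsRep (ConjClasses.mk (1 : G)) = 1 :=
      isConj_one_left.1 (ConjClasses.mk_eq_mk_iff_isConj.1 (mk_clsRep _))
    rw [← Finset.add_sum_erase _ _ (Finset.mem_univ (ConjClasses.mk (1 : G))), hc1,
      centralChar_one _ (Chars.irr_apply_one_ne_zero φ.2), mul_one, add_eq_left]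
    have hcls : ∀ {ψ : G → ℂ}, IsClassFunction G ψ → ∀ C : ConjClasses G,
        centralChar ψ (clsRep (inv' C)) = centralChar ψ (clsRep C)⁻¹ := by
      intro ψ hψ C
      have h : IsConj (clsRep (inv' C)) (clsRep C)⁻¹ :=
        ConjClasses.mk_eq_mk_iff_isConj.1 (mk_clsRep _)
      rw [← omega_clsFun hψ, ← omega_clsFun hψ]
      congr 1
      funext y
      by_cases hy : IsConj (clsRep C)⁻¹ y
      · rw [clsFun_of_conj hy, clsFun_of_conj (h.trans hy)]
      · rw [clsFun_of_not hy, clsFun_of_not (fun h' => hy (h.symm.trans h'))]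
    have hsmall : ∀ g : G, MemLocalRing M (e g) ∧ (2 ∣ orderOf g → e g = 0) :=
      fun g => ⟨heR g, fun h => blockCoeff_eq_zero_of_dvd h2M isPBlock_principal h⟩
    refine Finset.sum_involution (fun C _ => inv' C) (fun C _ => ?_) (fun C hC hne h => ?_)
      (fun C hC => ?_) (fun C _ => ?_)
    · rw [← QuotientAddGroup.mk_add, mk_idealAdd_eq_zero, hcls (Chars.isClassFunction_irr φ),
        show e (clsRep (inv' C)) = e (clsRep C) by
          rw [isClassFunction_eq hec (ConjClasses.mk_eq_mk_iff_isConj.1 (mk_clsRep _)).symm]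
          exact blockCoeff_principal_inv _]
      set g := clsRep C
      have : e g * centralChar (φ : G → ℂ) g + e g * centralChar (φ : G → ℂ) g⁻¹ =
          e g * (centralChar (φ : G → ℂ) g⁻¹ - centralChar (φ : G → ℂ) g) +
            ((2 : ℕ) : ℂ) * (e g * centralChar (φ : G → ℂ) g) := by push_cast; ring
      rw [this]
      by_cases ho : 2 ∣ orderOf g
      · rw [show e g = 0 from blockCoeff_eq_zero_of_dvd h2M isPBlock_principal ho]
        simp only [zero_mul, mul_zero, add_zero]
        exact memI_zero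
      exact memI_add (memI_mul_left (heR g) (hφr g ho))
        (memI_mul_right ((memI_natCast_iff h2M 2).2 dvd_rfl)
          (memR_mul (heR g) (centralChar_memR h2M φ g)))
    · apply hne
      rw [mk_idealAdd_eq_zero]
      obtain ⟨hR, hz⟩ := hsmall (clsRep C)
      by_cases ho : 2 ∣ orderOf (clsRep C)
      · rw [hz ho, zero_mul]; exact memI_zero
      have hreal' : IsConj (clsRep C) (clsRep C)⁻¹ :=
        ConjClasses.mk_eq_mk_iff_isConj.1 ((mk_clsRep C).trans h.symm)
      exact memI_mul_left hR (hφ _ (fun h1 => (Finset.mem_erase.1 hC).1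
        (by rw [← mk_clsRep C, h1])) ho hreal')
    · refine Finset.mem_erase.2 ⟨fun h => (Finset.mem_erase.1 hC).1 ?_, Finset.mem_univ _⟩
      have h1 : IsConj (clsRep C)⁻¹ 1 := ConjClasses.mk_eq_mk_iff_isConj.1 h
      rw [← mk_clsRep C, inv_eq_one.1 (isConj_one_left.1 h1)]
    · have h : IsConj (clsRep (inv' C)) (clsRep C)⁻¹ :=
        ConjClasses.mk_eq_mk_iff_isConj.1 (mk_clsRep _)
      obtain ⟨c, hc⟩ := isConj_iff.1 h
      show ConjClasses.mk (clsRep (inv' C))⁻¹ = C
      conv_rhs => rw [← mk_clsRep C]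
      exact ConjClasses.mk_eq_mk_iff_isConj.2
        (isConj_iff.2 ⟨c, by rw [← conj_inv, hc, inv_inv]⟩)
  have h1 := key (oneChar G) (fun g hg ho hr => by
    rw [centralChar, coe_oneChar, mul_one, div_one]
    refine (memI_natCast_iff h2M _).2 ?_
    by_contra hi
    exact hg (eq_one_of_real_odd_class ho hr hi)) (fun g _ => by
    rw [centralChar_one_inv, sub_self]; exact memI_zero)
  have h2 := key χ hsmall' hreal
  rw [omega_blockCoeff_mem one_mem_principal] at h1
  rw [omega_blockCoeff_not_mem hχ] at h2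
  exact not_memI_one (by simpa using memI_sub h1 h2)

/-- The central character at functions supported in a normal subgroup. -/
theorem omega_supported (N : Subgroup G) [N.Normal] [Fintype N] (χ : IrrCharacter G)
    (θ : IrrCharacter N) (hover : classInner (fun n : N => (χ : G → ℂ) n) (θ : N → ℂ) ≠ 0)
    {f : G → ℂ} (hf : IsClassFunction G f) (hsupp : ∀ g : G, g ∉ N → f g = 0) :
    omega (χ : G → ℂ) f = omega (θ : N → ℂ) (fun n : N => f n) := by
  classical
  set m := classInner (fun n : N => (χ : G → ℂ) n) (θ : N → ℂ) with hm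
  have hres := fun n => clifford_restrict χ.2 θ.2 hover n
  have hone := hres 1
  simp only [Subgroup.coe_one] at hone
  have hsum : ∑ g : G, f g * (χ : G → ℂ) g = ∑ n : N, f n * (χ : G → ℂ) n := by
    rw [← Finset.sum_subset (Finset.subset_univ (Finset.univ.filter (· ∈ N)))
      (fun g _ hg => by rw [hsupp g (by simpa using hg), zero_mul])]
    exact Finset.sum_subtype _ (fun g => by simp) (fun g => f g * (χ : G → ℂ) g)
  have horb : ∀ φ ∈ orbitFinset θ.2,
      ∑ n : N, f n * (φ : N → ℂ) n = omega (θ : N → ℂ) (fun n : N => f n) * (φ : N → ℂ) 1 := by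
    intro φ hφ
    obtain ⟨g, hg⟩ := (mem_orbitFinset θ.2).1 hφ
    rw [← hg]
    simp only [conjFun, map_one]
    rw [omega, div_mul_cancel₀ _ (Chars.irr_apply_one_ne_zero θ.2)]
    refine Fintype.sum_equiv (MulAut.conjNormal g⁻¹).toEquiv _ _ fun n => ?_
    simp only [MulEquiv.toEquiv_eq_coe, EquivLike.coe_coe]
    rw [MulAut.conjNormal_apply, hf (n : G) g⁻¹]
  have e : ∑ n : N, f n * (χ : G → ℂ) n = omega (θ : N → ℂ) (fun n : N => f n) *
      (m * ∑ φ ∈ orbitFinset θ.2, (φ : N → ℂ) 1) := by
    calc ∑ n : N, f n * (χ : G → ℂ) n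
        = ∑ n : N, ∑ φ ∈ orbitFinset θ.2, m * (f n * (φ : N → ℂ) n) := by
          refine Finset.sum_congr rfl fun n _ => ?_
          rw [hres n, Finset.mul_sum, Finset.mul_sum]
          exact Finset.sum_congr rfl fun φ _ => by rw [hm]; ring
      _ = ∑ φ ∈ orbitFinset θ.2, m * (omega (θ : N → ℂ) (fun n : N => f n) * (φ : N → ℂ) 1) := by
          rw [Finset.sum_comm]
          exact Finset.sum_congr rfl fun φ hφ => by rw [← Finset.mul_sum, horb φ hφ]
      _ = _ := by
          rw [Finset.mul_sum, Finset.mul_sum]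
          exact Finset.sum_congr rfl fun φ _ => by ring
  rw [omega, hsum, e, ← hone, mul_div_assoc, div_self (Chars.irr_apply_one_ne_zero χ.2), mul_one]

/-- A constituent on a normal subgroup of a principal character is principal. -/
theorem principal_constituent {p : ℕ} [Fact p.Prime] (hpM : (p : AlgInt) ∈ M) (N : Subgroup G)
    [N.Normal] [Fintype N] (χ : IrrCharacter G) (θ : IrrCharacter N)
    (hover : classInner (fun n : N => (χ : G → ℂ) n) (θ : N → ℂ) ≠ 0)
    (hχ : χ ∈ principalBlock M G) : θ ∈ principalBlock M N := by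
  classical
  by_contra hθ
  set e := blockCoeff (principalBlock M N) with he
  have heR : RFun M e := rFun_blockCoeff hpM isPBlock_principal
  -- invariance of the principal idempotent
  have hinv : ∀ (g : G) (n : N), e (MulAut.conjNormal g n) = e n := by
    intro g n
    set α : N ≃* N := MulAut.conjNormal g
    let s : IrrCharacter N → IrrCharacter N := fun ψ =>
      ⟨fun x => (ψ : N → ℂ) (α x), Chars.isIrrCharacter_comp_equiv ψ.2 α⟩
    let t : IrrCharacter N → IrrCharacter N := fun ψ =>
      ⟨fun x => (ψ : N → ℂ) (α.symm x), Chars.isIrrCharacter_comp_equiv ψ.2 α.symm⟩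
    have hcc : ∀ (β : N ≃* N) (ψ : IrrCharacter N) (x : N),
        centralChar (fun y => (ψ : N → ℂ) (β y)) x = centralChar (ψ : N → ℂ) (β x) := by
      intro β ψ x
      rw [← omega_clsFun (Chars.isClassFunction_irr ψ),
        ← omega_clsFun (χ := fun y => (ψ : N → ℂ) (β y)) (fun a b => by
          show (ψ : N → ℂ) (β (b * a * b⁻¹)) = (ψ : N → ℂ) (β a)
          rw [map_mul, map_mul, map_inv]
          exact Chars.isClassFunction_irr ψ _ _)]
      simp only [omega, map_one]
      congr 1
      refine Fintype.sum_equiv β.toEquiv _ _ fun y => ?_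
      simp only [MulEquiv.toEquiv_eq_coe, EquivLike.coe_coe]
      congr 1
      by_cases h : IsConj x y
      · have h2 : IsConj (β x) (β y) := β.toMonoidHom.map_isConj h
        rw [clsFun_of_conj h, clsFun_of_conj h2]
      · rw [clsFun_of_not h, clsFun_of_not fun h' => h ?_]
        simpa using β.symm.toMonoidHom.map_isConj h'
    have hmem : ∀ (β : N ≃* N) (ψ : IrrCharacter N), ψ ∈ principalBlock M N →
        (⟨fun x => (ψ : N → ℂ) (β x), Chars.isIrrCharacter_comp_equiv ψ.2 β⟩ : IrrCharacter N) ∈
          principalBlock M N := by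
      intro β ψ hψ x
      show MemLocalIdeal M (_ - centralChar (fun y => (ψ : N → ℂ) (β y)) x)
      have h1 := hcc β (oneChar N) x
      simp only [coe_oneChar] at h1
      rw [hcc, h1]
      exact hψ (β x)
    rw [he]
    simp only [blockCoeff, finsum_mem_eq_filter]
    congr 1
    refine Finset.sum_bij' (fun ψ _ => s ψ) (fun ψ _ => t ψ)
      (fun ψ hψ => Finset.mem_filter.2 ⟨Finset.mem_univ _, hmem α ψ (Finset.mem_filter.1 hψ).2⟩)
      (fun ψ hψ => Finset.mem_filter.2 ⟨Finset.mem_univ _, hmem α.symm ψ (Finset.mem_filter.1 hψ).2⟩)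
      (fun ψ _ => Subtype.ext (funext fun x => by simp [s, t]))
      (fun ψ _ => Subtype.ext (funext fun x => by simp [s, t])) fun ψ _ => ?_
    simp [s]
  set f : G → ℂ := Cfsg.extendByZero N e with hf
  have hfv : ∀ n : N, f n = e n := fun n => Chars.extendByZero_coe N e n
  have hf0 : ∀ g : G, g ∉ N → f g = 0 := fun g hg => Chars.extendByZero_of_not_mem N e hg
  have hfc : IsClassFunction G f := by
    intro x c
    by_cases hx : x ∈ N
    · have hx' := ‹N.Normal›.conj_mem x hx c
      rw [hfv ⟨x, hx⟩, hfv ⟨_, hx'⟩, ← hinv c ⟨x, hx⟩]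
      congr 1
    · rw [hf0 x hx, hf0 _ fun h => hx (by simpa [mul_assoc] using ‹N.Normal›.conj_mem _ h c⁻¹)]
  have hfR : RFun M f := fun x => by
    by_cases hx : x ∈ N
    · rw [hfv ⟨x, hx⟩]; exact heR _
    · rw [hf0 x hx]; exact memI_memR memI_zero
  have hover1 : classInner (fun n : N => ((oneChar G : IrrCharacter G) : G → ℂ) n)
      ((oneChar N : IrrCharacter N) : N → ℂ) ≠ 0 := by
    rw [show (fun n : N => ((oneChar G : IrrCharacter G) : G → ℂ) n) =
      ((oneChar N : IrrCharacter N) : N → ℂ) from rfl, Chars.classInner_irrCharacter, if_pos rfl]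
    exact one_ne_zero
  have h := omega_congr hχ hfc hfR (χ := oneChar G)
  have hfe : (fun n : N => f n) = e := funext hfv
  rw [omega_supported N χ θ hover hfc hf0, omega_supported N (oneChar G) (oneChar N) hover1 hfc hf0,
    hfe, omega_blockCoeff_mem one_mem_principal, omega_blockCoeff_not_mem hθ, sub_zero] at h
  exact not_memI_one h

/-- Over a principal constituent, a character fixed by a map inverting the odd-order elements is
principal when the index is odd. -/
theorem principal_of_fixed (h2M : ((2 : ℕ) : AlgInt) ∈ M) (N : Subgroup G) [N.Normal] [Fintype N]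
    (hidx : Odd N.index) (χ : IrrCharacter G) (θ : IrrCharacter N)
    (hover : classInner (fun n : N => (χ : G → ℂ) n) (θ : N → ℂ) ≠ 0)
    (hfix : ∀ g : G, ¬ 2 ∣ orderOf g → (χ : G → ℂ) g⁻¹ = (χ : G → ℂ) g)
    (hθ : θ ∈ principalBlock M N) : χ ∈ principalBlock M G := by
  classical
  haveI : Fact (Nat.Prime 2) := ⟨Nat.prime_two⟩
  refine mem_principal_of_real_classes h2M χ (fun g hg1 ho hr => ?_) fun g ho => ?_
  · have hgN : g ∈ N := by
      obtain ⟨c, hc⟩ := isConj_iff.1 hr
      set q := QuotientGroup.mk' N g with hq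
      set d := QuotientGroup.mk' N c with hd
      have hcd : d * q * d⁻¹ = q⁻¹ := by rw [hq, hd, ← map_inv, ← map_mul, ← map_mul, hc, map_inv]
      have hodd : ∀ z : G ⧸ N, Odd (orderOf z) := fun z =>
        Odd.of_dvd_nat hidx (N.index_eq_card ▸ orderOf_dvd_natCard z)
      have hd2 : Commute (d ^ 2) q := by
        show d ^ 2 * q = q * d ^ 2
        calc d ^ 2 * q = d * (d * q * d⁻¹) * d⁻¹ * d ^ 2 := by simp [pow_two, mul_assoc]
          _ = d * q⁻¹ * d⁻¹ * d ^ 2 := by rw [hcd]
          _ = (d * q * d⁻¹)⁻¹ * d ^ 2 := by group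
          _ = q * d ^ 2 := by rw [hcd, inv_inv]
      obtain ⟨j, hj⟩ := hodd d
      have hdq : Commute d q := by
        have : (d ^ 2) ^ (j + 1) = d := by
          rw [← pow_mul, show 2 * (j + 1) = orderOf d + 1 by omega, pow_succ, pow_orderOf_eq_one,
            one_mul]
        rw [← this]; exact hd2.pow_left _
      rw [hdq.eq, mul_inv_cancel_right] at hcd
      have hq2 : q ^ 2 = 1 := by rw [pow_two]; nth_rw 1 [hcd]; exact inv_mul_cancel q
      have : orderOf q = 1 := by
        rcases (Nat.dvd_prime Nat.prime_two).1 (orderOf_dvd_of_pow_eq_one hq2) with h | h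
        · exact h
        · exact absurd (h ▸ hodd q) (by decide)
      exact (QuotientGroup.eq_one_iff g).1 (orderOf_eq_one_iff.1 this)
    set f := clsFun g with hf
    have hfc : IsClassFunction G f := isClassFunction_clsFun g
    have hf0 : ∀ x : G, x ∉ N → f x = 0 := fun x hx => clsFun_of_not fun h => hx (by
      obtain ⟨c, rfl⟩ := isConj_iff.1 h; exact ‹N.Normal›.conj_mem g hgN c)
    have h1 := omega_congr (χ := oneChar N) hθ (f := fun n : N => f n)
      (isClassFunction_resFun N hfc) (rFun_resFun N (rFun_clsFun g))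
    have hover1 : classInner (fun n : N => ((oneChar G : IrrCharacter G) : G → ℂ) n)
        ((oneChar N : IrrCharacter N) : N → ℂ) ≠ 0 := by
      rw [show (fun n : N => ((oneChar G : IrrCharacter G) : G → ℂ) n) =
        ((oneChar N : IrrCharacter N) : N → ℂ) from rfl, Chars.classInner_irrCharacter, if_pos rfl]
      exact one_ne_zero
    rw [← omega_supported N χ θ hover hfc hf0,
      ← omega_supported N (oneChar G) (oneChar N) hover1 hfc hf0,
      omega_clsFun (Chars.isClassFunction_irr _), omega_clsFun (Chars.isClassFunction_irr _)] at h1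
    have h2 : MemLocalIdeal M (centralChar ((oneChar G : IrrCharacter G) : G → ℂ) g) := by
      rw [centralChar, coe_oneChar, mul_one, div_one]
      refine (memI_natCast_iff h2M _).2 ?_
      by_contra hi
      exact hg1 (eq_one_of_real_odd_class ho hr hi)
    simpa using memI_sub h2 h1
  · rw [centralChar, centralChar, centralizer_inv_singleton, hfix g ho, sub_self]
    exact memI_zero

end Cfsg.Agent.Chars2
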