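import Cfsg.Agent.Chars.Induced
import Mathlib.GroupTheory.GroupAction.Quotient
import Mathlib.GroupTheory.Sylow

/-!
Permutation characters and quasi-elementary subgroups.
-/

set_option autoImplicit false
set_option linter.style.haveILetI false
set_option linter.unusedSectionVars false

namespace Cfsg.Agent.Chars2

open Cfsg Cfsg.Agent MulAction

universe u v

variable {G : Type u} [Group G] [Fintype G]

/-- The induced trivial character of a stabiliser counts the fixed points in the orbit. -/
theorem indFun_stabilizer {X : Type v} [MulAction G X] [Finite X] (x : X) (g : G) :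
    indFun (stabilizer G x) (fun _ => 1) g =
      (Nat.card {y : orbit G x // g • (y : X) = y} : ℂ) := by
  classical
  set U := stabilizer G x
  have hterm : ∀ a : G, extendByZero U (fun _ => (1 : ℂ)) (a⁻¹ * g * a) =
      if g • a • x = a • x then 1 else 0 := by
    intro a
    rw [Chars.extendByZero_eq_ite]
    have : a⁻¹ * g * a ∈ U ↔ g • a • x = a • x := by
      rw [mem_stabilizer_iff, mul_smul, mul_smul, inv_smul_eq_iff]
    simp only [this, dite_eq_ite]
  have hcount : (Finset.univ.filter fun a : G => g • a • x = a • x).card =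
      Nat.card U * Nat.card {y : orbit G x // g • (y : X) = y} := by
    let T : Set (G ⧸ U) :=
      {q | g • ((orbitEquivQuotientStabilizer G x).symm q : X) = (orbitEquivQuotientStabilizer G x).symm q}
    rw [← Nat.card_eq_finsetCard,
      ← Nat.card_congr ((orbitEquivQuotientStabilizer G x).symm.subtypeEquiv
        (p := fun q => q ∈ T) (q := fun y : orbit G x => g • (y : X) = y) fun q => Iff.rfl),
      ← Nat.card_prod]
    refine Nat.card_congr (Equiv.trans ?_ (QuotientGroup.preimageMkEquivSubgroupProdSet U T))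
    refine Equiv.subtypeEquivRight fun a => ?_
    simp only [Finset.mem_filter, Finset.mem_univ, true_and, Set.mem_preimage, T, Set.mem_setOf_eq]
    exact Iff.rfl
  rw [Chars.indFun_apply, Finset.sum_congr rfl fun a _ => hterm a, ← Finset.sum_filter,
    Finset.sum_const, nsmul_eq_mul, mul_one, hcount, Nat.cast_mul, ← mul_assoc,
    inv_mul_cancel₀ (Chars.subgroup_card_ne_zero U), one_mul]

/-- The induced trivial character counts fixed cosets. -/
theorem indFun_one_apply (H : Subgroup G) (g : G) :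
    indFun H (fun _ => 1) g = (Nat.card {q : G ⧸ H // g • q = q} : ℂ) := by
  have key : ∀ U : Subgroup G, U = stabilizer G ((1 : G) : G ⧸ H) →
      indFun U (fun _ => 1) g = (Nat.card {q : G ⧸ H // g • q = q} : ℂ) := by
    rintro U rfl
    rw [indFun_stabilizer]
    congr 1
    exact Nat.card_congr
      { toFun := fun y => ⟨y.1.1, y.2⟩
        invFun := fun q => ⟨⟨q.1, by rw [orbit_eq_univ]; trivial⟩, q.2⟩
        left_inv := fun _ => rfl
        right_inv := fun _ => rfl }
  exact key H (stabilizer_quotient H).symm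

/-- A permutation character is a sum of transitive ones. -/
theorem card_fixed_eq_sum {X : Type v} [MulAction G X] [Finite X] (P : Subgroup G → Prop)
    (hP : ∀ x : X, ∃ y ∈ orbit G x, P (stabilizer G y)) :
    ∃ a : Subgroup G → ℕ, (∀ U, a U ≠ 0 → P U) ∧
      (fun g => (Nat.card {x : X // g • x = x} : ℂ)) =
        ∑ U : Subgroup G, (a U : ℂ) • indFun U (fun _ => 1) := by
  classical
  haveI : Fintype (Quotient (orbitRel G X)) := Fintype.ofFinite _
  have hrep : ∀ ω : Quotient (orbitRel G X), ∃ y : X,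
      Quotient.mk'' y = ω ∧ P (stabilizer G y) := by
    intro ω
    induction ω using Quotient.inductionOn' with
    | h x =>
      obtain ⟨y, hy, hPy⟩ := hP x
      exact ⟨y, Quotient.sound' hy, hPy⟩
  choose y hy hPy using hrep
  refine ⟨fun U => (Finset.univ.filter fun ω => stabilizer G (y ω) = U).card, ?_, ?_⟩
  · intro U hU
    obtain ⟨ω, hω⟩ := Finset.card_ne_zero.1 hU
    exact (Finset.mem_filter.1 hω).2 ▸ hPy ω
  · funext g
    rw [Finset.sum_apply]
    simp only [Pi.smul_apply, smul_eq_mul, ← nsmul_eq_mul, ← Finset.sum_const]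
    rw [Finset.sum_congr rfl fun U _ => Finset.sum_congr rfl fun ω hω =>
      show indFun U (fun _ => 1) g = indFun (stabilizer G (y ω)) (fun _ => 1) g by
        rw [(Finset.mem_filter.1 hω).2]]
    refine Eq.trans ?_ (Finset.sum_fiberwise Finset.univ (fun ω => stabilizer G (y ω)) _).symm
    simp only [indFun_stabilizer]
    rw [← Nat.cast_sum, ← Nat.card_sigma]
    congr 1
    have hmem : ∀ (ω : Quotient (orbitRel G X)) (z : X),
        z ∈ orbit G (y ω) ↔ Quotient.mk'' z = ω := fun ω z => by
      conv_rhs => rw [← hy ω]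
      rw [Quotient.eq'']; exact Iff.rfl
    refine Nat.card_congr
      { toFun := fun x => ⟨Quotient.mk'' x.1, ⟨⟨x.1, (hmem _ _).2 rfl⟩, x.2⟩⟩
        invFun := fun s => ⟨s.2.1.1, s.2.2⟩
        left_inv := fun _ => rfl
        right_inv := ?_ }
    rintro ⟨ω, ⟨⟨z, hz⟩, hzg⟩⟩
    obtain rfl := (hmem ω z).1 hz
    rfl

/-- Products of permutation characters on cosets. -/
theorem indFun_one_mul (H K : Subgroup G) :
    ∃ a : Subgroup G → ℕ, (∀ U, a U ≠ 0 → U ≤ H) ∧
      indFun H (fun _ => 1) * indFun K (fun _ => 1) =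
        ∑ U : Subgroup G, (a U : ℂ) • indFun U (fun _ => 1) := by
  classical
  obtain ⟨a, ha, he⟩ := card_fixed_eq_sum (G := G) (X := (G ⧸ H) × (G ⧸ K)) (· ≤ H) fun x => by
    obtain ⟨u, hu⟩ := QuotientGroup.mk_surjective x.1
    refine ⟨u⁻¹ • x, mem_orbit _ _, fun s hs => ?_⟩
    have h1 : s • (u⁻¹ • x.1) = u⁻¹ • x.1 := congrArg Prod.fst (mem_stabilizer_iff.1 hs)
    rw [← hu, Quotient.smul_mk, smul_eq_mul, inv_mul_cancel] at h1
    rw [← stabilizer_quotient H]
    exact mem_stabilizer_iff.2 h1
  refine ⟨a, ha, ?_⟩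
  rw [← he]
  funext g
  rw [Pi.mul_apply, indFun_one_apply, indFun_one_apply, ← Nat.cast_mul, ← Nat.card_prod]
  congr 1
  exact Nat.card_congr
    { toFun := fun q => ⟨(q.1.1, q.2.1), Prod.ext q.1.2 q.2.2⟩
      invFun := fun x => (⟨x.1.1, congrArg Prod.fst x.2⟩, ⟨x.1.2, congrArg Prod.snd x.2⟩)
      left_inv := fun _ => rfl
      right_inv := fun _ => rfl }

/-- `H` is quasi-elementary for `p`. -/
def IsQuasiElem (p : ℕ) (H : Subgroup G) : Prop :=
  ∃ C : Subgroup G, C ≤ H ∧ H ≤ Subgroup.normalizer (C : Set G) ∧ IsCyclic C ∧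
    Nat.Coprime (Nat.card C) p ∧ ∃ k : ℕ, C.relIndex H = p ^ k

/-- Subgroups of quasi-elementary subgroups are quasi-elementary. -/
theorem IsQuasiElem.mono {p : ℕ} (hp : p.Prime) {H U : Subgroup G} (h : IsQuasiElem p H)
    (hU : U ≤ H) : IsQuasiElem p U := by
  obtain ⟨C, hCH, hN, hcyc, hcop, k, hk⟩ := h
  refine ⟨C ⊓ U, inf_le_right, fun u hu => ?_, ?_, ?_, ?_⟩
  · have hu' := hN (hU hu)
    rw [Subgroup.mem_normalizer_iff] at hu' ⊢
    intro c
    simp only [SetLike.mem_coe, Subgroup.mem_inf] at hu' ⊢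
    rw [← hu' c]
    refine and_congr_right fun _ => ⟨fun hc => U.mul_mem (U.mul_mem hu hc) (U.inv_mem hu), fun hc => ?_⟩
    have := U.mul_mem (U.mul_mem (U.inv_mem hu) hc) hu
    simpa [mul_assoc] using this
  · haveI := hcyc
    exact isCyclic_of_injective (Subgroup.inclusion (inf_le_left : C ⊓ U ≤ C))
      (Subgroup.inclusion_injective _)
  · exact Nat.Coprime.coprime_dvd_left (Subgroup.card_dvd_of_le inf_le_left) hcop
  · rw [Subgroup.inf_relIndex_right]
    haveI : (C.subgroupOf H).Normal := (Subgroup.normal_subgroupOf_iff_le_normalizer hCH).2 hN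
    have hdvd : C.relIndex U ∣ p ^ k := by
      rw [← hk, ← Subgroup.relIndex_subgroupOf hU]
      exact Subgroup.relIndex_dvd_index_of_normal _ _
    obtain ⟨j, -, hj⟩ := (Nat.dvd_prime_pow hp).1 hdvd
    exact ⟨j, hj⟩

/-- A quasi-elementary subgroup whose permutation character is prime to `p` at `x`. -/
theorem exists_quasiElem (x : G) {p : ℕ} (hp : p.Prime) :
    ∃ H : Subgroup G, IsQuasiElem p H ∧
      ∃ n : ℕ, indFun H (fun _ => 1) x = (n : ℂ) ∧ ¬ p ∣ n := by
  classical
  haveI := Fact.mk hp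
  obtain ⟨j, m, hpm, hord⟩ :=
    Nat.exists_eq_pow_mul_and_not_dvd (orderOf_pos x).ne' p hp.ne_one
  set c := x ^ p ^ j with hc
  have hcord : orderOf c = m := by
    rw [hc, orderOf_pow' x (pow_ne_zero _ hp.ne_zero), hord,
      Nat.gcd_eq_right (Dvd.intro _ rfl), Nat.mul_div_cancel_left _ (pow_pos hp.pos j)]
  set C := Subgroup.zpowers c with hC
  have hCcop : Nat.Coprime (Nat.card C) p := by
    rw [hC, Nat.card_zpowers, hcord]
    exact (hp.coprime_iff_not_dvd.2 hpm).symm
  set N := Subgroup.normalizer (C : Set G) with hN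
  have hxN : x ∈ N := by
    rw [hN, Subgroup.mem_normalizer_iff]
    intro h
    have hcomm : ∀ z ∈ C, x * z * x⁻¹ = z := by
      rintro _ ⟨i, rfl⟩
      show x * c ^ i * x⁻¹ = c ^ i
      rw [(((Commute.refl x).pow_right _).zpow_right i).eq, mul_inv_cancel_right]
    refine ⟨fun hh => by rw [hcomm h hh]; exact hh, fun hh => ?_⟩
    have e := hcomm _ hh
    have : h = x * h * x⁻¹ := by
      have e2 := congrArg (fun w => x⁻¹ * w * x) e
      simpa [mul_assoc] using e2.symm
    rwa [this]
  set C' := C.subgroupOf N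
  have hCN : C ≤ N := Subgroup.le_normalizer
  haveI : C'.Normal := (Subgroup.normal_subgroupOf_iff_le_normalizer hCN).2 le_rfl
  obtain ⟨S⟩ : Nonempty (Sylow p (N ⧸ C')) := inferInstance
  set H' := (S : Subgroup (N ⧸ C')).comap (QuotientGroup.mk' C') with hH'
  set H := H'.map N.subtype with hH
  have hHN : H ≤ N := Subgroup.map_subtype_le _
  have hHeq : H.subgroupOf N = H' := Subgroup.comap_map_eq_self_of_injective N.subtype_injective _
  have hCH' : C' ≤ H' := fun z hz => by
    show QuotientGroup.mk' C' z ∈ (S : Subgroup _)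
    rw [show QuotientGroup.mk' C' z = 1 from (QuotientGroup.eq_one_iff z).2 hz]
    exact one_mem _
  have hCH : C ≤ H := fun z hz => ⟨⟨z, hCN hz⟩, hCH' hz, rfl⟩
  obtain ⟨k, hk⟩ := S.2.exists_card_eq
  have hrel : C.relIndex H = p ^ k := by
    rw [← Subgroup.relIndex_subgroupOf hHN, hHeq, ← hk]
    have h5 := Subgroup.relIndex_ker (K := H') (QuotientGroup.mk' C')
    rw [QuotientGroup.ker_mk'] at h5
    rw [h5, hH', Subgroup.map_comap_eq_self_of_surjective (QuotientGroup.mk'_surjective C')]
  refine ⟨H, ⟨C, hCH, hHN, inferInstance, hCcop, k, hrel⟩, _, indFun_one_apply H x, ?_⟩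
  -- fixed cosets lie in the normaliser
  have hfix : ∀ g : G, g⁻¹ * x * g ∈ H → g ∈ N := by
    intro g hg
    have hgc : g⁻¹ * c * g ∈ C := by
      have hcH : g⁻¹ * c * g ∈ H := by
        have h1 := H.pow_mem hg (p ^ j)
        have h2 : MulAut.conj g⁻¹ x ^ p ^ j = MulAut.conj g⁻¹ c := by rw [hc, map_pow]
        simp only [MulAut.conj_apply, inv_inv] at h2
        rwa [h2] at h1
      have h3 : (g⁻¹ * c * g) ^ p ^ k ∈ C := by
        haveI : (C.subgroupOf H).Normal := (Subgroup.normal_subgroupOf_iff_le_normalizer hCH).2 hHN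
        have h4 := Subgroup.pow_index_mem (C.subgroupOf H) (⟨_, hcH⟩ : H)
        rw [Subgroup.relIndex] at hrel
        rw [hrel] at h4
        exact h4
      have hord' : orderOf (g⁻¹ * c * g) = m := by
        rw [show g⁻¹ * c * g = MulAut.conj g⁻¹ c by simp, MulEquiv.orderOf_eq, hcord]
      obtain ⟨i, hi⟩ := exists_pow_eq_self_of_coprime (x := g⁻¹ * c * g) (n := p ^ k)
        (by rw [hord']; exact Nat.Coprime.pow_left k (hp.coprime_iff_not_dvd.2 hpm))
      rw [← hi]
      exact C.pow_mem h3 i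
    have hle : C.map (MulAut.conj g⁻¹).toMonoidHom ≤ C := by
      rw [hC, MonoidHom.map_zpowers, Subgroup.zpowers_le]
      simpa using hgc
    have heq : C.map (MulAut.conj g⁻¹).toMonoidHom = C :=
      Subgroup.eq_of_le_of_card_ge hle
        (Subgroup.card_map_of_injective (MulAut.conj g⁻¹).injective).ge
    have hmem : g⁻¹ ∈ N := by
      rw [hN, Subgroup.mem_normalizer_iff]
      intro z
      constructor
      · intro hz
        exact hle ⟨z, hz, by simp⟩
      · intro hz
        rw [← heq] at hz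
        obtain ⟨w, hw, hwe⟩ := hz
        have : w = z := (MulAut.conj g⁻¹).injective (by simpa using hwe)
        exact this ▸ hw
    simpa using N.inv_mem hmem
  let X := N ⧸ H'
  let x' : N := ⟨x, hxN⟩
  let P := Subgroup.zpowers ((x' : N ⧸ C'))
  have hP : IsPGroup p P := by
    refine IsPGroup.of_card_dvd_pow (n := j) ?_
    rw [Nat.card_zpowers]
    refine orderOf_dvd_of_pow_eq_one ?_
    rw [← QuotientGroup.mk_pow, QuotientGroup.eq_one_iff]
    exact Subgroup.mem_subgroupOf.2 (by rw [Subgroup.coe_pow]; exact Subgroup.mem_zpowers c)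
  -- the action of `x` on `N/H'` factors through `P`
  have hker : ∀ z ∈ C', ∀ q : X, z • q = q := by
    intro z hz q
    obtain ⟨a, rfl⟩ := QuotientGroup.mk_surjective q
    rw [Quotient.smul_mk, QuotientGroup.eq]
    refine hCH' ?_
    have := ‹C'.Normal›.conj_mem' _ (C'.inv_mem hz) a
    simpa [mul_assoc] using this
  let φ : N ⧸ C' →* Equiv.Perm X :=
    QuotientGroup.lift C' (MulAction.toPermHom N X) fun z hz => Equiv.ext (hker z hz)
  letI : MulAction P X := MulAction.compHom X (φ.comp P.subtype)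
  have hmod := hP.card_modEq_card_fixedPoints X
  have hfp : Nat.card (fixedPoints P X) = Nat.card {q : G ⧸ H // x • q = q} := by
    have hiff : ∀ q : X, q ∈ fixedPoints P X ↔ x' • q = q := by
      intro q
      constructor
      · intro hq
        exact hq ⟨_, Subgroup.mem_zpowers _⟩
      · rintro hq ⟨_, i, rfl⟩
        show φ ((x' : N ⧸ C') ^ i) q = q
        rw [map_zpow]
        have h1 : x' ∈ stabilizer N q := hq
        have := Subgroup.zpow_mem _ h1 i
        show ((MulAction.toPermHom N X x') ^ i) q = q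
        rw [← map_zpow]
        exact this
    let F : X → G ⧸ H := Quotient.map' (fun a : N => (a : G)) fun a b hab => by
      rw [QuotientGroup.leftRel_apply] at hab ⊢
      exact ⟨_, hab, rfl⟩
    have hF : ∀ a : N, F (a : X) = ((a : G) : G ⧸ H) := fun _ => rfl
    refine Nat.card_eq_of_bijective (fun q => ⟨F q.1, ?_⟩) ⟨?_, ?_⟩
    · obtain ⟨q, hq⟩ := q
      obtain ⟨a, rfl⟩ := QuotientGroup.mk_surjective q
      have := (hiff _).1 hq
      rw [Quotient.smul_mk] at this
      exact congrArg F this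
    · rintro ⟨q, hq⟩ ⟨q', hq'⟩ he
      obtain ⟨a, rfl⟩ := QuotientGroup.mk_surjective q
      obtain ⟨b, rfl⟩ := QuotientGroup.mk_surjective q'
      refine Subtype.ext (QuotientGroup.eq.2 ?_)
      have h1 : (a : G)⁻¹ * b ∈ H := QuotientGroup.eq.1 (congrArg Subtype.val he)
      rw [← hHeq]
      exact Subgroup.mem_subgroupOf.2 (by simpa using h1)
    · rintro ⟨q, hq⟩
      obtain ⟨g, rfl⟩ := QuotientGroup.mk_surjective q
      rw [Quotient.smul_mk, QuotientGroup.eq] at hq
      have hg : g⁻¹ * x * g ∈ H := by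
        have := H.inv_mem hq
        simpa [mul_assoc] using this
      refine ⟨⟨((⟨g, hfix g hg⟩ : N) : X), (hiff _).2 ?_⟩, Subtype.ext rfl⟩
      rw [Quotient.smul_mk, QuotientGroup.eq, ← hHeq]
      exact Subgroup.mem_subgroupOf.2 (by simpa using hq)
  rw [← hfp]
  intro hdvd
  refine S.not_dvd_index ?_
  rw [← Subgroup.index_comap_of_surjective _ (QuotientGroup.mk'_surjective C'), ← hH',
    Subgroup.index_eq_card]
  exact (Nat.ModEq.dvd_iff hmod dvd_rfl).2 hdvd

end Cfsg.Agent.Chars2
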