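import Cfsg.Agent.Blocks.RealOdd
import Cfsg.Agent.Blocks.Defect

/-!
A `2`-block of full defect that is stable under inversion of the odd-order classes is principal.
-/

set_option autoImplicit false
set_option linter.unusedSectionVars false
set_option linter.style.haveILetI false

namespace Cfsg.Agent.Chars2

open Cfsg Cfsg.Agent.Blocks
open scoped ComplexConjugate

universe u

variable {G : Type u} [Group G] [Fintype G] {M : Ideal AlgInt} [M.IsMaximal]

/-- An odd-degree character real modulo `M` on the classes of odd order is principal. -/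
theorem mem_principal_of_real_regular (h2M : ((2 : ℕ) : AlgInt) ∈ M) (χ : IrrCharacter G)
    (hodd : ¬ 2 ∣ charDegree (χ : G → ℂ))
    (hreal : ∀ g : G, ¬ 2 ∣ orderOf g → MemLocalIdeal M (centralChar (χ : G → ℂ) g⁻¹ - centralChar (χ : G → ℂ) g)) :
    χ ∈ principalBlock M G := by
  classical
  haveI : Fact (Nat.Prime 2) := ⟨Nat.prime_two⟩
  by_contra hχ
  set e := blockCoeff (principalBlock M G) with he
  have hec : IsClassFunction G e := isClassFunction_blockCoeff _
  have heR : RFun M e := rFun_blockCoeff h2M isPBlock_principal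
  let inv' : ConjClasses G → ConjClasses G := fun C => ConjClasses.mk (clsRep C)⁻¹
  have key : ∀ φ : IrrCharacter G, ¬ 2 ∣ charDegree (φ : G → ℂ) →
      (∀ g : G, ¬ 2 ∣ orderOf g → MemLocalIdeal M (centralChar (φ : G → ℂ) g⁻¹ - centralChar (φ : G → ℂ) g)) →
      MemLocalIdeal M (omega (φ : G → ℂ) e - e 1) := by
    intro φ hφ hφr
    rw [omega_eq_sum_clsFun (Chars.isClassFunction_irr φ) hec,
      ← mk_idealAdd_eq_zero (M := M), QuotientAddGroup.mk_sub, sub_eq_zero,
      QuotientAddGroup.mk_sum]
    have hc1 : clsRep (ConjClasses.mk (1 : G)) = 1 :=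
      isConj_one_left.1 (ConjClasses.mk_eq_mk_iff_isConj.1 (mk_clsRep _))
    rw [← Finset.add_sum_erase _ _ (Finset.mem_univ (ConjClasses.mk (1 : G))), hc1,
      centralChar_one _ (Chars.irr_apply_one_ne_zero φ.2), mul_one, add_eq_left]
    have hcls : ∀ {ψ : G → ℂ}, IsClassFunction G ψ → ∀ C : ConjClasses G,
        centralChar ψ (clsRep (inv' C)) = centralChar ψ (clsRep C)⁻¹ := by
      intro ψ hψ C
      have h : IsConj (clsRep (inv' C)) (clsRep C)⁻¹ :=
        ConjClasses.mk_eq_mk_iff_isConj.1 (mk_clsRep _)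
      rw [← omega_clsFun hψ, ← omega_clsFun hψ]
      congr 1
      funext y
      by_cases hy : IsConj (clsRep C)⁻¹ y
      · rw [clsFun_of_conj hy, clsFun_of_conj (h.trans hy)]
      · rw [clsFun_of_not hy, clsFun_of_not (fun h' => hy (h.symm.trans h'))]
    have hsmall : ∀ g : G, MemLocalRing M (e g) ∧ (2 ∣ orderOf g → e g = 0) ∧
        (2 ∣ (Subgroup.centralizer ({g} : Set G)).index → MemLocalIdeal M (centralChar (φ : G → ℂ) g)) := by
      refine fun g => ⟨heR g, fun h => blockCoeff_eq_zero_of_dvd h2M isPBlock_principal h, fun h => ?_⟩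
      by_contra hI
      have h1 := factorization_index_le h2M φ hI
      rw [Nat.factorization_eq_zero_of_not_dvd hφ, Nat.le_zero] at h1
      have := (Nat.Prime.factorization_pos_of_dvd Nat.prime_two Subgroup.index_ne_zero_of_finite h)
      omega
    refine Finset.sum_involution (fun C _ => inv' C) (fun C _ => ?_) (fun C hC hne h => ?_)
      (fun C hC => ?_) (fun C _ => ?_)
    · rw [← QuotientAddGroup.mk_add, mk_idealAdd_eq_zero, hcls (Chars.isClassFunction_irr φ),
        show e (clsRep (inv' C)) = e (clsRep C) by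
          rw [isClassFunction_eq hec (ConjClasses.mk_eq_mk_iff_isConj.1 (mk_clsRep _)).symm]
          exact blockCoeff_principal_inv _]
      set g := clsRep C
      have : e g * centralChar (φ : G → ℂ) g + e g * centralChar (φ : G → ℂ) g⁻¹ =
          e g * (centralChar (φ : G → ℂ) g⁻¹ - centralChar (φ : G → ℂ) g) +
            ((2 : ℕ) : ℂ) * (e g * centralChar (φ : G → ℂ) g) := by push_cast; ring
      rw [this]
      by_cases ho : 2 ∣ orderOf g
      · rw [show e g = 0 from blockCoeff_eq_zero_of_dvd h2M isPBlock_principal ho]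
        simp only [zero_mul, mul_zero, add_zero]
        exact memI_zero
      exact memI_add (memI_mul_left (heR g) (hφr g ho))
        (memI_mul_right ((memI_natCast_iff h2M 2).2 dvd_rfl)
          (memR_mul (heR g) (centralChar_memR h2M φ g)))
    · apply hne
      rw [mk_idealAdd_eq_zero]
      obtain ⟨hR, hz, hI⟩ := hsmall (clsRep C)
      by_cases ho : 2 ∣ orderOf (clsRep C)
      · rw [hz ho, zero_mul]; exact memI_zero
      by_cases hi : 2 ∣ (Subgroup.centralizer ({clsRep C} : Set G)).index
      · exact memI_mul_left hR (hI hi)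
      exfalso
      have hreal' : IsConj (clsRep C) (clsRep C)⁻¹ :=
        ConjClasses.mk_eq_mk_iff_isConj.1 ((mk_clsRep C).trans h.symm)
      have h1 := eq_one_of_real_odd_class ho hreal' hi
      exact (Finset.mem_erase.1 hC).1 (by rw [← mk_clsRep C, h1])
    · refine Finset.mem_erase.2 ⟨fun h => (Finset.mem_erase.1 hC).1 ?_, Finset.mem_univ _⟩
      have h1 : IsConj (clsRep C)⁻¹ 1 := ConjClasses.mk_eq_mk_iff_isConj.1 h
      rw [← mk_clsRep C, inv_eq_one.1 (isConj_one_left.1 h1)]
    · have h : IsConj (clsRep (inv' C)) (clsRep C)⁻¹ :=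
        ConjClasses.mk_eq_mk_iff_isConj.1 (mk_clsRep _)
      obtain ⟨c, hc⟩ := isConj_iff.1 h
      show ConjClasses.mk (clsRep (inv' C))⁻¹ = C
      conv_rhs => rw [← mk_clsRep C]
      exact ConjClasses.mk_eq_mk_iff_isConj.2
        (isConj_iff.2 ⟨c, by rw [← conj_inv, hc, inv_inv]⟩)
  have h1 := key (oneChar G) (by simp [charDegree, coe_oneChar]) (fun g _ => by
    rw [centralChar_one_inv, sub_self]; exact memI_zero)
  have h2 := key χ hodd hreal
  rw [omega_blockCoeff_mem one_mem_principal] at h1
  rw [omega_blockCoeff_not_mem hχ] at h2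
  exact not_memI_one (by simpa using memI_sub h1 h2)

/-- A block of full defect has a character of odd degree. -/
theorem exists_odd_of_full_defect {B : Set (IrrCharacter G)} (hB : IsPBlock M B)
    (hdef : blockDefect 2 B = (Nat.card G).factorization 2) :
    ∃ χ ∈ B, ¬ 2 ∣ charDegree (χ : G → ℂ) := by
  obtain ⟨χ₀, hχ₀⟩ := block_nonempty hB
  have hne : ((fun χ : IrrCharacter G => (charDegree (χ : G → ℂ)).factorization 2) '' B).Nonempty :=
    ⟨_, ⟨χ₀, hχ₀, rfl⟩⟩
  obtain ⟨χ, hχ, hmin⟩ := Nat.sInf_mem hne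
  refine ⟨χ, hχ, fun h2 => ?_⟩
  obtain ⟨d, hd0, hd, hdvd⟩ := Chars.irr_degree_dvd_card χ.2
  have hdeg : charDegree (χ : G → ℂ) = d := by
    have := (Blocks.charDegree_eq χ.2).1
    rw [hd] at this
    exact_mod_cast this.symm
  rw [hdeg] at h2
  have h1 := Nat.Prime.factorization_pos_of_dvd Nat.prime_two hd0.ne' h2
  have h3 : d.factorization 2 ≤ (Nat.card G).factorization 2 :=
    (Nat.factorization_le_iff_dvd hd0.ne' Nat.card_pos.ne').2 hdvd 2
  rw [blockDefect, ← hmin] at hdef
  simp only [hdeg] at hdef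
  omega

end Cfsg.Agent.Chars2
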