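import Cfsg.Agent.Chars2.InduceTower
import Cfsg.Agent.Chars2.GoingDown

/-!
Relative M-groups: chief factors of non-square order.
-/

set_option autoImplicit false
set_option linter.style.haveILetI false
set_option linter.unusedSectionVars false

namespace Cfsg.Agent.Chars2

open Cfsg Cfsg.Agent
open scoped ComplexConjugate

universe u

/-- No chief factor of a subgroup above `N` has square order. -/
def NoSquareFactor {G : Type u} [Group G] (N : Subgroup G) : Prop :=
  ∀ (H K L : Subgroup G), N ≤ L → L < K → K ≤ H → (∀ h ∈ H, ∀ k ∈ K, h * k * h⁻¹ ∈ K) →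
    (∀ h ∈ H, ∀ l ∈ L, h * l * h⁻¹ ∈ L) →
    (∀ M : Subgroup G, L ≤ M → M ≤ K → (∀ h ∈ H, ∀ m ∈ M, h * m * h⁻¹ ∈ M) → M = L ∨ M = K) →
    ¬ IsSquare (L.relIndex K)

theorem noSquareFactor_subgroup {G : Type u} [Group G] {N : Subgroup G} (h : NoSquareFactor N)
    (T : Subgroup G) (hNT : N ≤ T) : NoSquareFactor (N.subgroupOf T) := by
  intro H K L hNL hLK hKH hK hL hmin
  have hinj := T.subtype_injective
  rw [← Subgroup.relIndex_map_map_of_injective L K hinj]
  refine h (H.map T.subtype) _ _ ?_ ((Subgroup.map_lt_map_iff_of_injective hinj).2 hLK)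
    (Subgroup.map_mono hKH) ?_ ?_ fun M hLM hMK hM => ?_
  · intro n hn
    exact ⟨⟨n, hNT hn⟩, hNL (Subgroup.mem_subgroupOf.2 hn), rfl⟩
  · rintro _ ⟨a, ha, rfl⟩ _ ⟨b, hb, rfl⟩
    exact ⟨a * b * a⁻¹, hK a ha b hb, by simp⟩
  · rintro _ ⟨a, ha, rfl⟩ _ ⟨b, hb, rfl⟩
    exact ⟨a * b * a⁻¹, hL a ha b hb, by simp⟩
  have hMT : (M.subgroupOf T).map T.subtype = M := by
    rw [Subgroup.subgroupOf_map_subtype, inf_eq_left]
    exact hMK.trans (Subgroup.map_subtype_le K)
  rcases hmin (M.subgroupOf T) (fun l hl => Subgroup.mem_subgroupOf.2 (hLM ⟨l, hl, rfl⟩))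
      (fun x hx => by
        obtain ⟨y, hy, hyx⟩ := hMK (Subgroup.mem_subgroupOf.1 hx)
        rwa [← show y = x from Subtype.ext hyx])
      (fun a ha b hb => Subgroup.mem_subgroupOf.2 (by
        simpa using hM _ ⟨a, ha, rfl⟩ _ (Subgroup.mem_subgroupOf.1 hb))) with e | e
  · exact Or.inl (by rw [← hMT, e])
  · exact Or.inr (by rw [← hMT, e])

theorem relative_m_aux (m : ℕ) :
    ∀ (G : Type u) [Group G] [Fintype G], Nat.card G ≤ m → ∀ (N : Subgroup G) [N.Normal],
      Group.IsSolvable (G ⧸ N) → NoSquareFactor N → ∀ χ : G → ℂ, IsIrrCharacter G χ →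
        ∃ (H : Subgroup G) (hNH : N ≤ H) (ψ : H → ℂ), IsIrrCharacter H ψ ∧ indFun H ψ = χ ∧
          IsIrrCharacter N (fun n : N => ψ ⟨(n : G), hNH n.2⟩) := by
  induction m with
  | zero => intro G _ _ hc; exact absurd hc (by have := Nat.card_pos (α := G); omega)
  | succ m ih =>
  intro G _ _ hcard N _ hsolv hns χ hχ
  classical
  have hχc := Chars.isCharacter_of_isIrr hχ
  let S : Set (Subgroup G) := {K | K.Normal ∧ N ≤ K ∧ IsIrrCharacter K (fun k : K => χ k)}
  have htop : (⊤ : Subgroup G) ∈ S :=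
    ⟨inferInstance, le_top, Chars.isIrrCharacter_comp_equiv hχ Subgroup.topEquiv⟩
  obtain ⟨K, hKm⟩ := (Set.toFinite S).exists_minimal ⟨⊤, htop⟩
  obtain ⟨hKn, hNK, hKi⟩ := hKm.prop
  rcases eq_or_ne N K with rfl | hne
  · refine ⟨⊤, le_top, fun x => χ x, Chars.isIrrCharacter_comp_equiv hχ Subgroup.topEquiv, ?_, hKi⟩
    funext g
    exact Chars.indFun_top_apply (Chars.isClassFunction_of_isCharacter
      (Chars.isCharacter_of_isIrr (Chars.isIrrCharacter_comp_equiv hχ Subgroup.topEquiv))) g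
  let S' : Set (Subgroup G) := {L | L.Normal ∧ N ≤ L ∧ L < K}
  obtain ⟨L, hLm⟩ := (Set.toFinite S').exists_maximal ⟨N, inferInstance, le_rfl, lt_of_le_of_ne hNK hne⟩
  obtain ⟨hLn, hNL, hLK⟩ := hLm.prop
  have hchief : ∀ M : Subgroup G, M.Normal → L ≤ M → M ≤ K → M = L ∨ M = K := by
    intro M hMn hLM hMK
    rcases hMK.eq_or_lt with e | hlt
    · exact Or.inr e
    · exact Or.inl (le_antisymm (hLm.2 ⟨hMn, hNL.trans hLM, hlt⟩ hLM) hLM)
  have hab : ⁅K, K⁆ ≤ L := by
    rcases hchief (⁅K, K⁆ ⊔ L) inferInstance le_sup_right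
      (sup_le (Subgroup.commutator_le_left K K) hLK.le) with e | e
    · exact le_sup_left.trans_eq e
    · exfalso
      haveI := hsolv
      haveI : Group.IsSolvable (G ⧸ L) := Group.isSolvable_of_surjective
        (f := QuotientGroup.map N L (MonoidHom.id G) hNL)
        (QuotientGroup.map_surjective_of_surjective N L (MonoidHom.id G) (QuotientGroup.mk'_surjective L) hNL)
      have hne' : K.map (QuotientGroup.mk' L) ≠ ⊥ := by
        rw [Ne, Subgroup.map_eq_bot_iff, QuotientGroup.ker_mk']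
        exact fun h => hLK.ne (le_antisymm hLK.le h)
      refine (Group.IsSolvable.commutator_lt_of_ne_bot hne').ne ?_
      rw [← Subgroup.map_commutator]
      conv_rhs => rw [← e, Subgroup.map_sup, QuotientGroup.map_mk'_self, sup_bot_eq]
  set ϑ : K → ℂ := fun k => χ k
  have hinv : ∀ (g : G) (n : K), ϑ ⟨g * n * g⁻¹, hKn.conj_mem (n : G) n.2 g⟩ = ϑ n :=
    fun g n => Chars.isClassFunction_of_isCharacter hχc (n : G) g
  have hind1 : 1 < L.relIndex K := by
    have h0 : L.relIndex K ≠ 0 := Subgroup.index_ne_zero_of_finite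
    have h1 : L.relIndex K ≠ 1 := fun h => hLK.not_ge (Subgroup.relIndex_eq_one.1 h)
    omega
  rcases going_down K L hLK.le hchief hab ϑ hKi hinv with h | ⟨φ, e, -, -, he⟩ | ⟨F, hFi, hFc, hF⟩
  · exact absurd (hKm.2 ⟨hLn, hNL, h⟩ hLK.le) hLK.not_ge
  · refine absurd ?_ (hns ⊤ K L hNL hLK le_top (fun g _ k hk => hKn.conj_mem k hk g)
      (fun g _ l hl => hLn.conj_mem l hl g) fun M h1 h2 h3 =>
        hchief M ⟨fun x hx g => h3 g (Subgroup.mem_top g) x hx⟩ h1 h2)
    exact ⟨e, by rw [← he, sq]⟩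
  · haveI : Fintype L := Fintype.ofFinite _
    obtain ⟨φ, hφ, φ', hφ', hne⟩ := Finset.one_lt_card.1 (hFc ▸ hind1)
    have hresL : (fun x : L => χ x) = ∑ φ ∈ F, φ := by rw [← hF]
    have hinner : ∀ ψ ∈ F, classInner (fun x : L => χ x) ψ = 1 := by
      intro ψ hψ
      rw [hresL, Chars.classInner_sum_left, Finset.sum_eq_single ψ]
      · exact Chars.classInner_self_irr (hFi ψ hψ)
      · intro a ha hne; rw [Chars.classInner_irr (hFi a ha) (hFi ψ hψ), if_neg hne]
      · exact fun h => absurd hψ h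
    have hcon : classInner (fun x : L => χ x) φ ≠ 0 := by rw [hinner φ hφ]; exact one_ne_zero
    set T := inertiaSub φ with hT
    have hTne : T ≠ ⊤ := by
      intro htop'
      have hres := clifford_invariant hχ (hFi φ hφ) htop' hcon
      have h1 := hinner φ' hφ'
      rw [show (fun x : L => χ x) = (1 : ℂ) • φ from funext fun x => by
        rw [hres x, hinner φ hφ]; rfl, Chars.classInner_smul_left,
        Chars.classInner_irr (hFi φ hφ) (hFi φ' hφ'), if_neg hne, mul_zero] at h1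
      exact one_ne_zero h1.symm
    haveI : Fintype T := Fintype.ofFinite _
    have hLT : L ≤ T := le_inertiaSub (Chars.isClassFunction_of_isCharacter
      (Chars.isCharacter_of_isIrr (hFi φ hφ)))
    obtain ⟨η, hη, hind, -⟩ := exists_correspondent hLT (hFi φ hφ) rfl hχ hcon
    have hNT : N ≤ T := hNL.trans hLT
    have hlt : Nat.card T < Nat.card G :=
      lt_of_le_of_ne (Subgroup.card_le_card_group T) fun h => hTne (Subgroup.eq_top_of_card_eq T h)
    have hsolvT : Group.IsSolvable (T ⧸ N.subgroupOf T) := by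
      haveI := hsolv
      let f : T →* G ⧸ N := (QuotientGroup.mk' N).comp T.subtype
      have hker : N.subgroupOf T = f.ker := by
        ext x; simp [f, Subgroup.mem_subgroupOf]
      exact Group.isSolvable_of_isSolvable_injective
        (f := (QuotientGroup.kerLift f).comp (QuotientGroup.quotientMulEquivOfEq hker).toMonoidHom)
        ((QuotientGroup.kerLift_injective f).comp (MulEquiv.injective _))
    obtain ⟨H, hNH, ψ, hψ, hindψ, hψres⟩ := ih T (by omega) (N.subgroupOf T) hsolvT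
      (noSquareFactor_subgroup hns T hNT) η hη
    have hNH' : N ≤ H.map T.subtype := fun n hn =>
      ⟨⟨n, hNT hn⟩, hNH (Subgroup.mem_subgroupOf.2 hn), rfl⟩
    refine ⟨H.map T.subtype, hNH', pushFun T H ψ,
      Chars.isIrrCharacter_comp_equiv hψ _, by rw [indFun_pushFun, hindψ, hind], ?_⟩
    have h := Chars.isIrrCharacter_comp_equiv hψres (Subgroup.subgroupOfEquivOfLe hNT).symm
    convert h using 1
    funext n
    refine congrArg ψ ?_
    rw [MulEquiv.symm_apply_eq]
    exact Subtype.ext rfl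

theorem relative_m {G : Type u} [Group G] [Fintype G] (N : Subgroup G) [N.Normal]
    (hsolv : Group.IsSolvable (G ⧸ N)) (hns : NoSquareFactor N) {χ : G → ℂ}
    (hχ : IsIrrCharacter G χ) :
    ∃ (H : Subgroup G) (hNH : N ≤ H) (ψ : H → ℂ), IsIrrCharacter H ψ ∧ indFun H ψ = χ ∧
      IsIrrCharacter N (fun n : N => ψ ⟨(n : G), hNH n.2⟩) :=
  relative_m_aux (Nat.card G) G le_rfl N hsolv hns χ hχ

end Cfsg.Agent.Chars2
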