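import Cfsg.Agent.Chars2.CycLocal
import Cfsg.Agent.Chars.SplittingField
import Cfsg.Agent.Blocks.Lattice

/-!
A lattice of an irreducible character which is stable, as a semilinear module, under an
automorphism fixing the character.
-/

set_option autoImplicit false
set_option linter.unusedSectionVars false

namespace Cfsg.Agent.Chars2.Cyc

open Cfsg Cfsg.Agent Cfsg.Agent.Blocks Matrix

universe u

variable {G : Type u} [Group G]

/-- The representation on the coordinate space attached to matrices. -/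
noncomputable def toRep {n : ℕ} (ρ : G →* Matrix (Fin n) (Fin n) ℂ) :
    Representation ℂ G (Fin n → ℂ) :=
  (Matrix.toLinAlgEquiv' : Matrix (Fin n) (Fin n) ℂ ≃ₐ[ℂ] _).toMonoidHom.comp ρ

theorem toRep_character {n : ℕ} (ρ : G →* Matrix (Fin n) (Fin n) ℂ) :
    (toRep ρ).character = fun g => (ρ g).trace :=
  funext fun g => by
    show LinearMap.trace ℂ (Fin n → ℂ) (Matrix.toLinAlgEquiv' (ρ g)) = _
    exact Matrix.trace_toLin'_eq (ρ g)

/-- A nonzero intertwiner of irreducible matrix representations is invertible. -/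
theorem isUnit_det_of_intertwine [Finite G] {n : ℕ} (ρ ρ' : G →* Matrix (Fin n) (Fin n) ℂ)
    (h : IsIrrCharacter G fun g => (ρ g).trace) (h' : IsIrrCharacter G fun g => (ρ' g).trace)
    {T : Matrix (Fin n) (Fin n) ℂ} (hT : ∀ g, T * ρ' g = ρ g * T) (h0 : T ≠ 0) :
    IsUnit T.det := by
  haveI : (toRep ρ).IsIrreducible :=
    Chars.isIrreducible_of_character (toRep ρ) (toRep_character ρ ▸ h)
  haveI : (toRep ρ').IsIrreducible :=
    Chars.isIrreducible_of_character (toRep ρ') (toRep_character ρ' ▸ h')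
  let f : (toRep ρ').IntertwiningMap (toRep ρ) :=
    ⟨Matrix.toLinAlgEquiv' T, fun g => by
      show Matrix.toLinAlgEquiv' T * Matrix.toLinAlgEquiv' (ρ' g) =
        Matrix.toLinAlgEquiv' (ρ g) * Matrix.toLinAlgEquiv' T
      rw [← map_mul, ← map_mul, hT]⟩
  rcases Representation.IsIrreducible.bijective_or_eq_zero f with hb | hz
  · rw [← Matrix.isUnit_iff_isUnit_det]
    exact Matrix.mulVec_injective_iff_isUnit.1 hb.1
  · refine absurd ?_ h0
    apply (Matrix.toLinAlgEquiv' : Matrix (Fin n) (Fin n) ℂ ≃ₐ[ℂ] _).injective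
    rw [map_zero]
    exact congrArg (fun x : (toRep ρ').IntertwiningMap (toRep ρ) => x.toLinearMap) hz

/-- A product of integral units is an integral unit. -/
def IsUnitR (M : Ideal AlgInt) (x : ℂ) : Prop := MemLocalRing M x ∧ ¬ MemLocalIdeal M x

section unit

variable {M : Ideal AlgInt} [M.IsMaximal]

theorem IsUnitR.one : IsUnitR M 1 := ⟨memR_one, not_memI_one⟩

theorem IsUnitR.mul {x y : ℂ} (hx : IsUnitR M x) (hy : IsUnitR M y) : IsUnitR M (x * y) :=
  ⟨memR_mul hx.1 hy.1, not_memI_mul hx.1 hy.1 hx.2 hy.2⟩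

theorem IsUnitR.inv {x : ℂ} (hx : IsUnitR M x) : IsUnitR M x⁻¹ := inv_of_not_memI hx.1 hx.2

theorem IsUnitR.pow {x : ℂ} (hx : IsUnitR M x) (n : ℕ) : IsUnitR M (x ^ n) := by
  induction n with
  | zero => rw [pow_zero]; exact IsUnitR.one
  | succ n ih => rw [pow_succ]; exact ih.mul hx

theorem IsUnitR.zpow {x : ℂ} (hx : IsUnitR M x) (n : ℤ) : IsUnitR M (x ^ n) := by
  rcases n with n | n
  · rw [Int.ofNat_eq_natCast, zpow_natCast]; exact hx.pow n
  · rw [zpow_negSucc]; exact (hx.pow _).inv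

theorem IsUnitR.prod {ι : Type*} (s : Finset ι) (f : ι → ℂ) (h : ∀ i ∈ s, IsUnitR M (f i)) :
    IsUnitR M (∏ i ∈ s, f i) :=
  Finset.prod_induction f _ (fun _ _ => IsUnitR.mul) IsUnitR.one h

end unit

section semilinear

variable {n : ℕ} (σ : ℂ ≃+* ℂ)

/-- An automorphism applied to the entries. -/
noncomputable def mapE : Matrix (Fin n) (Fin n) ℂ →+* Matrix (Fin n) (Fin n) ℂ :=
  (σ : ℂ →+* ℂ).mapMatrix

theorem mapE_apply (A : Matrix (Fin n) (Fin n) ℂ) (i j : Fin n) : mapE σ A i j = σ (A i j) := rfl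

theorem mapE_smul (c : ℂ) (A : Matrix (Fin n) (Fin n) ℂ) :
    mapE σ (c • A) = σ c • mapE σ A := by
  ext i j; simp [mapE_apply]

theorem mapE_iterate_smul (q : ℕ) (c : ℂ) (A : Matrix (Fin n) (Fin n) ℂ) :
    (mapE σ)^[q] (c • A) = (⇑σ)^[q] c • (mapE σ)^[q] A := by
  induction q generalizing c A with
  | zero => rfl
  | succ q ih => rw [Function.iterate_succ_apply, mapE_smul, ih, ← Function.iterate_succ_apply,
      ← Function.iterate_succ_apply]

/-- The twisted powers of a semilinear map. -/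
noncomputable def twPow (T : Matrix (Fin n) (Fin n) ℂ) : ℕ → Matrix (Fin n) (Fin n) ℂ
  | 0 => 1
  | q + 1 => T * mapE σ (twPow T q)

theorem twPow_succ' (T : Matrix (Fin n) (Fin n) ℂ) (q : ℕ) :
    twPow σ T (q + 1) = twPow σ T q * (mapE σ)^[q] T := by
  induction q with
  | zero => simp [twPow]
  | succ q ih =>
    conv_lhs => rw [twPow, ih, map_mul, ← mul_assoc]
    rw [Function.iterate_succ_apply']
    rfl

theorem twPow_intertwine {T : Matrix (Fin n) (Fin n) ℂ}
    (ρ : G →* Matrix (Fin n) (Fin n) ℂ) (hT : ∀ g, T * mapE σ (ρ g) = ρ g * T) :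
    ∀ q g, twPow σ T q * (mapE σ)^[q] (ρ g) = ρ g * twPow σ T q := by
  intro q
  induction q with
  | zero => intro g; simp [twPow]
  | succ q ih =>
    intro g
    rw [twPow, Function.iterate_succ_apply', mul_assoc, ← map_mul, ih, map_mul, ← mul_assoc, hT,
      mul_assoc]

theorem twPow_smul (a : ℂ) (T : Matrix (Fin n) (Fin n) ℂ) :
    ∀ q, twPow σ (a • T) q = (∏ i ∈ Finset.range q, (⇑σ)^[i] a) • twPow σ T q := by
  intro q
  induction q with
  | zero => simp [twPow]
  | succ q ih =>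
    rw [twPow, ih, mapE_smul, smul_mul_assoc, mul_smul_comm, smul_smul, map_prod,
      Finset.prod_range_succ', mul_comm a]
    simp only [Function.iterate_succ_apply', Function.iterate_zero_apply]
    rfl

theorem twPow_conj {T B : Matrix (Fin n) (Fin n) ℂ} (hB : IsUnit B.det) :
    ∀ q, twPow σ (B⁻¹ * T * mapE σ B) q = B⁻¹ * twPow σ T q * (mapE σ)^[q] B := by
  intro q
  induction q with
  | zero => simp [twPow, Matrix.nonsing_inv_mul _ hB]
  | succ q ih =>
    rw [twPow, ih, map_mul, map_mul, Function.iterate_succ_apply', twPow]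
    have h1 : mapE σ B * mapE σ B⁻¹ = 1 := by
      rw [← map_mul, Matrix.mul_nonsing_inv _ hB, map_one]
    calc B⁻¹ * T * mapE σ B * (mapE σ B⁻¹ * mapE σ (twPow σ T q) * mapE σ ((mapE σ)^[q] B))
        = B⁻¹ * T * (mapE σ B * mapE σ B⁻¹) * mapE σ (twPow σ T q) * mapE σ ((mapE σ)^[q] B) := by
          simp only [mul_assoc]
      _ = _ := by rw [h1, mul_one, mul_assoc B⁻¹ T]

theorem iterate_congr {σ : ℂ ≃+* ℂ} {q : ℕ} (a : Matrix (Fin n) (Fin n) ℂ)
    (h : ∀ i j, (⇑σ)^[q] (a i j) = a i j) : (mapE σ)^[q] a = a := by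
  ext i j
  have : ∀ (q : ℕ) (a : Matrix (Fin n) (Fin n) ℂ), (mapE σ)^[q] a i j = (⇑σ)^[q] (a i j) := by
    intro q
    induction q with
    | zero => intro a; rfl
    | succ q ih => intro a; rw [Function.iterate_succ_apply, ih, mapE_apply,
        ← Function.iterate_succ_apply]
  rw [this, h]

end semilinear

theorem det_mem {n : ℕ} (K : Subfield ℂ) {A : Matrix (Fin n) (Fin n) ℂ}
    (h : ∀ i j, A i j ∈ K) : A.det ∈ K := by
  have : A = (Matrix.of fun i j => (⟨A i j, h i j⟩ : K)).map K.subtype := rfl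
  rw [this, ← RingHom.mapMatrix_apply, ← RingHom.map_det]
  exact SetLike.coe_mem _

theorem inv_mem_of_mem {n : ℕ} (K : Subfield ℂ) {A : Matrix (Fin n) (Fin n) ℂ}
    (h : ∀ i j, A i j ∈ K) (i j : Fin n) : A⁻¹ i j ∈ K := by
  rw [Matrix.inv_def, Matrix.smul_apply, smul_eq_mul, Ring.inverse_eq_inv', Matrix.adjugate_apply]
  refine mul_mem (inv_mem (det_mem K h)) (det_mem K fun a b => ?_)
  rw [Matrix.updateRow_apply]
  split_ifs
  · rw [Pi.single_apply]; split_ifs <;> first | exact one_mem K | exact zero_mem K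
  · exact h a b

theorem mul_mem_entries {n : ℕ} (K : Subfield ℂ) {A B : Matrix (Fin n) (Fin n) ℂ}
    (hA : ∀ i j, A i j ∈ K) (hB : ∀ i j, B i j ∈ K) (i j : Fin n) : (A * B) i j ∈ K := by
  rw [Matrix.mul_apply]
  exact sum_mem fun k _ => mul_mem (hA i k) (hB k j)

variable {p m : ℕ} [hp : Fact p.Prime] {M : Ideal AlgInt} [M.IsMaximal]

theorem isAlgebraic_of_mem_cL (hm : m ≠ 0) {z : ℂ} (hz : z ∈ cL p m) : IsAlgebraic ℤ z := by
  obtain ⟨y, hy, w, hw, rfl⟩ := Subfield.mem_closure_iff.1 hz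
  exact Blocks.isAlgebraic_int_div (isIntegral_of_mem_cS hm hy).isAlgebraic
    (isIntegral_of_mem_cS hm hw).isAlgebraic

/-- The `i`-th iterate of an automorphism as an automorphism. -/
noncomputable def powAut (σ : ℂ ≃+* ℂ) : ℕ → (ℂ ≃+* ℂ)
  | 0 => RingEquiv.refl ℂ
  | i + 1 => (powAut σ i).trans σ

theorem powAut_apply (σ : ℂ ≃+* ℂ) (i : ℕ) (z : ℂ) : powAut σ i z = (⇑σ)^[i] z := by
  induction i with
  | zero => rfl
  | succ i ih => rw [Function.iterate_succ_apply', ← ih]; rfl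

theorem powAut_fix {σ : ℂ ≃+* ℂ} (hσ : ∀ z : ℂ, z ^ m = 1 → σ z = z) (i : ℕ) :
    ∀ z : ℂ, z ^ m = 1 → powAut σ i z = z := by
  induction i with
  | zero => intro z _; rfl
  | succ i ih => intro z hz; show σ (powAut σ i z) = z; rw [ih z hz, hσ z hz]

theorem powAut_zetaP {σ : ℂ ≃+* ℂ} {k : ℕ} (hk : σ (zetaP p) = zetaP p ^ k) (i : ℕ) :
    powAut σ i (zetaP p) = zetaP p ^ (k ^ i) := by
  induction i with
  | zero => simp [powAut]
  | succ i ih =>
    show σ (powAut σ i (zetaP p)) = _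
    rw [ih, map_pow, hk, ← pow_mul, ← pow_succ']

/-- Iterates of order of the residue action fix the field. -/
theorem iterate_orderOf_fix {σ : ℂ ≃+* ℂ} (hσ : ∀ z : ℂ, z ^ m = 1 → σ z = z) {k : ℕ}
    (hk : σ (zetaP p) = zetaP p ^ k) {h : ℕ} (hh : ((k : ℕ) : ZMod p) ^ h = 1) {z : ℂ}
    (hz : z ∈ cL p m) : (⇑σ)^[h] z = z := by
  rw [← powAut_apply]
  refine aut_eq_on_cL (τ := RingEquiv.refl ℂ) (fun z hz => powAut_fix hσ h z hz) ?_ hz
  rw [powAut_zetaP hk, RingEquiv.refl_apply]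
  have h1 : k ^ h ≡ 1 [MOD p] := by
    rw [← ZMod.natCast_eq_natCast_iff]; push_cast; exact hh
  calc zetaP p ^ k ^ h = zetaP p ^ (k ^ h % p) := by
        conv_lhs => rw [← Nat.mod_add_div (k ^ h) p, pow_add, pow_mul,
          isPrimitiveRoot_zetaP.pow_eq_one, one_pow, mul_one]
    _ = zetaP p := by rw [h1, Nat.one_mod_eq_one.2 hp.out.ne_one, pow_one]

variable [Finite G]

/-- An irreducible character has a matrix representation over the cyclotomic field. -/
theorem exists_rep_cL (hcop : p.Coprime m) (hexp : Nat.card G ∣ p * m) {χ : G → ℂ}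
    (hχ : IsIrrCharacter G χ) : ∃ (n : ℕ) (ρ : G →* Matrix (Fin n) (Fin n) ℂ),
      0 < n ∧ χ 1 = n ∧ (∀ g, (ρ g).trace = χ g) ∧ ∀ g i j, ρ g i j ∈ cL p m := by
  haveI := Fintype.ofFinite G
  obtain ⟨n, R, hR⟩ := Chars.isRealK_of_isCharacter (K := cL p m) (fun z hz =>
    cS_le_cL (root_mem_cS hcop (Group.exponent_dvd_nat_card.trans hexp) hz))
    (Chars.isCharacter_of_isIrr hχ)
  obtain ⟨S, hS, hSK⟩ := Chars.exists_baseChange R
  let ρ : G →* Matrix (Fin n) (Fin n) ℂ :=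
    (LinearMap.toMatrixAlgEquiv' (R := ℂ) (n := Fin n)).toMonoidHom.comp S
  have htr : ∀ g, (ρ g).trace = χ g := fun g => by
    rw [← hR g, ← hS g]
    show (LinearMap.toMatrix' (S g)).trace = LinearMap.trace ℂ _ (S g)
    rw [LinearMap.trace_eq_matrix_trace ℂ (Pi.basisFun ℂ (Fin n)), LinearMap.toMatrix_eq_toMatrix']
  have hn : χ 1 = n := by rw [← htr 1, map_one, Matrix.trace_one, Fintype.card_fin]
  obtain ⟨d, hd, hd'⟩ := Chars.exists_irr_apply_one_eq hχ
  refine ⟨n, ρ, ?_, hn, htr, fun g i j => hSK g i j⟩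
  rw [hn] at hd'
  have : n = d := by exact_mod_cast hd'
  omega

/-- A semilinear intertwiner with entries in the field. -/
theorem exists_twist {n : ℕ} (σ : ℂ ≃+* ℂ) (ρ : G →* Matrix (Fin n) (Fin n) ℂ)
    (hirr : IsIrrCharacter G fun g => (ρ g).trace) (hρ : ∀ g i j, ρ g i j ∈ cL p m)
    (hfix : ∀ g, σ (ρ g).trace = (ρ g).trace) :
    ∃ T : Matrix (Fin n) (Fin n) ℂ, (∀ i j, T i j ∈ cL p m) ∧ IsUnit T.det ∧
      ∀ g, T * mapE σ (ρ g) = ρ g * T := by
  classical
  haveI := Fintype.ofFinite G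
  let ρ' : G →* Matrix (Fin n) (Fin n) ℂ := (mapE σ).toMonoidHom.comp ρ
  let T : Fin n → Fin n → Matrix (Fin n) (Fin n) ℂ := fun b c =>
    ∑ g, ρ g * Matrix.single b c 1 * ρ' g⁻¹
  have hT : ∀ b c h, T b c * ρ' h = ρ h * T b c := fun b c h => by
    simp only [T, Finset.sum_mul, Finset.mul_sum]
    refine Fintype.sum_equiv (Equiv.mulLeft h⁻¹) _ _ fun g => ?_
    simp only [Equiv.coe_mulLeft, mul_assoc, _root_.mul_inv_rev, inv_inv, ← map_mul]
    rw [← mul_assoc (ρ h), ← map_mul, mul_inv_cancel_left]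
  obtain ⟨b, c, hne⟩ : ∃ b c, T b c ≠ 0 := by
    by_contra hc
    push Not at hc
    have h1 : ∑ g, (ρ g).trace * (ρ' g⁻¹).trace = 0 := by
      simp only [Matrix.trace, Matrix.diag_apply, Finset.sum_mul, Finset.mul_sum]
      rw [Finset.sum_comm]
      refine Finset.sum_eq_zero fun a _ => ?_
      rw [Finset.sum_comm]
      refine Finset.sum_eq_zero fun b _ => ?_
      have := congrFun (congrFun (hc b a) b) a
      simp only [T, Matrix.sum_apply, Matrix.zero_apply] at this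
      refine Eq.trans (Finset.sum_congr rfl fun g _ => ?_) this
      rw [Matrix.mul_apply, Finset.sum_eq_single a]
      · rw [Matrix.mul_apply, Finset.sum_eq_single b]
        · rw [Matrix.single_apply_same, mul_one]
        · intro x _ hx; rw [Matrix.single_apply_of_row_ne hx.symm, mul_zero]
        · simp
      · intro x _ hx
        rw [Matrix.mul_apply, Finset.sum_eq_zero, zero_mul]
        intro y _
        by_cases hy : y = b
        · rw [hy, Matrix.single_apply_of_col_ne _ _ hx.symm, mul_zero]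
        · rw [Matrix.single_apply_of_row_ne (Ne.symm hy), mul_zero]
      · simp
    have h2 := Chars.classInner_self_irr hirr
    rw [Chars.classInner_def] at h2
    rw [Finset.sum_congr rfl (g := fun g => (ρ g).trace * (ρ' g⁻¹).trace)] at h2
    · rw [h1, mul_zero] at h2
      exact zero_ne_one h2
    · intro g _
      rw [show (ρ' g⁻¹).trace = (ρ g⁻¹).trace by
        rw [← hfix g⁻¹]; simp [ρ', mapE, Matrix.trace, map_sum]]
      rw [← Chars.char_inv_eq_conj (Chars.isCharacter_of_isIrr hirr)]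
  refine ⟨T b c, fun i j => ?_, ?_, hT b c⟩
  · simp only [T, Matrix.sum_apply]
    refine sum_mem fun g _ => mul_mem_entries _ (mul_mem_entries _ (hρ g) fun x y => ?_)
      (fun x y => aut_mem_cL (hρ g⁻¹ x y)) i j
    rw [Matrix.single_apply]
    split_ifs <;> first | exact one_mem _ | exact zero_mem _
  · refine isUnit_det_of_intertwine ρ ρ' hirr ?_ (hT b c) hne
    rw [show (fun g => (ρ' g).trace) = fun g => (ρ g).trace from funext fun g => by
      rw [← hfix g]; simp [ρ', mapE, Matrix.trace, map_sum]]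
    exact hirr

/-- A lattice stable under an automorphism fixing the character: a representation over the local
ring of the cyclotomic field, with an integral semilinear intertwiner whose twisted power is a
unit scalar. -/
theorem exists_stable_rep (hm : ¬ p ∣ m) (hpM : (p : AlgInt) ∈ M) (hexp : Nat.card G ∣ p * m)
    {χ : G → ℂ} (hχ : IsIrrCharacter G χ) {σ : ℂ ≃+* ℂ} (hσ : ∀ z : ℂ, z ^ m = 1 → σ z = z)
    {k h : ℕ} (hk : σ (zetaP p) = zetaP p ^ k) (hh : orderOf ((k : ℕ) : ZMod p) = h)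
    (hh0 : 0 < h) (hfix : ∀ g, σ (χ g) = χ g) :
    ∃ (n : ℕ) (ρ : G →* Matrix (Fin n) (Fin n) ℂ) (T : Matrix (Fin n) (Fin n) ℂ) (c : ℂ),
      0 < n ∧ χ 1 = n ∧ (∀ g, (ρ g).trace = χ g) ∧
      (∀ g i j, ρ g i j ∈ cL p m ∧ MemLocalRing M (ρ g i j)) ∧
      (∀ i j, T i j ∈ cL p m ∧ MemLocalRing M (T i j)) ∧
      (∀ g, T * mapE σ (ρ g) = ρ g * T) ∧ IsUnitR M c ∧ c ∈ cL p m ∧ twPow σ T h = c • 1 := by
  classical
  haveI := Fintype.ofFinite G
  have hm0 : m ≠ 0 := fun e => hm (e ▸ dvd_zero p)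
  have hcop : p.Coprime m := hp.out.coprime_iff_not_dvd.2 hm
  obtain ⟨n, ρ, hn0, hn, htr, hρL⟩ := exists_rep_cL hcop hexp hχ
  have hirr : IsIrrCharacter G fun g => (ρ g).trace := by rwa [funext htr]
  obtain ⟨T, hTL, hTu, hT⟩ := exists_twist σ ρ hirr hρL (fun g => by rw [htr, hfix])
  have hfixL : ∀ z ∈ cL p m, (⇑σ)^[h] z = z := fun z hz =>
    iterate_orderOf_fix hσ hk (hh ▸ pow_orderOf_eq_one _) hz
  have hfixM : ∀ a : Matrix (Fin n) (Fin n) ℂ, (∀ i j, a i j ∈ cL p m) →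
      (mapE σ)^[h] a = a := fun a ha => iterate_congr a fun i j => hfixL _ (ha i j)
  obtain ⟨c, hc⟩ := matrix_scalar_of_commute ρ hirr (twPow σ T h) fun g => by
    have := twPow_intertwine σ ρ hT h g
    rwa [hfixM _ (hρL g)] at this
  have hPL : ∀ q i j, twPow σ T q i j ∈ cL p m := by
    intro q
    induction q with
    | zero =>
      intro i j; simp only [twPow, Matrix.one_apply]
      split_ifs <;> first | exact one_mem _ | exact zero_mem _
    | succ q ih =>
      exact fun i j => mul_mem_entries _ hTL (fun a b => aut_mem_cL (ih a b)) i j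
  let i0 : Fin n := ⟨0, hn0⟩
  haveI : Nonempty (Fin n) := ⟨i0⟩
  have hcL : c ∈ cL p m := by
    have := hPL h i0 i0
    rwa [hc, Matrix.smul_apply, Matrix.one_apply_eq, smul_eq_mul, mul_one] at this
  have hσc : σ c = c := by
    have h1 := twPow_succ' σ T h
    rw [twPow, hc, mapE_smul, map_one, mul_smul_comm, mul_one, hfixM _ hTL, smul_mul_assoc,
      one_mul] at h1
    obtain ⟨a, b, hab⟩ : ∃ a b, T a b ≠ 0 := by
      by_contra hz
      push Not at hz
      rw [show T = 0 from Matrix.ext hz, Matrix.det_zero] at hTu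
      exact not_isUnit_zero hTu
    have h2 := congrFun (congrFun h1 a) b
    simp only [Matrix.smul_apply, smul_eq_mul] at h2
    exact mul_right_cancel₀ hab h2
  have hc0 : c ≠ 0 := by
    intro e
    have hdet : ∀ q, IsUnit (twPow σ T q).det := by
      intro q
      induction q with
      | zero => simp [twPow]
      | succ q ih =>
        rw [twPow, Matrix.det_mul]
        refine hTu.mul ?_
        rw [show (mapE σ (twPow σ T q)).det = σ (twPow σ T q).det from
          ((σ : ℂ →+* ℂ).map_det _).symm]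
        exact ih.map σ
    have := hdet h
    rw [hc, e, zero_smul, Matrix.det_zero] at this
    exact not_isUnit_zero this
  obtain ⟨s, b0, hb0, c0, hc0', hb0I, hc0I, hs⟩ := exists_zpow_unit hm hpM hcL hc0
  obtain ⟨e', he'⟩ : (h : ℤ) ∣ s := by
    rw [← hh]
    exact orderOf_dvd_of_fixed hσ hm hpM hk hb0 hc0' hb0I hc0I (by rw [← hs]; exact hσc)
  set a : ℂ := pi1 p ^ (-e') with ha
  have haL : a ∈ cL p m := zpow_mem (cS_le_cL pi1_mem) _
  set T₁ := a • T with hT₁
  have hT₁L : ∀ i j, T₁ i j ∈ cL p m := fun i j => mul_mem haL (hTL i j)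
  have hT₁i : ∀ g, T₁ * mapE σ (ρ g) = ρ g * T₁ := fun g => by
    rw [hT₁, smul_mul_assoc, hT, mul_smul_comm]
  set c₁ := (∏ i ∈ Finset.range h, (⇑σ)^[i] a) * c with hc₁
  have hP₁ : twPow σ T₁ h = c₁ • 1 := by rw [hT₁, twPow_smul, hc, smul_smul]
  have huπ : ∀ i : ℕ, IsUnitR M (pi1 p / (⇑σ)^[i] (pi1 p)) := by
    intro i
    obtain ⟨u, hu, hu', huk⟩ := aut_pi1 (m := m) hpM (powAut_zetaP hk i)
    rw [← powAut_apply, hu', div_mul_eq_div_div, div_self pi1_ne_zero, one_div]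
    refine (show IsUnitR M u from ⟨memR_of_mem_cS hm0 hu, fun hI => ?_⟩).inv
    have h1 := (memI_natCast_iff hpM _).1 ((memI_iff_of_sub huk).1 hI)
    obtain ⟨j, hj⟩ := hp.out.dvd_of_dvd_pow h1
    rw [hj, pow_mul, isPrimitiveRoot_zetaP.pow_eq_one, one_pow,
      map_eq_one_iff _ σ.injective] at hk
    exact zetaP_ne_one hk
  have hc₁u : IsUnitR M c₁ := by
    have h1 : c₁ = (∏ i ∈ Finset.range h, (pi1 p / (⇑σ)^[i] (pi1 p)) ^ e') * (b0 / c0) := by
      have hit : ∀ i : ℕ, (⇑σ)^[i] a = ((⇑σ)^[i] (pi1 p)) ^ (-e') := fun i => by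
        rw [← powAut_apply, ← powAut_apply, ha, map_zpow₀]
      rw [hc₁, hs, ← mul_assoc]
      congr 1
      rw [show (pi1 p ^ s : ℂ) = ∏ _i ∈ Finset.range h, pi1 p ^ e' by
        rw [Finset.prod_const, Finset.card_range, he', mul_comm, _root_.zpow_mul, zpow_natCast],
        ← Finset.prod_mul_distrib]
      refine Finset.prod_congr rfl fun i _ => ?_
      rw [hit, _root_.zpow_neg, div_zpow, div_eq_inv_mul]
    rw [h1]
    exact (IsUnitR.prod _ _ fun i _ => (huπ i).zpow e').mul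
      ((show IsUnitR M b0 from ⟨memR_of_mem_cS hm0 hb0, hb0I⟩).mul
        (show IsUnitR M c0 from ⟨memR_of_mem_cS hm0 hc0', hc0I⟩).inv |> fun h => by
          rwa [← div_eq_mul_inv] at h)
  -- the lattice
  have hXL : ∀ g (i : ℕ) a b, (ρ g * twPow σ T₁ i) a b ∈ cL p m := by
    have hP₁L : ∀ q i j, twPow σ T₁ q i j ∈ cL p m := by
      intro q i j
      rw [hT₁, twPow_smul]
      exact mul_mem (prod_mem fun i _ => by rw [← powAut_apply]; exact aut_mem_cL haL) (hPL q i j)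
    exact fun g i a b => mul_mem_entries _ (hρL g) (hP₁L i) a b
  let v : (G × Fin h) × Fin n → (Fin n → ℂ) := fun s k' =>
    (ρ s.1.1 * twPow σ T₁ (s.1.2 : ℕ)) k' s.2
  let Bm : (Fin n → (G × Fin h) × Fin n) → Matrix (Fin n) (Fin n) ℂ := fun t =>
    Matrix.of fun k' j => v (t j) k'
  have hBL : ∀ t i j, Bm t i j ∈ cL p m := fun t i j => hXL _ _ _ _
  obtain ⟨t, -, ht0, htall⟩ := exists_dvd_all hpM Finset.univ (fun t => (Bm t).det)
    (fun t _ => Blocks.isAlgebraic_det _ fun i j => isAlgebraic_of_mem_cL hm0 (hBL t i j))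
    ⟨fun j => ((1, ⟨0, hh0⟩), j), Finset.mem_univ _, by
      have : Bm (fun j => (((1 : G), (⟨0, hh0⟩ : Fin h)), j)) = 1 := by
        ext k' j; simp [Bm, v, twPow]
      rw [this, Matrix.det_one]; exact one_ne_zero⟩
  set B := Bm t with hB
  have hBu : IsUnit B.det := isUnit_iff_ne_zero.2 ht0
  have hcoord : ∀ (g : G) (i : ℕ), i < h → ∀ a j,
      MemLocalRing M ((B⁻¹ * (ρ g * twPow σ T₁ i)) a j) := by
    intro g i hi a j
    let s : (G × Fin h) × Fin n := ((g, ⟨i, hi⟩), j)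
    have h0 : (B⁻¹ * (ρ g * twPow σ T₁ i)) a j = (B⁻¹ *ᵥ v s) a := by
      rw [Matrix.mul_apply, Matrix.mulVec, dotProduct]
    have h1 : B⁻¹ *ᵥ v s = B.det⁻¹ • Matrix.cramer B (v s) := by
      have h2 := congrArg (fun w => B⁻¹ *ᵥ w) (Matrix.mulVec_cramer B (v s))
      simp only [Matrix.mulVec_mulVec, Matrix.nonsing_inv_mul _ hBu,
        Matrix.one_mulVec, Matrix.mulVec_smul] at h2
      rw [h2, smul_smul, inv_mul_cancel₀ ht0, one_smul]
    rw [h0, h1, Pi.smul_apply, smul_eq_mul, inv_mul_eq_div, Matrix.cramer_apply]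
    have h3 : B.updateCol a (v s) = Bm (Function.update t a s) := by
      ext k' j
      rw [Matrix.updateCol_apply]
      by_cases hj : j = a
      · subst hj; simp [Bm]
      · simp [Bm, B, hj, Function.update_of_ne hj]
    rw [h3]
    exact htall _ (Finset.mem_univ _)
  have hcoord' : ∀ (g : G) (i : ℕ), i ≤ h → ∀ a j,
      MemLocalRing M ((B⁻¹ * (ρ g * twPow σ T₁ i)) a j) := by
    intro g i hi a j
    rcases lt_or_eq_of_le hi with hi | rfl
    · exact hcoord g i hi a j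
    · rw [hP₁, mul_smul_comm, mul_one, mul_smul_comm, Matrix.smul_apply, smul_eq_mul]
      refine memR_mul hc₁u.1 ?_
      have := hcoord g 0 hh0 a j
      rwa [twPow, mul_one] at this
  let ρ₂ : G →* Matrix (Fin n) (Fin n) ℂ :=
    { toFun := fun g => B⁻¹ * ρ g * B
      map_one' := by rw [map_one, mul_one, Matrix.nonsing_inv_mul _ hBu]
      map_mul' := fun a b => by
        have hBB : B * B⁻¹ = 1 := Matrix.mul_nonsing_inv _ hBu
        calc B⁻¹ * ρ (a * b) * B = B⁻¹ * ρ a * (B * B⁻¹) * ρ b * B := by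
              rw [hBB, map_mul]; simp only [mul_one, mul_assoc]
          _ = B⁻¹ * ρ a * B * (B⁻¹ * ρ b * B) := by simp only [mul_assoc] }
  have hcolB : ∀ (X : Matrix (Fin n) (Fin n) ℂ) i j, (X * B) i j =
      (X * (ρ (t j).1.1 * twPow σ T₁ ((t j).1.2 : ℕ))) i (t j).2 := fun X i j => by
    simp [Matrix.mul_apply, B, Bm, v]
  refine ⟨n, ρ₂, B⁻¹ * T₁ * mapE σ B, c₁, hn0, hn, fun g => ?_, fun g i j => ⟨?_, ?_⟩,
    fun i j => ⟨?_, ?_⟩, fun g => ?_, hc₁u, ?_, ?_⟩
  · show (B⁻¹ * ρ g * B).trace = χ g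
    rw [Matrix.trace_mul_comm, ← mul_assoc, Matrix.mul_nonsing_inv _ hBu, one_mul, htr]
  · exact mul_mem_entries _ (mul_mem_entries _ (inv_mem_of_mem _ (hBL t)) (hρL g)) (hBL t) i j
  · show MemLocalRing M ((B⁻¹ * ρ g * B) i j)
    rw [hcolB, mul_assoc, ← mul_assoc (ρ g), ← map_mul]
    exact hcoord _ _ (t j).1.2.isLt _ _
  · exact mul_mem_entries _ (mul_mem_entries _ (inv_mem_of_mem _ (hBL t)) hT₁L)
      (fun a b => aut_mem_cL (hBL t a b)) i j
  · have h1 : (T₁ * mapE σ B) = Matrix.of fun a j =>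
        (ρ (t j).1.1 * twPow σ T₁ (((t j).1.2 : ℕ) + 1)) a (t j).2 := by
      ext a j
      rw [Matrix.of_apply, twPow, ← mul_assoc, ← hT₁i, mul_assoc, ← map_mul]
      simp [Matrix.mul_apply, mapE_apply, B, Bm, v]
    rw [mul_assoc, h1, Matrix.mul_apply]
    have := hcoord' (t j).1.1 (((t j).1.2 : ℕ) + 1) (t j).1.2.isLt i (t j).2
    rw [Matrix.mul_apply] at this
    simpa using this
  · show B⁻¹ * T₁ * mapE σ B * mapE σ (B⁻¹ * ρ g * B) = B⁻¹ * ρ g * B * (B⁻¹ * T₁ * mapE σ B)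
    have h1 : mapE σ B * mapE σ B⁻¹ = 1 := by
      rw [← map_mul, Matrix.mul_nonsing_inv _ hBu, map_one]
    rw [map_mul, map_mul]
    calc B⁻¹ * T₁ * mapE σ B * (mapE σ B⁻¹ * mapE σ (ρ g) * mapE σ B)
        = B⁻¹ * T₁ * (mapE σ B * mapE σ B⁻¹) * mapE σ (ρ g) * mapE σ B := by
          simp only [mul_assoc]
      _ = B⁻¹ * (T₁ * mapE σ (ρ g)) * mapE σ B := by rw [h1, mul_one]; simp only [mul_assoc]
      _ = B⁻¹ * ρ g * (B * B⁻¹) * T₁ * mapE σ B := by
          rw [hT₁i, Matrix.mul_nonsing_inv _ hBu, mul_one]; simp only [mul_assoc]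
      _ = _ := by simp only [mul_assoc]
  · exact mul_mem (prod_mem fun i _ => by rw [← powAut_apply]; exact aut_mem_cL haL) hcL
  · rw [twPow_conj σ hBu, hP₁, hfixM _ (hBL t), mul_smul_comm, mul_one, smul_mul_assoc,
      Matrix.nonsing_inv_mul _ hBu]

end Cfsg.Agent.Chars2.Cyc
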